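import Cfsg.Agent.Lib.DolfiPair71.Descend

/-!
# Bases of the descent: the fixed space of `A`
-/

set_option autoImplicit false
set_option linter.unusedSectionVars false

namespace Cfsg.Agent.DP71

open scoped commutatorElement

open Cfsg.Agent.Lib.BaseThree

variable {V : Type} [AddCommGroup V] [Finite V] [Nontrivial V]
variable {Z F A B R : Subgroup (AddMonoid.End V)ˣ} {p : ℕ}

namespace Ctx

variable (hc : Ctx Z F A B R p)
include hc

/-- elements commuting with `A` act on its fixed space like elements of `R` -/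
theorem cen_act {f : (AddMonoid.End V)ˣ} (hf : f ∈ cenA F A) :
    ∃ r ∈ R, ∀ w ∈ fixA A, f • w = r • w ∧ r • w ∈ fixA A := by
  obtain ⟨hfF, hfA⟩ := mem_cenA.1 hf
  obtain ⟨a, ha, b, hb, r, hr, rfl⟩ := hc.decomp f hfF
  have hbF := hc.B_le hb
  have hb1 : b = 1 := hc.B_nd b hb fun c hcA => by
    have h1 := hfA c hcA
    rw [hc.sys.comm_mul (hc.A_le hcA) (F.mul_mem (hc.A_le ha) hbF) (hc.R_le hr),
      hc.sys.comm_mul (hc.A_le hcA) (hc.A_le ha) hbF, hc.A_comm c hcA a ha, hc.AR c hcA r hr,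
      one_mul, mul_one] at h1
    exact h1
  have hstab : ∀ w ∈ fixA A, r • w ∈ fixA A := fun w hw c hcA => by
    rw [Sys.swap c r, hc.AR c hcA r hr, one_smul, hw c hcA]
  exact ⟨r, hr, fun w hw => ⟨by rw [hb1, mul_one, mul_smul, hstab w hw a ha], hstab w hw⟩⟩

/-- the base when `R` is scalar, one multiple -/
theorem base_scalar (hR : R = Z) {κ : (AddMonoid.End V)ˣ} (hκ : κ ∈ Z) (h4 : κ ^ 4 ≠ 1)
    (h3 : κ ^ 3 ≠ -1)
    (hgen : ∀ g : (AddMonoid.End V)ˣ, (∀ z ∈ Z, g * z * g⁻¹ ∈ Z) → g * κ * g⁻¹ = κ →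
      ∀ z ∈ Z, g * z = z * g) :
    GoodOn Z (cenA F A) (fixA A) := by
  obtain ⟨v, hv, hv0⟩ := hc.exists_fix_ne
  have hκv : κ • v ∈ fixA A := fun c hcA => by
    rw [hc.sys.zc hκ (hc.A_le hcA), hv c hcA]
  refine ⟨v, κ • v, hv, hκv, hv0, fun e => hv0 ((smul_eq_zero_iff_eq _).1 e), ?_,
    Or.inr ⟨κ, hκ, rfl, h4, h3⟩, ?_⟩
  · intro f hf z _ _
    obtain ⟨r, hr, h⟩ := hc.cen_act hf
    exact ⟨r, hR ▸ hr, fun w hw => (h w hw).1⟩
  · intro g hgZ _ hgW hgx hgy f hf w hw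
    have hk : g * κ * g⁻¹ = κ := hc.sys.eq_of_smul_eq (hgZ κ hκ) hκ hv0 (by
      calc (g * κ * g⁻¹) • v = (g * κ * g⁻¹) • g • v := by rw [hgx]
        _ = κ • v := by rw [conj_smul, hgy])
    obtain ⟨r, hr, h⟩ := hc.cen_act hf
    rw [(h w hw).1, (h _ (hgW w hw)).1, ← mul_smul, hgen g hgZ hk r (hR ▸ hr), mul_smul]

/-- the base when `R` is scalar and the fixed space has two independent vectors -/
theorem base_indep (hR : R = Z) (hcen : ∀ g : (AddMonoid.End V)ˣ, ∀ z ∈ Z, g * z = z * g)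
    {v w0 : V} (hv : v ∈ fixA A) (hv0 : v ≠ 0) (hw : w0 ∈ fixA A) (hw0 : w0 ≠ 0)
    (hind : ∀ z ∈ Z, z • v ≠ w0) : GoodOn Z (cenA F A) (fixA A) := by
  refine ⟨v, w0, hv, hw, hv0, hw0, ?_, Or.inl ?_, ?_⟩
  · intro f hf z _ _
    obtain ⟨r, hr, h⟩ := hc.cen_act hf
    exact ⟨r, hR ▸ hr, fun w hw => (h w hw).1⟩
  · intro f hf z hz e
    obtain ⟨r, hr, h⟩ := hc.cen_act hf
    rw [(h v hv).1] at e
    exact hind (z⁻¹ * r) (Z.mul_mem (Z.inv_mem hz) (hR ▸ hr)) (by rw [mul_smul, e, inv_smul_smul])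
  · intro g _ _ hgW _ _ f hf w hw
    obtain ⟨r, hr, h⟩ := hc.cen_act hf
    rw [(h w hw).1, (h _ (hgW w hw)).1, ← mul_smul, hcen g r (hR ▸ hr), mul_smul]

end Ctx

/-- natural multiples commute with everything -/
theorem cast_commute (g : (AddMonoid.End V)ˣ) (n : ℕ) (v : V) : g • n • v = n • g • v :=
  map_nsmul (g : AddMonoid.End V) n v

end Cfsg.Agent.DP71
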