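import Cfsg.Agent.Lib.DolfiPair71.Base

/-!
# The base when `R` is a quaternion group
-/

set_option autoImplicit false
set_option linter.unusedSectionVars false
set_option linter.style.haveILetI false

namespace Cfsg.Agent.DP71

open scoped commutatorElement

open Cfsg.Agent.Lib.BaseThree

variable {V : Type} [AddCommGroup V] [Finite V] [Nontrivial V]
variable {G Z F A B R : Subgroup (AddMonoid.End V)ˣ} {K : Subring (AddMonoid.End V)} {p : ℕ}

/-- A field generator `ω` avoiding two prime field values, and with `ω - τ ω` never one of them. -/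
theorem exists_good_scalar {K : Type} [Field K] [Finite K] {p : ℕ} [Fact p.Prime] [CharP K p]
    (hp2 : p ≠ 2) (hq : 7 ≤ Nat.card K) (hns : ∀ x : K, x ^ 2 ≠ -1) (d1 d2 : ZMod p)
    (hd1 : d1 ≠ 0) (hd2 : d2 ≠ 0) :
    ∃ ω : K, ω ≠ 0 ∧ ω ≠ ZMod.castHom dvd_rfl K d1 ∧ ω ≠ ZMod.castHom dvd_rfl K d2 ∧
      (∀ τ : K →+* K, τ ω = ω → ∀ x, τ x = x) ∧
      ∀ τ : K →+* K, ω - τ ω ≠ ZMod.castHom dvd_rfl K d1 ∧ ω - τ ω ≠ ZMod.castHom dvd_rfl K d2 := by
  classical
  haveI := Fintype.ofFinite K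
  set ι := ZMod.castHom (dvd_rfl : p ∣ p) K with hι
  have hinj : Function.Injective ι := ι.injective
  have hne : ∀ d : ZMod p, d ≠ 0 → ι d ≠ 0 := fun d hd h => hd (hinj (by rw [h, map_zero]))
  have hfixι : ∀ (τ : K →+* K) (d : ZMod p), τ (ι d) = ι d := fun τ d =>
    RingHom.congr_fun (RingHom.ext_zmod (τ.comp ι) ι) d
  by_cases hprime : Function.Surjective ι
  · have hid : ∀ (τ : K →+* K) (x : K), τ x = x := fun τ x => by
      obtain ⟨d, rfl⟩ := hprime x
      exact hfixι τ d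
    have hcard : p = Nat.card K := by
      rw [← Nat.card_eq_of_bijective ι ⟨hinj, hprime⟩, Nat.card_zmod]
    obtain ⟨ω, hω⟩ : ∃ ω : ZMod p, ω ∉ ({0, d1, d2} : Finset (ZMod p)) := by
      by_contra hh
      push Not at hh
      have h1 : (Finset.univ : Finset (ZMod p)).card ≤ ({0, d1, d2} : Finset (ZMod p)).card :=
        Finset.card_le_card fun x _ => hh x
      have h2 : ({0, d1, d2} : Finset (ZMod p)).card ≤ 3 := Finset.card_le_three
      rw [Finset.card_univ, ZMod.card] at h1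
      omega
    simp only [Finset.mem_insert, Finset.mem_singleton, not_or] at hω
    refine ⟨ι ω, hne ω hω.1, fun h => hω.2.1 (hinj h), fun h => hω.2.2 (hinj h), fun τ _ => hid τ, ?_⟩
    intro τ
    rw [hid τ, sub_self]
    exact ⟨(hne d1 hd1).symm, (hne d2 hd2).symm⟩
  -- a generator of the units
  obtain ⟨u, hu⟩ := IsCyclic.exists_generator (α := Kˣ)
  set ω : K := (u : K) with hω
  have hgen : ∀ x : K, x ≠ 0 → ∃ n : ℕ, ω ^ n = x := fun x hx => by
    obtain ⟨n, hn⟩ := (mem_powers_iff_mem_zpowers (x := u)).2 (hu (Units.mk0 x hx))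
    exact ⟨n, by rw [hω, ← Units.val_pow_eq_pow_val]; exact (congrArg Units.val hn)⟩
  have hω0 : ω ≠ 0 := u.ne_zero
  have hfix : ∀ τ : K →+* K, τ ω = ω → ∀ x, τ x = x := fun τ h x => by
    by_cases hx : x = 0
    · rw [hx, map_zero]
    · obtain ⟨n, rfl⟩ := hgen x hx
      rw [map_pow, h]
  -- an odd number of squares
  set m := (Nat.card K - 1) / 2 with hm
  have hcardu : orderOf u = Nat.card K - 1 := by
    rw [orderOf_eq_card_of_forall_mem_zpowers hu, Nat.card_units]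
  have hodd : Odd (Nat.card K) := by
    obtain ⟨n, hn, hcard⟩ := FiniteField.card K p
    rw [Nat.card_eq_fintype_card, hcard]
    exact ((Fact.out : p.Prime).odd_of_ne_two hp2).pow
  obtain ⟨k, hk⟩ := hodd
  have hmk : m = k := by omega
  have hωm : ω ^ m = -1 := by
    have h1 : (ω ^ m) ^ 2 = 1 := by
      rw [← pow_mul, hω, ← Units.val_pow_eq_pow_val, show m * 2 = orderOf u by omega, pow_orderOf_eq_one,
        Units.val_one]
    rcases sq_eq_one_iff.1 h1 with h2 | h2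
    · exfalso
      have h3 : orderOf u ∣ m := orderOf_dvd_of_pow_eq_one (Units.ext (by
        rw [Units.val_pow_eq_pow_val, Units.val_one]; exact h2))
      have := Nat.le_of_dvd (by omega) h3
      omega
    · exact h2
  have hmodd : Odd m := by
    by_contra he
    rw [Nat.not_odd_iff_even] at he
    obtain ⟨l, hl⟩ := he
    exact hns (ω ^ l) (by rw [← pow_mul, mul_two, ← hl, hωm])
  obtain ⟨l, hl⟩ := hmodd
  have hroot : ω = -(ω ^ 2) ^ (l + 1) := by
    rw [← pow_mul, show 2 * (l + 1) = m + 1 by omega, pow_succ, hωm, neg_one_mul, neg_neg]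
  have hfix2 : ∀ τ : K →+* K, τ (ω ^ 2) = ω ^ 2 → ∀ x, τ x = x := fun τ h => by
    refine hfix τ ?_
    rw [hroot, map_neg, map_pow, h]
  have hnot : ∀ d : ZMod p, ω ≠ ι d := fun d h => hprime fun x => by
    by_cases hx : x = 0
    · exact ⟨0, by rw [hx, map_zero]⟩
    · obtain ⟨n, rfl⟩ := hgen x hx
      exact ⟨d ^ n, by rw [map_pow, h]⟩
  have hnot2 : ∀ d : ZMod p, ω ^ 2 ≠ ι d := fun d h => hnot (-(d ^ (l + 1))) (by
    rw [map_neg, map_pow, ← h]; exact hroot)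
  by_cases hA : ∀ τ : K →+* K, ω - τ ω ≠ ι d1 ∧ ω - τ ω ≠ ι d2
  · exact ⟨ω, hω0, hnot _, hnot _, hfix, hA⟩
  have hA' : ∃ τ : K →+* K, ∃ e : ZMod p, e ≠ 0 ∧ τ ω = ω - ι e := by
    push Not at hA
    obtain ⟨τ, hτ⟩ := hA
    by_cases h1 : ω - τ ω = ι d1
    · exact ⟨τ, d1, hd1, by rw [← h1, sub_sub_cancel]⟩
    · exact ⟨τ, d2, hd2, by rw [← hτ h1, sub_sub_cancel]⟩
  obtain ⟨τ1, e1, he1, hτ1⟩ := hA'
  have key : ∀ (τ : K →+* K) (e : ZMod p), e ≠ 0 → ω ^ 2 - τ (ω ^ 2) ≠ ι e := by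
    intro τ e he h
    obtain ⟨i, hi⟩ := hgen (τ1 ω) (fun h0 => hω0 (τ1.injective (by rw [h0, map_zero])))
    obtain ⟨j, hj⟩ := hgen (τ ω) (fun h0 => hω0 (τ.injective (by rw [h0, map_zero])))
    have hcomm : τ1 (τ ω) = τ (τ1 ω) := by
      rw [← hj, map_pow, ← hi, map_pow, ← hj, ← pow_mul, ← pow_mul, mul_comm]
    have hu1 : τ1 (τ ω) = τ ω - ι e1 := by rw [hcomm, hτ1, map_sub, hfixι]
    have h2 : (τ ω) ^ 2 = ω ^ 2 - ι e := by rw [← map_pow, ← h, sub_sub_cancel]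
    have h3 := congrArg τ1 h2
    rw [map_pow, map_sub, map_pow, hfixι, hu1, hτ1] at h3
    have h4 : (2 * ι e1) * (τ ω - ω) = 0 := by linear_combination h2 - h3
    have h20 : (2 : K) ≠ 0 := by
      intro h0
      have : ι (2 : ZMod p) = 0 := by rw [map_ofNat]; exact h0
      have h2' : ((2 : ℕ) : ZMod p) = 0 := by exact_mod_cast hinj (this.trans (map_zero ι).symm)
      exact hp2 ((Nat.prime_dvd_prime_iff_eq Fact.out Nat.prime_two).1
        ((ZMod.natCast_eq_zero_iff _ _).1 h2'))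
    have h5 : τ ω = ω := by
      rcases mul_eq_zero.1 h4 with h6 | h6
      · exact absurd h6 (mul_ne_zero h20 (hne e1 he1))
      · exact sub_eq_zero.1 h6
    rw [map_pow, h5, sub_self] at h
    exact hne e he h.symm
  exact ⟨ω ^ 2, pow_ne_zero 2 hω0, hnot2 _, hnot2 _, hfix2, fun τ => ⟨key τ d1 hd1, key τ d2 hd2⟩⟩

theorem base_quat (hc : Ctx Z F A B R p) (hp2 : p ≠ 2) (hS : FieldSetup G Z K)
    (hq : 7 ≤ Nat.card K) (hZR : Z ≤ R)
    (haniso : ∀ r ∈ R, r ∉ Z → r ^ 2 ∈ Z ∧ ∀ z ∈ Z, z ^ 2 ≠ r ^ 2)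
    {α β : (AddMonoid.End V)ˣ} (hα : α ∈ R) (hβ : β ∈ R) (hα2 : α ^ 2 = -1) (hβ2 : β ^ 2 = -1)
    (hαβ : α * β = -(β * α)) (hgenR : ∀ r ∈ R, ∃ z ∈ Z, ∃ i j : ℕ, r = z * α ^ i * β ^ j)
    (hαZ : α ∉ Z) (hβZ : β ∉ Z) :
    GoodOn Z (cenA F A) (fixA A) := by
  classical
  haveI := Fact.mk hc.prime
  haveI : Nontrivial (AddMonoid.End V) := ⟨⟨0, 1, fun h => by
    obtain ⟨v, hv⟩ := exists_ne (0 : V)
    exact hv (DFunLike.congr_fun h.symm v)⟩⟩
  letI := hS.isField.toField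
  haveI : Finite K := Finite.of_injective (fun k : K => (k : AddMonoid.End V)) Subtype.val_injective
  have hneg := hc.sys.neg_mem
  -- scalars as units
  have hunit : ∀ k : K, k ≠ 0 → ∃ z ∈ Z, ∀ v : V, z • v = k.1 v := by
    intro k hk
    rcases (hS.mem_iff k.1).1 k.2 with h | ⟨z, hz, hzk⟩
    · exact absurd (Subtype.ext h) hk
    · exact ⟨z, hz, fun v => by show (z : AddMonoid.End V) v = _; rw [hzk]⟩
  have hchar : CharP K p := (CharP.charP_iff_prime_eq_zero hc.prime).2 (by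
    apply Subtype.ext
    refine AddMonoidHom.ext fun v => ?_
    show ((p : K) : AddMonoid.End V) v = 0
    rw [show ((p : K) : AddMonoid.End V) = (p : AddMonoid.End V) from map_natCast K.subtype p]
    exact (AddMonoid.End.natCast_apply p v).trans (hc.exp v))
  haveI := hchar
  have hns : ∀ x : K, x ^ 2 ≠ -1 := by
    intro x hx
    by_cases h0 : x = 0
    · rw [h0] at hx; simp at hx
    obtain ⟨z, hz, hzv⟩ := hunit x h0
    refine (haniso α hα hαZ).2 z hz ?_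
    rw [hα2]
    refine Units.ext (AddMonoidHom.ext fun v => ?_)
    show (z ^ 2) • v = -v
    rw [pow_two, mul_smul, hzv, hzv]
    exact DFunLike.congr_fun (congrArg Subtype.val ((pow_two x).symm.trans hx)) v
  -- the two prime field coefficients
  obtain ⟨c, d, hcd⟩ := CharP.sq_add_sq K p (-1)
  set ι := ZMod.castHom (dvd_rfl : p ∣ p) K with hι
  have hd0 : (d : K) ≠ 0 := fun h => hns (c : K) (by rw [h] at hcd; simpa using hcd)
  have hc0 : (c : K) ≠ 0 := fun h => hns (d : K) (by rw [h] at hcd; simpa using hcd)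
  -- the fixed space is stable under `R`
  have hRW : ∀ r ∈ R, ∀ w ∈ fixA A, r • w ∈ fixA A := fun r hr w hw a ha => by
    rw [Sys.swap a r, hc.AR a ha r hr, one_smul, hw a ha]
  have hRF : ∀ r ∈ R, r ∈ F := fun r hr => hc.R_le hr
  -- no element outside `Z` has an eigenvector
  have hRv : ∀ r ∈ R, ∀ z ∈ Z, ∀ v : V, v ≠ 0 → r • v = z • v → r ∈ Z := by
    intro r hr z hz v hv h
    by_contra hrZ
    obtain ⟨h2, h3⟩ := haniso r hr hrZ
    refine h3 z hz (hc.sys.eq_of_smul_eq (Z.pow_mem hz 2) h2 hv ?_)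
    rw [pow_two, pow_two, mul_smul, mul_smul, h, hc.sys.zc hz (hRF r hr), h]
  have hkc : ∀ k : K, ∀ f ∈ F, ∀ v : V, f • k.1 v = k.1 (f • v) := by
    intro k f hf v
    by_cases h0 : k = 0
    · subst h0; exact smul_zero f
    · obtain ⟨z, hz, hzv⟩ := hunit k h0
      rw [← hzv, ← hzv, hc.sys.zc hz hf]
  have hKW : ∀ k : K, ∀ w ∈ fixA A, k.1 w ∈ fixA A := fun k w hw a ha => by
    rw [hkc k a (hc.A_le ha), hw a ha]
  have hkk : ∀ (k l : K) (x : V), k.1 (l.1 x) = (k * l).1 x := fun k l x => rfl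
  have hαα : ∀ x : V, α • α • x = -x := fun x => by rw [← mul_smul, ← pow_two, hα2]; rfl
  have hββ : ∀ x : V, β • β • x = -x := fun x => by rw [← mul_smul, ← pow_two, hβ2]; rfl
  have hba : ∀ x : V, α • β • x = -(β • α • x) := fun x => by rw [← mul_smul, ← mul_smul, hαβ]; rfl
  generalize hk1 : (c : K) = k1 at hcd hc0
  generalize hk2 : (d : K) = k2 at hcd hd0
  let T : V → V := fun x => k1.1 (α • x) + k2.1 (β • x)
  have hcomm : ∀ (k l : K) (x : V), k.1 (l.1 x) = l.1 (k.1 x) := fun k l x => by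
    rw [hkk, hkk, mul_comm]
  have hT2 : ∀ x, T (T x) = x := by
    intro x
    have hsq : k1.1 (k1.1 x) + k2.1 (k2.1 x) = -x := by
      have := congrArg (fun k : K => k.1 x) hcd
      simp [pow_two] at this
      exact this
    have e1 : T (T x) = -(k1.1 (k1.1 x) + k2.1 (k2.1 x)) := by
      show k1.1 (α • (k1.1 (α • x) + k2.1 (β • x))) + k2.1 (β • (k1.1 (α • x) + k2.1 (β • x))) = _
      simp only [smul_add, hkc _ _ (hRF α hα), hkc _ _ (hRF β hβ), map_add, hαα, hββ, hba, map_neg,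
        hcomm k2 k1]
      abel
    rw [e1, hsq, neg_neg]
  obtain ⟨v, hvW, hv0, hTv⟩ : ∃ v, v ∈ fixA A ∧ v ≠ 0 ∧ T v = v := by
    obtain ⟨x0, hx0W, hx0⟩ := hc.exists_fix_ne
    by_cases h : x0 + T x0 = 0
    · refine ⟨α • β • x0, hRW α hα _ (hRW β hβ _ hx0W), fun h' => hx0 ?_, ?_⟩
      · rwa [smul_eq_zero_iff_eq, smul_eq_zero_iff_eq] at h'
      · have h1 : β • α • β • x0 = α • x0 := by rw [hba, smul_neg, hββ, neg_neg]
        have h2 : α • β • α • x0 = β • x0 := by rw [hba, hαα, smul_neg, neg_neg]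
        have hT : T (α • β • x0) = -(α • β • T x0) := by
          show k1.1 (α • α • β • x0) + k2.1 (β • α • β • x0) =
            -(α • β • (k1.1 (α • x0) + k2.1 (β • x0)))
          simp only [smul_add, hkc _ _ (hRF α hα), hkc _ _ (hRF β hβ), hαα, hββ, h1, h2, map_neg,
            smul_neg]
          abel
        rw [hT, eq_neg_of_add_eq_zero_right h, smul_neg, smul_neg, neg_neg]
    · refine ⟨_, (fixA A).add_mem hx0W ((fixA A).add_mem (hKW _ _ (hRW α hα _ hx0W))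
        (hKW _ _ (hRW β hβ _ hx0W))), h, ?_⟩
      have hTadd : ∀ x y, T (x + y) = T x + T y := fun x y => by
        simp only [T, smul_add, map_add]; abel
      rw [hTadd, hT2, add_comm]
  -- coordinates
  have hind : ∀ k l k' l' : K, k.1 v + l.1 (α • v) = k'.1 v + l'.1 (α • v) → k = k' ∧ l = l' := by
    intro k l k' l' h
    have h1 : (k - k').1 v = (l' - l).1 (α • v) := by
      show k.1 v - k'.1 v = l'.1 (α • v) - l.1 (α • v)
      rw [sub_eq_sub_iff_add_eq_add, h, add_comm]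
    by_cases hl : l' - l = 0
    · refine ⟨?_, (sub_eq_zero.1 hl).symm⟩
      by_contra hk
      obtain ⟨z, hz, hzv⟩ := hunit _ (sub_ne_zero.2 hk)
      rw [hl, ← hzv] at h1
      exact hv0 ((smul_eq_zero_iff_eq _).1 h1)
    · exfalso
      obtain ⟨z', hz', hzv'⟩ := hunit _ hl
      rw [← hzv'] at h1
      by_cases hk : k - k' = 0
      · rw [hk] at h1
        exact hv0 (by simpa [smul_eq_zero_iff_eq] using h1.symm)
      · obtain ⟨z, hz, hzv⟩ := hunit _ hk
        rw [← hzv] at h1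
        exact hαZ (hRv α hα (z'⁻¹ * z) (Z.mul_mem (Z.inv_mem hz') hz) v hv0
          (by rw [mul_smul, h1, inv_smul_smul]))
  have hβv : β • v = (k2⁻¹).1 v + (-(k2⁻¹ * k1)).1 (α • v) := by
    have h1 : k2.1 (β • v) = v + -(k1.1 (α • v)) := by
      rw [← sub_eq_add_neg, eq_sub_iff_add_eq']
      exact hTv
    have h2 := congrArg (k2⁻¹).1 h1
    rw [hkk, inv_mul_cancel₀ hd0, map_add, map_neg, hkk] at h2
    exact h2
  have hγv : α • β • v = (k2⁻¹ * k1).1 v + (k2⁻¹).1 (α • v) := by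
    rw [hβv, smul_add, hkc _ _ (hRF α hα), hkc _ _ (hRF α hα), hαα, map_neg, add_comm]
    congr 1
    show -(-((k2⁻¹ * k1).1 v)) = _
    rw [neg_neg]
  -- the scalar
  have hd1 : ((c : ZMod p))⁻¹ * -1 ≠ 0 := mul_ne_zero (inv_ne_zero fun h => hc0 (by
    rw [← hk1, ← map_natCast ι, h, map_zero])) (neg_ne_zero.2 one_ne_zero)
  have hd2 : (c : ZMod p) ≠ 0 := fun h => hc0 (by rw [← hk1, ← map_natCast ι, h, map_zero])
  obtain ⟨ω, hω0, hω1, hω2, hωgen, hωd⟩ := exists_good_scalar hp2 hq hns _ _ hd1 hd2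
  have e2 : ι (c : ZMod p) = k1 := by rw [map_natCast, hk1]
  have e1 : ι ((c : ZMod p)⁻¹ * -1) = -k1⁻¹ := by
    rw [map_mul, map_inv₀, e2, map_neg, map_one, mul_neg_one]
  simp only [← hι, e1, e2] at hω1 hω2 hωd
  -- the four lines
  have hlines : ∀ r ∈ R, ∃ z : K, ∃ zu ∈ Z, (∀ x, zu • x = z.1 x) ∧ z ≠ 0 ∧
      ((r = zu ∧ r • v = z.1 v + (0 : K).1 (α • v)) ∨
       (r = zu * α ∧ r • v = (0 : K).1 v + z.1 (α • v)) ∨
       (r = zu * β ∧ r • v = (z * k2⁻¹).1 v + (z * -(k2⁻¹ * k1)).1 (α • v)) ∨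
       (r = zu * (α * β) ∧ r • v = (z * (k2⁻¹ * k1)).1 v + (z * k2⁻¹).1 (α • v))) := by
    intro r hr
    obtain ⟨z, hz, i, j, rfl⟩ := hgenR r hr
    have hpow : ∀ {x : (AddMonoid.End V)ˣ}, x ∈ F → x ^ 2 = -1 → ∀ i : ℕ,
        ∃ w ∈ Z, x ^ i = w ∨ x ^ i = w * x := by
      intro x hx hx2 i
      refine ⟨(-1) ^ (i / 2), Z.pow_mem hneg _, ?_⟩
      rw [← hx2, ← pow_mul]
      rcases Nat.even_or_odd i with ⟨k, rfl⟩ | ⟨k, rfl⟩
      · exact Or.inl (by congr 1; omega)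
      · exact Or.inr (by rw [← pow_succ]; congr 1; omega)
    obtain ⟨w1, hw1, hi⟩ := hpow (hRF α hα) hα2 i
    obtain ⟨w2, hw2, hj⟩ := hpow (hRF β hβ) hβ2 j
    have mk : ∀ zu ∈ Z, ∃ k : K, k ≠ 0 ∧ ∀ x : V, zu • x = k.1 x := fun zu hzu =>
      ⟨⟨(zu : AddMonoid.End V), hS.coe_mem hzu⟩, fun h => zu.ne_zero (congrArg Subtype.val h),
        fun x => rfl⟩
    have h0 : ∀ x : V, (0 : K).1 x = 0 := fun x => rfl
    have hcw := hc.sys.cent α (hRF α hα) w2 hw2
    rcases hi with hi | hi <;> rcases hj with hj | hj <;> rw [hi, hj]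
    · obtain ⟨k, hk, hkx⟩ := mk _ (Z.mul_mem (Z.mul_mem hz hw1) hw2)
      exact ⟨k, _, Z.mul_mem (Z.mul_mem hz hw1) hw2, hkx, hk,
        Or.inl ⟨rfl, by rw [hkx, h0, add_zero]⟩⟩
    · obtain ⟨k, hk, hkx⟩ := mk _ (Z.mul_mem (Z.mul_mem hz hw1) hw2)
      refine ⟨k, _, Z.mul_mem (Z.mul_mem hz hw1) hw2, hkx, hk,
        Or.inr (Or.inr (Or.inl ⟨by simp only [mul_assoc], ?_⟩))⟩
      rw [show z * w1 * (w2 * β) = z * w1 * w2 * β by simp only [mul_assoc], mul_smul, hkx, hβv, map_add,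
        hkk, hkk]
    · obtain ⟨k, hk, hkx⟩ := mk _ (Z.mul_mem (Z.mul_mem hz hw1) hw2)
      have e : z * (w1 * α) * w2 = z * w1 * w2 * α := by simp only [mul_assoc, hcw]
      refine ⟨k, _, Z.mul_mem (Z.mul_mem hz hw1) hw2, hkx, hk, Or.inr (Or.inl ⟨e, ?_⟩)⟩
      rw [e, mul_smul, hkx, h0, zero_add]
    · obtain ⟨k, hk, hkx⟩ := mk _ (Z.mul_mem (Z.mul_mem hz hw1) hw2)
      have e : z * (w1 * α) * (w2 * β) = z * w1 * w2 * (α * β) := by
        simp only [mul_assoc, ← mul_assoc α w2, hcw]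
      refine ⟨k, _, Z.mul_mem (Z.mul_mem hz hw1) hw2, hkx, hk,
        Or.inr (Or.inr (Or.inr ⟨e, ?_⟩))⟩
      rw [e, mul_smul, mul_smul α, hkx, hγv, map_add, hkk, hkk]
  set y := ω.1 v + (1 : K).1 (α • v) with hy
  have hyW : y ∈ fixA A := (fixA A).add_mem (hKW _ _ hvW) (hKW _ _ (hRW α hα _ hvW))
  have hy0 : y ≠ 0 := by
    intro e
    have := hind ω 1 0 0 (e.trans (by show (0 : V) = (0 : K).1 v + (0 : K).1 (α • v); simp))
    exact hω0 this.1
  refine ⟨v, y, hvW, hyW, hv0, hy0, ?_, Or.inl ?_, ?_⟩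
  · intro f hf z hz hfv
    obtain ⟨r, hr, h⟩ := hc.cen_act hf
    rw [(h v hvW).1] at hfv
    exact ⟨r, hRv r hr z hz v hv0 hfv, fun w hw => (h w hw).1⟩
  · intro f hf z hz e
    obtain ⟨r, hr, h⟩ := hc.cen_act hf
    rw [(h v hvW).1] at e
    set kz : K := ⟨(z : AddMonoid.End V), hS.coe_mem hz⟩ with hkz
    have hkz0 : kz ≠ 0 := fun h' => z.ne_zero (congrArg Subtype.val h')
    have e' : r • v = (kz * ω).1 v + kz.1 (α • v) := by
      rw [e, hy, ← hkk]
      show (z : AddMonoid.End V) (ω.1 v + α • v) = _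
      rw [map_add]
    obtain ⟨k, zu, -, -, hk, hcase⟩ := hlines r hr
    rcases hcase with ⟨-, h1⟩ | ⟨-, h1⟩ | ⟨-, h1⟩ | ⟨-, h1⟩ <;>
      obtain ⟨p1, p2⟩ := hind _ _ _ _ (e'.symm.trans h1)
    · exact hkz0 p2
    · exact mul_ne_zero hkz0 hω0 p1
    · refine hω1 (mul_left_cancel₀ (mul_ne_zero (mul_ne_zero hk (inv_ne_zero hd0)) hc0) ?_)
      have h2 : (k * k2⁻¹ * k1) * k1⁻¹ = k * k2⁻¹ := by rw [mul_assoc, mul_inv_cancel₀ hc0, mul_one]
      linear_combination ω * p2 - p1 + h2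
    · refine hω2 (mul_left_cancel₀ (mul_ne_zero hk (inv_ne_zero hd0)) ?_)
      linear_combination p1 - ω * p2
  · intro g hgZ hgF hgW hgx hgy f hf w hw
    -- the field automorphism induced by `g`
    have hτmem : ∀ k : K, conjEnd g k.1 ∈ K := by
      intro k
      rcases (hS.mem_iff k.1).1 k.2 with h0 | ⟨z, hz, hzk⟩
      · rw [h0, map_zero]; exact K.zero_mem
      · exact (hS.mem_iff _).2 (Or.inr ⟨_, hgZ z hz, by rw [← hzk]; rfl⟩)
    let τ : K →+* K := ((conjEnd g).comp K.subtype).codRestrict K hτmem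
    have hτ : ∀ (k : K) (x : V), g • k.1 x = (τ k).1 (g • x) := fun k x =>
      (conjEnd_apply_smul g k.1 x).symm
    have hαc : α ∈ cenA F A := mem_cenA.2 ⟨hRF α hα, fun a ha => hc.AR a ha α hα⟩
    have hβc : β ∈ cenA F A := mem_cenA.2 ⟨hRF β hβ, fun a ha => hc.AR a ha β hβ⟩
    obtain ⟨r, hr, hract⟩ := hc.cen_act (hgF α hαc)
    have hgα : ∀ x ∈ fixA A, g • α • x = r • g • x := fun x hx => by
      rw [← conj_smul, (hract _ (hgW x hx)).1]
    have hgαv : g • α • v = r • v := by rw [hgα v hvW, hgx]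
    have hgy' : (τ ω).1 v + r • v = ω.1 v + (1 : K).1 (α • v) := by
      calc (τ ω).1 v + r • v = g • y := by
            rw [hy, smul_add, hτ, hgx, hτ, hgαv, map_one]; rfl
        _ = _ := hgy
    obtain ⟨k, zu, hzu, hzux, hk, hcase⟩ := hlines r hr
    obtain ⟨hrv, hτω⟩ : r • v = α • v ∧ τ ω = ω := by
      rcases hcase with ⟨-, h1⟩ | ⟨-, h1⟩ | ⟨-, h1⟩ | ⟨-, h1⟩
      · rw [h1, ← add_assoc] at hgy'
        have := (hind (τ ω + k) 0 ω 1 hgy').2
        exact absurd this zero_ne_one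
      · rw [h1, ← add_assoc] at hgy'
        obtain ⟨p1, p2⟩ := hind (τ ω + 0) k ω 1 hgy'
        rw [add_zero] at p1
        refine ⟨by rw [h1, p2]; show (0 : V) + α • v = _; rw [zero_add], p1⟩
      · rw [h1, ← add_assoc] at hgy'
        obtain ⟨p1, p2⟩ := hind (τ ω + _) _ ω 1 hgy'
        exfalso
        refine (hωd τ).1 ?_
        have hkk2 : k * k2⁻¹ = -k1⁻¹ := by
          field_simp at p2 ⊢
          linear_combination -p2
        linear_combination -p1 + hkk2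
      · rw [h1, ← add_assoc] at hgy'
        obtain ⟨p1, p2⟩ := hind (τ ω + _) _ ω 1 hgy'
        exfalso
        refine (hωd τ).2 ?_
        linear_combination -p1 + k1 * p2
    have hfixK : ∀ k' : K, ∀ x : V, g • k'.1 x = k'.1 (g • x) := fun k' x => by
      rw [hτ, hωgen τ hτω k']
    have hgz : ∀ z ∈ Z, ∀ x : V, g • z • x = z • g • x := fun z hz x =>
      hfixK ⟨(z : AddMonoid.End V), hS.coe_mem hz⟩ x
    have hfx : ∀ {e r' : (AddMonoid.End V)ˣ}, e ∈ R → r' ∈ R → r' • v = e • v → r' = e := by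
      intro e r' he hr' h
      have h1 : (e⁻¹ * r') • v = (1 : (AddMonoid.End V)ˣ) • v := by
        rw [mul_smul, h, inv_smul_smul, one_smul]
      have h2 := hRv _ (R.mul_mem (R.inv_mem he) hr') 1 Z.one_mem v hv0 h1
      exact (inv_mul_eq_one.1 (hc.sys.eig _ h2 v hv0 (h1.trans (one_smul _ v)))).symm
    have hrα : r = α := hfx hα hr hrv
    have hcα : ∀ x ∈ fixA A, g • α • x = α • g • x := fun x hx => by rw [hgα x hx, hrα]
    obtain ⟨r', hr', hract'⟩ := hc.cen_act (hgF β hβc)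
    have hgβ : ∀ x ∈ fixA A, g • β • x = r' • g • x := fun x hx => by
      rw [← conj_smul, (hract' _ (hgW x hx)).1]
    have hr'v : r' • v = β • v := by
      rw [← hgx, ← hgβ v hvW, hgx, hβv, smul_add, hfixK, hfixK, hcα v hvW, hgx]
    have hrβ : r' = β := hfx hβ hr' hr'v
    have hcβ : ∀ x ∈ fixA A, g • β • x = β • g • x := fun x hx => by rw [hgβ x hx, hrβ]
    have hpowα : ∀ (n : ℕ), ∀ x ∈ fixA A, g • α ^ n • x = α ^ n • g • x := by
      intro n
      induction n with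
      | zero => intro x _; simp
      | succ n ih =>
        intro x hx
        rw [pow_succ, mul_smul, mul_smul, ih _ (hRW α hα x hx), hcα x hx]
    have hpowβ : ∀ (n : ℕ), ∀ x ∈ fixA A, g • β ^ n • x = β ^ n • g • x := by
      intro n
      induction n with
      | zero => intro x _; simp
      | succ n ih =>
        intro x hx
        rw [pow_succ, mul_smul, mul_smul, ih _ (hRW β hβ x hx), hcβ x hx]
    obtain ⟨rf, hrf, hfact⟩ := hc.cen_act hf
    obtain ⟨z, hz, i, j, rfl⟩ := hgenR rf hrf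
    rw [(hfact w hw).1, (hfact _ (hgW w hw)).1, mul_smul, mul_smul, mul_smul, mul_smul, hgz z hz,
      hpowα i _ (hRW _ (R.pow_mem hβ j) w hw), hpowβ j w hw]

end Cfsg.Agent.DP71
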