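import Mathlib
import Cfsg.Agent.Lib.BaseThree.Frame

/-!
# Pairs with trivial common stabiliser in coprime solvable linear groups: definitions
-/

set_option autoImplicit false

namespace Cfsg.Agent.DP71

open Cfsg.Agent.Lib.BaseThree

variable {V : Type} [AddCommGroup V]

/-- Two vectors fixed together only by the identity. -/
def HasPair (G : Subgroup (AddMonoid.End V)ˣ) : Prop :=
  ∃ x y : V, ∀ g ∈ G, g • x = x → g • y = y → g = 1

/-- Every primitive coprime solvable linear group in odd characteristic has a pair. -/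
def PrimitiveOK : Prop :=
  ∀ (V : Type) [AddCommGroup V] [Finite V] [Nontrivial V] (p : ℕ) [Fact p.Prime],
    p ≠ 2 → (∀ v : V, p • v = 0) → ∀ G : Subgroup (AddMonoid.End V)ˣ,
    Group.IsSolvable G → ¬ p ∣ Nat.card G → Irred G → Primitive G → HasPair G

/-- The primitive case over the field with three elements, in frame form. -/
def ThreeOK : Prop :=
  ∀ (V : Type) [AddCommGroup V] [Finite V] [Nontrivial V]
    (G Z F : Subgroup (AddMonoid.End V)ˣ) (K : Subring (AddMonoid.End V)),
    Group.IsSolvable G → ¬ 3 ∣ Nat.card G → Irred G → FieldSetup G Z K → GoodF G Z F →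
    (∀ g ∈ G, (∀ f ∈ F, g * f = f * g) → g ∈ Z) → Nat.card K = 3 → HasPair G

end Cfsg.Agent.DP71
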