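import Cfsg.Agent.Lib.DolfiPair71.StepMain

/-!
# Descending along the diagonal subgroup of a frame
-/

set_option autoImplicit false
set_option linter.unusedSectionVars false

namespace Cfsg.Agent.DP71

open scoped commutatorElement

variable {V : Type} [AddCommGroup V] [Finite V]

/-- the centraliser in `F` of a subgroup -/
def cenA (F A' : Subgroup (AddMonoid.End V)ˣ) : Subgroup (AddMonoid.End V)ˣ :=
  F ⊓ Subgroup.centralizer (A' : Set (AddMonoid.End V)ˣ)

theorem mem_cenA {F A' : Subgroup (AddMonoid.End V)ˣ} {f : (AddMonoid.End V)ˣ} :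
    f ∈ cenA F A' ↔ f ∈ F ∧ ∀ c ∈ A', ⁅c, f⁆ = 1 := by
  rw [cenA, Subgroup.mem_inf, Subgroup.mem_centralizer_iff]
  exact and_congr_right fun _ => forall₂_congr fun c _ =>
    commutatorElement_eq_one_iff_mul_comm.symm

/-- the fixed space of a subgroup -/
def fixA (A' : Subgroup (AddMonoid.End V)ˣ) : AddSubgroup V where
  carrier := {v | ∀ c ∈ A', c • v = v}
  add_mem' := fun {x y} hx hy c hc => by rw [smul_add, hx c hc, hy c hc]
  zero_mem' := fun c _ => smul_zero c
  neg_mem' := fun {x} hx c hc => by rw [smul_neg, hx c hc]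

theorem cancel_of_coprime {p n : ℕ} (hp : p.Prime) (hexp : ∀ v : V, p • v = 0) (hn : ¬ p ∣ n)
    (v : V) (h : n • v = 0) : v = 0 := by
  have h1 := addOrderOf_dvd_of_nsmul_eq_zero (hexp v)
  have h2 := addOrderOf_dvd_of_nsmul_eq_zero h
  rcases (Nat.dvd_prime hp).1 h1 with h3 | h3
  · exact AddMonoid.addOrderOf_eq_one_iff.1 h3
  · exact absurd (h3 ▸ h2) hn

/-- what we use of a frame -/
structure Ctx (Z F A B R : Subgroup (AddMonoid.End V)ˣ) (p : ℕ) : Prop where
  sys : Sys Z F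
  prime : p.Prime
  exp : ∀ v : V, p • v = 0
  A_le : A ≤ F
  B_le : B ≤ F
  R_le : R ≤ F
  A_comm : ∀ a ∈ A, ∀ a' ∈ A, ⁅a, a'⁆ = 1
  AR : ∀ a ∈ A, ∀ r ∈ R, ⁅a, r⁆ = 1
  A_nd : ∀ a ∈ A, (∀ b ∈ B, ⁅a, b⁆ = 1) → a = 1
  B_comm : ∀ b ∈ B, ∀ b' ∈ B, ⁅b, b'⁆ = 1
  B_nd : ∀ b ∈ B, (∀ a ∈ A, ⁅a, b⁆ = 1) → b = 1
  decomp : ∀ h ∈ F, ∃ a ∈ A, ∃ b ∈ B, ∃ r ∈ R, h = a * b * r
  A_cop : ¬ p ∣ Nat.card A
  B_cop : ¬ p ∣ Nat.card B
  exp_AB : ∃ N : ℕ, Squarefree N ∧ (∀ a ∈ A, a ^ N = 1) ∧ ∀ b ∈ B, b ^ N = 1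

namespace Ctx

variable {Z F A B R : Subgroup (AddMonoid.End V)ˣ} {p : ℕ} (hc : Ctx Z F A B R p)
include hc

theorem comm_inv_left {a b : (AddMonoid.End V)ˣ} (ha : a ∈ F) (hb : b ∈ F) :
    ⁅a⁻¹, b⁆ = ⁅a, b⁆⁻¹ := by
  have h1 := hc.sys.comm_mul hb ha (F.inv_mem ha)
  rw [mul_inv_cancel, commutatorElement_one_right] at h1
  rw [← commutatorElement_inv b a⁻¹, (inv_eq_of_mul_eq_one_right h1.symm).symm, inv_inv,
    commutatorElement_inv]

theorem comm_mul_left' {a a' b : (AddMonoid.End V)ˣ} (ha : a ∈ F) (ha' : a' ∈ F) (hb : b ∈ F) :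
    ⁅a * a', b⁆ = ⁅a', b⁆ * ⁅a, b⁆ := by
  rw [← commutatorElement_inv b (a * a'), hc.sys.comm_mul hb ha ha', mul_inv_rev,
    commutatorElement_inv, commutatorElement_inv]

theorem sum_B {c : (AddMonoid.End V)ˣ} (hcA : c ∈ A) (hc1 : c ≠ 1) (v : V) [Fintype B] :
    ∑ b : B, ⁅c, (b : (AddMonoid.End V)ˣ)⁆ • v = 0 := by
  obtain ⟨b0, hb0, hne⟩ : ∃ b0 ∈ B, ⁅c, b0⁆ ≠ 1 := by
    by_contra hh
    push Not at hh
    exact hc1 (hc.A_nd c hcA hh)
  by_contra hs
  refine hne (hc.sys.eig _ (hc.sys.comm_mem c (hc.A_le hcA) b0 (hc.B_le hb0)) _ hs ?_)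
  rw [Finset.smul_sum]
  refine Fintype.sum_equiv (Equiv.mulLeft (⟨b0, hb0⟩ : B)) _ _ fun b => ?_
  rw [← mul_smul, Equiv.coe_mulLeft, Subgroup.coe_mul,
    hc.sys.comm_mul (hc.A_le hcA) (hc.B_le hb0) (hc.B_le b.2)]

theorem sum_A' {A' : Subgroup (AddMonoid.End V)ˣ} (hle : A' ≤ A) {b : (AddMonoid.End V)ˣ}
    (hb : b ∈ F) {c0 : (AddMonoid.End V)ˣ} (hc0 : c0 ∈ A') (hne : ⁅c0, b⁆ ≠ 1) (v : V) [Fintype A'] :
    ∑ c : A', ⁅(c : (AddMonoid.End V)ˣ), b⁆ • v = 0 := by
  by_contra hs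
  refine hne (hc.sys.eig _ (hc.sys.comm_mem c0 (hc.A_le (hle hc0)) b hb) _ hs ?_)
  rw [Finset.smul_sum]
  refine Fintype.sum_equiv (Equiv.mulLeft (⟨c0, hc0⟩ : A')) _ _ fun c => ?_
  rw [← mul_smul, Equiv.coe_mulLeft, Subgroup.coe_mul,
    hc.comm_mul_left' (hc.A_le (hle hc0)) (hc.A_le (hle c.2)) hb]
  congr 1
  exact (hc.sys.cent _ (hc.sys.Z_le (hc.sys.comm_mem _ (hc.A_le (hle hc0)) b hb)) _
    (hc.sys.comm_mem _ (hc.A_le (hle c.2)) b hb))

/-- `V` is spanned by the translates of the fixed space of `A` -/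
theorem span_frame (S : AddSubgroup V) (h : ∀ b ∈ B, ∀ w ∈ fixA A, b • w ∈ S) (u : V) : u ∈ S := by
  classical
  haveI := Fintype.ofFinite A
  haveI := Fintype.ofFinite B
  let P : B → V := fun b => ∑ a : A, ⁅(a : (AddMonoid.End V)ˣ), (b : (AddMonoid.End V)ˣ)⁆⁻¹ •
    (a : (AddMonoid.End V)ˣ) • u
  have hP : ∀ b : B, (b : (AddMonoid.End V)ˣ)⁻¹ • P b ∈ fixA A := by
    intro b c hcA
    apply MulAction.injective (b : (AddMonoid.End V)ˣ)
    show (b : (AddMonoid.End V)ˣ) • c • _ = (b : (AddMonoid.End V)ˣ) • _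
    have hcb := hc.sys.comm_mem c (hc.A_le hcA) _ (hc.B_le b.2)
    have e := Sys.swap c (b : (AddMonoid.End V)ˣ) ((b : (AddMonoid.End V)ˣ)⁻¹ • P b)
    rw [smul_inv_smul] at e
    rw [smul_inv_smul]
    have h1 : c • P b = ⁅c, (b : (AddMonoid.End V)ˣ)⁆ • P b := by
      show c • ∑ a : A, _ = _ • ∑ a : A, _
      rw [Finset.smul_sum, Finset.smul_sum]
      refine Fintype.sum_equiv (Equiv.mulLeft (⟨c, hcA⟩ : A)) _ _ fun a => ?_
      have hab := hc.sys.comm_mem _ (hc.A_le a.2) _ (hc.B_le b.2)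
      rw [hc.sys.zc (Z.inv_mem hab) (hc.A_le hcA), ← mul_smul c, Equiv.coe_mulLeft, Subgroup.coe_mul,
        ← mul_smul (⁅c, (b : (AddMonoid.End V)ˣ)⁆)]
      congr 1
      show _ = ⁅c, (b : (AddMonoid.End V)ˣ)⁆ * ⁅c * (a : (AddMonoid.End V)ˣ), (b : (AddMonoid.End V)ˣ)⁆⁻¹
      rw [hc.comm_mul_left' (hc.A_le hcA) (hc.A_le a.2) (hc.B_le b.2), mul_inv_rev, mul_inv_cancel_left]
    rw [h1] at e
    exact (MulAction.injective _ e).symm
  have hsum : ∑ b : B, P b = Nat.card B • u := by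
    show ∑ b : B, ∑ a : A, _ = _
    rw [Finset.sum_comm, Finset.sum_eq_single (1 : A)]
    · simp [Nat.card_eq_fintype_card]
    · intro a _ ha
      refine (Finset.sum_congr rfl fun (b : B) _ => ?_).trans (hc.sum_B (A.inv_mem a.2)
        (fun e => ha (Subtype.ext (by simpa using e))) ((a : (AddMonoid.End V)ˣ) • u))
      rw [hc.comm_inv_left (hc.A_le a.2) (hc.B_le b.2)]
    · intro hh
      exact absurd (Finset.mem_univ _) hh
  have h1 : Nat.card B • u ∈ S := by
    rw [← hsum]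
    exact S.sum_mem fun b _ => by
      have := h b b.2 _ (hP b)
      rwa [smul_inv_smul] at this
  have h2 : (p : ℕ) • u ∈ S := by rw [hc.exp]; exact S.zero_mem
  have hco : Nat.Coprime (Nat.card B) p := ((hc.prime.coprime_iff_not_dvd).2 hc.B_cop).symm
  have h4 := Nat.gcd_eq_gcd_ab (Nat.card B) p
  rw [hco, Nat.cast_one] at h4
  have h5 : u = (Nat.gcdA (Nat.card B) p) • (Nat.card B • u) + (Nat.gcdB (Nat.card B) p) • (p • u) := by
    rw [← natCast_zsmul, ← natCast_zsmul u p, ← mul_zsmul, ← mul_zsmul, ← add_zsmul, mul_comm _ (Nat.card B : ℤ),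
      mul_comm _ (p : ℤ), ← h4, one_zsmul]
  rw [h5]
  exact S.add_mem (S.zsmul_mem h1 _) (S.zsmul_mem h2 _)

/-- additive maps agreeing on the translates of the fixed space of `A` are equal -/
theorem ext_frame {T T' : V →+ V}
    (h : ∀ b ∈ B, ∀ w ∈ fixA A, T (b • w) = T' (b • w)) : T = T' :=
  AddMonoidHom.ext fun u => hc.span_frame (AddMonoidHom.eqLocus T T') h u

theorem exists_fix_ne [Nontrivial V] : ∃ v ∈ fixA A, v ≠ 0 := by
  by_contra hne
  push Not at hne
  obtain ⟨u, hu⟩ := exists_ne (0 : V)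
  refine hu ?_
  have := hc.ext_frame (T := AddMonoidHom.id V) (T' := 0) fun b _ w hw => by
    rw [hne w hw, smul_zero, map_zero, map_zero]
  exact DFunLike.congr_fun this u

/-- an element outside `A'` moves some fixed vector of `A'` through a partner in `B` -/
theorem exists_partner [Nontrivial V] {A' : Subgroup (AddMonoid.End V)ˣ} (hle : A' ≤ A)
    {a : (AddMonoid.End V)ˣ} (ha : a ∈ A) (ha' : a ∉ A') :
    ∃ b ∈ B, (∀ c ∈ A', ⁅c, b⁆ = 1) ∧ ⁅a, b⁆ ≠ 1 := by
  classical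
  by_contra hne
  push Not at hne
  haveI := Fintype.ofFinite A'
  haveI := Fintype.ofFinite B
  obtain ⟨u, hu⟩ := exists_ne (0 : V)
  let S : (AddMonoid.End V)ˣ → V → V := fun e v => ∑ c : A', (e * (c : (AddMonoid.End V)ˣ)) • v
  have hS : ∀ e, ∀ x y, S e (x + y) = S e x + S e y := fun e x y => by
    simp only [S, smul_add, Finset.sum_add_distrib]
  -- multiplying the averaging operator by `a⁻¹` changes nothing
  have hTT : AddMonoidHom.mk' (S a⁻¹) (hS _) = AddMonoidHom.mk' (S 1) (hS _) := by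
    refine hc.ext_frame fun b hb w hw => ?_
    simp only [AddMonoidHom.mk'_apply]
    show ∑ c : A', _ = ∑ c : A', _
    have h1 : ∀ e ∈ A, ∀ c : A', (e * (c : (AddMonoid.End V)ˣ)) • b • w =
        ⁅e, b⁆ • ⁅(c : (AddMonoid.End V)ˣ), b⁆ • b • w := by
      intro e he c
      have hca : (c : (AddMonoid.End V)ˣ) ∈ A := hle c.2
      rw [mul_smul, Sys.swap (c : (AddMonoid.End V)ˣ) b, hw _ hca,
        hc.sys.zc (hc.sys.comm_mem _ (hc.A_le hca) b (hc.B_le hb)) (hc.A_le he),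
        Sys.swap e b, hw _ he,
        ← hc.sys.zc (z := ⁅(c : (AddMonoid.End V)ˣ), b⁆) (hc.sys.comm_mem _ (hc.A_le hca) b (hc.B_le hb))
          (hc.sys.Z_le (hc.sys.comm_mem e (hc.A_le he) b (hc.B_le hb)))]
    rw [Finset.sum_congr rfl fun c _ => h1 a⁻¹ (A.inv_mem ha) c,
      Finset.sum_congr rfl fun c _ => h1 1 A.one_mem c, ← Finset.smul_sum, ← Finset.smul_sum,
      commutatorElement_one_left, one_smul]
    by_cases hb' : ∀ c ∈ A', ⁅c, b⁆ = 1
    · rw [hc.comm_inv_left (hc.A_le ha) (hc.B_le hb), hne b hb hb', inv_one, one_smul]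
    · push Not at hb'
      obtain ⟨c0, hc0, hc0'⟩ := hb'
      rw [hc.sum_A' hle (hc.B_le hb) hc0 hc0', smul_zero]
  -- conjugate by `B` and add
  have key : ∀ e ∈ A, ∑ b : B, (b : (AddMonoid.End V)ˣ) • S e ((b : (AddMonoid.End V)ˣ)⁻¹ • u) =
      ∑ c : A', if e * (c : (AddMonoid.End V)ˣ) = 1 then Nat.card B • u else 0 := by
    intro e he
    simp only [S, Finset.smul_sum]
    rw [Finset.sum_comm]
    refine Finset.sum_congr rfl fun c _ => ?_
    set d := e * (c : (AddMonoid.End V)ˣ) with hd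
    have hdA : d ∈ A := A.mul_mem he (hle c.2)
    have h1 : ∀ b : B, (b : (AddMonoid.End V)ˣ) • d • (b : (AddMonoid.End V)ˣ)⁻¹ • u =
        ⁅d⁻¹, (b : (AddMonoid.End V)ˣ)⁆ • d • u := by
      intro b
      rw [← mul_smul, ← mul_smul, ← mul_smul]
      congr 1
      rw [hc.comm_inv_left (hc.A_le hdA) (hc.B_le b.2), commutatorElement_def]
      group
    rw [Finset.sum_congr rfl fun b _ => h1 b]
    split_ifs with hd1
    · simp [hd1, Nat.card_eq_fintype_card]
    · exact hc.sum_B (A.inv_mem hdA) (fun h' => hd1 (inv_eq_one.1 h')) _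
  have h1 := key a⁻¹ (A.inv_mem ha)
  have h2 := key 1 A.one_mem
  have h3 : ∀ x, S a⁻¹ x = S 1 x := fun x => DFunLike.congr_fun hTT x
  rw [Finset.sum_congr rfl fun (b : B) _ => congrArg ((b : (AddMonoid.End V)ˣ) • ·) (h3 _), h2,
    Finset.sum_eq_single (1 : A'), Finset.sum_eq_zero] at h1
  · simp only [OneMemClass.coe_one, mul_one, if_true] at h1
    exact hu (cancel_of_coprime hc.prime hc.exp hc.B_cop u h1)
  · intro c _
    rw [if_neg]
    intro e
    exact ha' (by rw [inv_mul_eq_one.1 e]; exact c.2)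
  · intro c _ hne'
    rw [if_neg]
    intro e
    exact hne' (Subtype.ext (by simpa using e))
  · intro hh
    exact absurd (Finset.mem_univ _) hh

theorem descend [Nontrivial V] (A1 : Subgroup (AddMonoid.End V)ˣ)
    (hbase : GoodOn Z (cenA F A1) (fixA A1)) (hA1 : A1 ≤ A) :
    ∀ A' : Subgroup (AddMonoid.End V)ˣ, A' ≤ A1 → GoodOn Z (cenA F A') (fixA A') := by
  classical
  suffices h : ∀ n, ∀ A' : Subgroup (AddMonoid.End V)ˣ, A' ≤ A1 → Nat.card A1 ≤ Nat.card A' + n →
      GoodOn Z (cenA F A') (fixA A') from fun A' hA' => h _ A' hA' (Nat.le_add_left _ _)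
  intro n
  induction n with
  | zero =>
    intro A' hA' hcard
    rwa [Subgroup.eq_of_le_of_card_ge hA' hcard]
  | succ n ih =>
    intro A' hA' hcard
    by_cases heq : A1 ≤ A'
    · rwa [le_antisymm hA' heq]
    -- inside `A1`
    obtain ⟨x, hx, hx'⟩ := SetLike.not_le_iff_exists.1 heq
    obtain ⟨a, haA1, ha', r, hr, har⟩ : ∃ a ∈ A1, a ∉ A' ∧ ∃ r : ℕ, r.Prime ∧ a ^ r = 1 := by
      obtain ⟨N, hN, hNA, hNB⟩ := hc.exp_AB
      by_contra hno
      push Not at hno
      have key : ∀ k, ∀ y ∈ A1, orderOf y ≤ k → y ∈ A' := by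
        intro k
        induction k with
        | zero => intro y _ h0; exact absurd (orderOf_pos y) (by omega)
        | succ k ihk =>
          intro y hy hyk
          by_cases h1 : orderOf y = 1
          · rw [orderOf_eq_one_iff.1 h1]; exact A'.one_mem
          obtain ⟨r, hr, m, hm⟩ := Nat.exists_prime_and_dvd h1
          by_cases hm1 : m = 1
          · by_contra hy'
            exact hno y hy hy' r hr (by rw [← orderOf_dvd_iff_pow_eq_one, hm, hm1, mul_one])
          have hm0 : 0 < m := by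
            rcases Nat.eq_zero_or_pos m with rfl | h0
            · exact absurd (orderOf_pos y) (by omega)
            · exact h0
          have hco : r.Coprime m := Nat.coprime_of_squarefree_mul
            (hm ▸ hN.squarefree_of_dvd (orderOf_dvd_of_pow_eq_one (hNA y (hA1 hy))))
          have e1 : orderOf (y ^ r) = m := by
            rw [orderOf_pow_of_dvd hr.ne_zero ⟨m, hm⟩, hm, Nat.mul_div_cancel_left _ hr.pos]
          have e2 : orderOf (y ^ m) = r := by
            rw [orderOf_pow_of_dvd hm0.ne' ⟨r, by rw [hm, mul_comm]⟩, hm, Nat.mul_div_cancel _ hm0]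
          have hr2 := hr.two_le
          have l1 : m < r * m := by nlinarith
          have l2 : r < r * m := by nlinarith [show 2 ≤ m by omega]
          have h3 := ihk _ (A1.pow_mem hy r) (by omega)
          have h4 := ihk _ (A1.pow_mem hy m) (by omega)
          have := Nat.gcd_eq_gcd_ab r m
          rw [hco, Nat.cast_one] at this
          rw [show y = (y ^ r) ^ (Nat.gcdA r m) * (y ^ m) ^ (Nat.gcdB r m) by
            rw [← zpow_natCast y r, ← zpow_natCast y m, ← zpow_mul, ← zpow_mul, ← zpow_add, ← this,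
              zpow_one]]
          exact A'.mul_mem (A'.zpow_mem h3 _) (A'.zpow_mem h4 _)
      exact hx' (key _ x hx le_rfl)
    have ha : a ∈ A := hA1 haA1
    obtain ⟨b0, hb0, hb0c, hab0⟩ := hc.exists_partner (hA'.trans hA1) ha ha'
    -- a partner of order `r`
    haveI := Fact.mk hr
    have hord : orderOf ⁅a, b0⁆ = r := by
      refine orderOf_eq_prime ?_ hab0
      have : ⁅b0, a⁆ ^ r = 1 := by
        rw [← hc.sys.comm_pow (hc.B_le hb0) (hc.A_le ha), har, commutatorElement_one_right]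
      rw [← commutatorElement_inv, inv_pow, this, inv_one]
    obtain ⟨N, hN, hNA, hNB⟩ := hc.exp_AB
    obtain ⟨m, hm⟩ : r ∣ orderOf b0 := by
      rw [← hord]
      exact orderOf_dvd_of_pow_eq_one (by
        rw [← hc.sys.comm_pow (hc.A_le ha) (hc.B_le hb0), pow_orderOf_eq_one, commutatorElement_one_right])
    have hco : r.Coprime m := Nat.coprime_of_squarefree_mul
      (hm ▸ hN.squarefree_of_dvd (orderOf_dvd_of_pow_eq_one (hNB b0 hb0)))
    set b := b0 ^ m with hb
    have hbB : b ∈ B := B.pow_mem hb0 m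
    have hbc : ∀ c ∈ A', ⁅c, b⁆ = 1 := fun c hcc => by
      rw [hb, hc.sys.comm_pow (hc.A_le (hA1 (hA' hcc))) (hc.B_le hb0), hb0c c hcc, one_pow]
    have hab : ⁅a, b⁆ ≠ 1 := by
      rw [hb, hc.sys.comm_pow (hc.A_le ha) (hc.B_le hb0)]
      intro e
      have h1 := orderOf_dvd_of_pow_eq_one e
      rw [hord] at h1
      exact hr.one_lt.ne' (Nat.Coprime.eq_one_of_dvd hco h1)
    have hac : a ∈ cenA F A' := mem_cenA.2 ⟨hc.A_le ha, fun c hcc => hc.A_comm c (hA1 (hA' hcc)) a ha⟩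
    have hd : StepData Z (cenA F A') (fixA A') r a b :=
      { sys :=
          { Z_le := fun z hz => mem_cenA.2 ⟨hc.sys.Z_le hz, fun c hcc =>
              commutatorElement_eq_one_iff_mul_comm.2 (hc.sys.cent c (hc.A_le (hA1 (hA' hcc))) z hz)⟩
            cent := fun f hf => hc.sys.cent f (mem_cenA.1 hf).1
            comm_mem := fun f hf g hg => hc.sys.comm_mem f (mem_cenA.1 hf).1 g (mem_cenA.1 hg).1
            eig := hc.sys.eig
            cyclic := hc.sys.cyclic
            neg_mem := hc.sys.neg_mem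
            two := hc.sys.two }
        stable := fun f hf w hw c hcc => by
          rw [Sys.swap c f, (mem_cenA.1 hf).2 c hcc, one_smul, hw c hcc]
        prime := hr
        a_mem := hac
        b_mem := mem_cenA.2 ⟨hc.B_le hbB, hbc⟩
        a_pow := har
        b_pow := by rw [hb, ← pow_mul, mul_comm, ← hm, pow_orderOf_eq_one]
        ne := hab
        cancel := cancel_of_coprime hc.prime hc.exp (fun hd => hc.A_cop (hd.trans (by
          rw [← hord]
          have h1 : orderOf a = r := orderOf_eq_prime har (fun e => ha' (by rw [e]; exact A'.one_mem))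
          rw [hord, ← h1, ← Subgroup.orderOf_mk a ha]
          exact orderOf_dvd_natCard _))) }
    -- the larger subgroup
    let A2 := A' ⊔ Subgroup.zpowers a
    have hA2 : A2 ≤ A1 := sup_le hA' ((Subgroup.zpowers_le).2 haA1)
    have hA2a : a ∈ A2 := Subgroup.mem_sup_right (Subgroup.mem_zpowers a)
    have hlt : Nat.card A' < Nat.card A2 := by
      by_contra hh
      have := Subgroup.eq_of_le_of_card_ge (le_sup_left : A' ≤ A2) (not_lt.1 hh)
      exact ha' (this ▸ hA2a)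
    have hg := ih A2 hA2 (by omega)
    have e1 : cen (cenA F A') a = cenA F A2 := by
      ext f
      rw [mem_cen, mem_cenA, mem_cenA]
      refine ⟨fun ⟨⟨h1, h2⟩, h3⟩ => ⟨h1, fun c hcc => ?_⟩,
        fun ⟨h1, h2⟩ => ⟨⟨h1, fun c hcc => h2 c (Subgroup.mem_sup_left hcc)⟩, h2 a hA2a⟩⟩
      have hle : A2 ≤ Subgroup.centralizer {f} := by
        refine sup_le (fun c hc' => ?_) ((Subgroup.zpowers_le).2 ?_)
        · exact Subgroup.mem_centralizer_singleton_iff.2
            (commutatorElement_eq_one_iff_mul_comm.1 (h2 c hc'))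
        · exact Subgroup.mem_centralizer_singleton_iff.2 (commutatorElement_eq_one_iff_mul_comm.1 h3)
      exact commutatorElement_eq_one_iff_mul_comm.2 (Subgroup.mem_centralizer_singleton_iff.1 (hle hcc))
    have e2 : fixOn (fixA A') a = fixA A2 := by
      ext v
      refine ⟨fun ⟨h1, h2⟩ => ?_, fun h1 => ⟨fun c hcc => h1 c (Subgroup.mem_sup_left hcc), h1 a hA2a⟩⟩
      intro c hcc
      have hle : A2 ≤ MulAction.stabilizer (AddMonoid.End V)ˣ v :=
        sup_le (fun c hc' => h1 c hc') ((Subgroup.zpowers_le).2 h2)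
      exact hle hcc
    rw [← e1, ← e2] at hg
    exact goodOn_step hd hg

end Ctx

end Cfsg.Agent.DP71
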