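import Cfsg.Agent.Lib.DolfiPair71.Base

/-!
# The base over the field with five elements
-/

set_option autoImplicit false
set_option linter.unusedSectionVars false
set_option linter.style.haveILetI false

namespace Cfsg.Agent.DP71

open scoped commutatorElement

/-- coordinates -/
abbrev V4 : Type := Fin 2 → Fin 2 → ZMod 5

/-- an operator `k · a₁^i a₂^j b₁^s b₂^t` -/
abbrev Op : Type := ZMod 5 × Fin 2 × Fin 2 × Fin 2 × Fin 2

/-- action of an operator on coordinates -/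
def opAct (o : Op) (c : V4) : V4 := fun e f =>
  o.1 * (-1) ^ (o.2.1.val * e.val + o.2.2.1.val * f.val) * c (e - o.2.2.2.1) (f - o.2.2.2.2)

/-- first vector -/
def cx : V4 := ![![0, 1], ![1, 1]]
/-- second vector -/
def cy : V4 := ![![1, 0], ![1, 3]]
/-- the first generator -/
def gA : Op := (1, 1, 0, 0, 0)
/-- the second generator -/
def gA2 : Op := (1, 0, 1, 0, 0)

/-- coordinates of the unit vectors in the basis `x, y, a x, a y` -/
def cinv : Fin 2 → Fin 2 → Fin 4 → ZMod 5 :=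
  ![![![0, 3, 0, 3], ![3, 0, 3, 0]], ![![2, 1, 3, 4], ![1, 4, 4, 1]]]

/-- the map sending `x, y, a x, a y` to `x, y, o x, o y` -/
def gmap (o : Op) (c : V4) : V4 := fun e f =>
  ∑ i : Fin 2, ∑ j : Fin 2, c i j *
    (cinv i j 0 * cx e f + cinv i j 1 * cy e f + cinv i j 2 * opAct o cx e f + cinv i j 3 * opAct o cy e f)

/-- unit vectors -/
def unitV (i j : Fin 2) : V4 := fun e f => if e = i ∧ f = j then 1 else 0

theorem cert_eig : ∀ o : Op, o.1 ≠ 0 → ∀ k : ZMod 5, opAct o cx = (fun e f => k * cx e f) →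
    o.2.1 = 0 ∧ o.2.2.1 = 0 ∧ o.2.2.2.1 = 0 ∧ o.2.2.2.2 = 0 := by
  decide +kernel

theorem cert_indep : ∀ o : Op, ∀ k : ZMod 5, k ≠ 0 → opAct o cx ≠ fun e f => k * cy e f := by
  decide +kernel

set_option synthInstance.maxSize 4000 in
set_option synthInstance.maxHeartbeats 400000 in
set_option maxRecDepth 8000 in
theorem cert_rigid : ∀ o : Op, o.1 ≠ 0 →
    (∀ i j, gmap o (opAct gA (unitV i j)) = opAct o (gmap o (unitV i j))) →
    ∀ o' : Op, (∀ i j, gmap o (opAct gA2 (unitV i j)) = opAct o' (gmap o (unitV i j))) → o = gA := by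
  decide +kernel

theorem cert_id : ∀ i j, gmap gA (unitV i j) = unitV i j := by decide +kernel

theorem cert_cinv : ∀ i j, unitV i j = fun e f =>
    cinv i j 0 * cx e f + cinv i j 1 * cy e f + cinv i j 2 * opAct gA cx e f +
      cinv i j 3 * opAct gA cy e f := by
  decide +kernel

theorem fifth : ∀ k : ZMod 5, k ≠ 0 → k * k * k * k = 1 := by decide

theorem four_ne : (4 : ZMod 5) ≠ 0 := by decide

theorem cx_ne : cx 0 1 ≠ 0 := by decide

theorem cy_ne : cy 0 0 ≠ 0 := by decide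

theorem gmap_eq_sum (o : Op) (c : V4) :
    gmap o c = ∑ i : Fin 2, ∑ j : Fin 2, c i j • gmap o (unitV i j) := by
  funext e f
  simp [gmap, unitV, Fin.sum_univ_two, Finset.sum_apply]

theorem v4_eq_sum (c : V4) : c = ∑ i : Fin 2, ∑ j : Fin 2, c i j • unitV i j := by
  funext e f
  fin_cases e <;> fin_cases f <;> simp [Fin.sum_univ_two, unitV]

variable {V : Type} [AddCommGroup V] [Finite V] [Nontrivial V]
variable {Z F A B R : Subgroup (AddMonoid.End V)ˣ}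

theorem base_five (hc : Ctx Z F A B R 5) (hR : R = Z) [Module (ZMod 5) V]
    (hZ : ∀ z ∈ Z, ∃ k : ZMod 5, k ≠ 0 ∧ ∀ u : V, z • u = k • u)
    {v : V} (hv : v ∈ fixA A) (hv0 : v ≠ 0) (hline : ∀ w ∈ fixA A, ∃ k : ZMod 5, w = k • v)
    (hA : 2 < Nat.card A) :
    ∃ A1 ≤ A, GoodOn Z (cenA F A1) (fixA A1) := by
  classical
  haveI : Fact (Nat.Prime 5) := ⟨by norm_num⟩
  have hsm : ∀ (g : (AddMonoid.End V)ˣ) (k : ZMod 5) (u : V), g • (k • u) = k • g • u := fun g k u => by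
    rw [← ZMod.natCast_zmod_val k, Nat.cast_smul_eq_nsmul, Nat.cast_smul_eq_nsmul]
    exact cast_commute g k.val u
  have hz4 : ∀ z ∈ Z, z ^ 4 = 1 := by
    intro z hz
    obtain ⟨k, hk, hzk⟩ := hZ z hz
    refine Units.ext (AddMonoidHom.ext fun u => ?_)
    show (z ^ 4) • u = u
    rw [show (4 : ℕ) = 1 + 1 + 1 + 1 from rfl, pow_add, pow_add, pow_add, pow_one, mul_smul, mul_smul,
      mul_smul, hzk, hzk, hzk, hzk, smul_smul, smul_smul, smul_smul,
      fifth k hk, one_smul]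
  obtain ⟨N, hN, hNA, hNB⟩ := hc.exp_AB
  have hsq : ∀ a ∈ A, ∀ b ∈ B, ⁅a, b⁆ = 1 ∨ ⁅a, b⁆ = -1 := by
    intro a ha b hb
    have hcZ := hc.sys.comm_mem a (hc.A_le ha) b (hc.B_le hb)
    have h4 := orderOf_dvd_of_pow_eq_one (hz4 _ hcZ)
    have hNd : orderOf ⁅a, b⁆ ∣ N := orderOf_dvd_of_pow_eq_one (by
      rw [← hc.sys.comm_pow (hc.A_le ha) (hc.B_le hb), hNB b hb, commutatorElement_one_right])
    have hsf := hN.squarefree_of_dvd hNd
    have h2 : orderOf ⁅a, b⁆ ∣ 2 := by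
      obtain ⟨k, hk, he⟩ := (Nat.dvd_prime_pow Nat.prime_two (m := 2)).1 (by simpa using h4)
      rw [he] at hsf ⊢
      interval_cases k
      · norm_num
      · norm_num
      · exact absurd (hsf 2 (by norm_num)) (by simp)
    set c := ⁅a, b⁆
    have hc2 : c ^ 2 = 1 := orderOf_dvd_iff_pow_eq_one.1 h2
    by_cases h1 : c • v + v = 0
    · exact Or.inr (hc.sys.eq_of_smul_eq hcZ hc.sys.neg_mem hv0
        (by rw [neg_one_smul', eq_neg_of_add_eq_zero_left h1]))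
    · exact Or.inl (hc.sys.eig c hcZ _ h1 (by
        rw [smul_add, ← mul_smul, ← pow_two, hc2, one_smul, add_comm]))
  have hA2 : ∀ a ∈ A, a ^ 2 = 1 := fun a ha => hc.A_nd _ (A.pow_mem ha 2) fun b hb => by
    have h := hsq a ha b hb
    rw [pow_two, hc.comm_mul_left' (hc.A_le ha) (hc.A_le ha) (hc.B_le hb)]
    rcases h with h | h <;> rw [h] <;> simp
  have hB2 : ∀ b ∈ B, b ^ 2 = 1 := fun b hb => hc.B_nd _ (B.pow_mem hb 2) fun a ha => by
    rw [hc.sys.comm_pow (hc.A_le ha) (hc.B_le hb)]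
    rcases hsq a ha b hb with h | h <;> rw [h] <;> simp
  -- two dual pairs
  obtain ⟨a1, ha1, ha11⟩ : ∃ a ∈ A, a ≠ 1 := by
    by_contra hh
    push Not at hh
    have : A = ⊥ := eq_bot_iff.2 fun a ha => Subgroup.mem_bot.2 (hh a ha)
    rw [this, Subgroup.card_bot] at hA
    omega
  obtain ⟨b1, hb1, -, hab1⟩ := hc.exists_partner (bot_le) ha1 (by rwa [Subgroup.mem_bot])
  replace hab1 : ⁅a1, b1⁆ = -1 := (hsq a1 ha1 b1 hb1).resolve_left hab1
  obtain ⟨a2, ha2, ha2n, hab21⟩ : ∃ a ∈ A, a ∉ Subgroup.zpowers a1 ∧ ⁅a, b1⁆ = 1 := by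
    obtain ⟨a, ha, han⟩ : ∃ a ∈ A, a ∉ Subgroup.zpowers a1 := by
      by_contra hh
      push Not at hh
      have h1 := Subgroup.card_le_of_le (hh : A ≤ Subgroup.zpowers a1)
      rw [Nat.card_zpowers] at h1
      have := Nat.le_of_dvd two_pos (orderOf_dvd_of_pow_eq_one (hA2 a1 ha1))
      omega
    rcases hsq a ha b1 hb1 with h | h
    · exact ⟨a, ha, han, h⟩
    · refine ⟨a * a1, A.mul_mem ha ha1, fun h' => han ?_, ?_⟩
      · simpa using (Subgroup.zpowers a1).mul_mem h' ((Subgroup.zpowers a1).inv_mem (Subgroup.mem_zpowers a1))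
      · rw [hc.comm_mul_left' (hc.A_le ha) (hc.A_le ha1) (hc.B_le hb1), h, hab1, neg_mul_neg, one_mul]
  obtain ⟨b2, hb2, hb2c, hab2⟩ := hc.exists_partner ((Subgroup.zpowers_le).2 ha1) ha2 ha2n
  replace hab2 : ⁅a2, b2⁆ = -1 := (hsq a2 ha2 b2 hb2).resolve_left hab2
  have hab12 : ⁅a1, b2⁆ = 1 := hb2c a1 (Subgroup.mem_zpowers a1)
  have hneg1 : (-1 : (AddMonoid.End V)ˣ) ≠ 1 := neg_one_ne hc.sys hv0
  set A1 := A ⊓ Subgroup.centralizer {b1} ⊓ Subgroup.centralizer {b2} with hA1def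
  have hmemA1 : ∀ c, c ∈ A1 ↔ c ∈ A ∧ ⁅c, b1⁆ = 1 ∧ ⁅c, b2⁆ = 1 := fun c => by
    rw [hA1def, Subgroup.mem_inf, Subgroup.mem_inf, Subgroup.mem_centralizer_singleton_iff,
      Subgroup.mem_centralizer_singleton_iff, commutatorElement_eq_one_iff_mul_comm,
      commutatorElement_eq_one_iff_mul_comm, and_assoc]
  refine ⟨A1, inf_le_left.trans inf_le_left, ?_⟩
  -- decompositions
  have pick : ∀ {x : (AddMonoid.End V)ˣ}, x = 1 ∨ x = -1 → ∃ i : Fin 2, x = (-1) ^ i.val := by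
    rintro x (h | h)
    · exact ⟨0, by simp [h]⟩
    · exact ⟨1, by simp [h]⟩
  have hsplitA : ∀ a ∈ A, ∃ i j : Fin 2, ∃ c ∈ A1, a = a1 ^ i.val * a2 ^ j.val * c := by
    intro a ha
    obtain ⟨i, hi⟩ := pick (hsq a ha b1 hb1)
    obtain ⟨j, hj⟩ := pick (hsq a ha b2 hb2)
    have hq : a1 ^ i.val * a2 ^ j.val ∈ A := A.mul_mem (A.pow_mem ha1 _) (A.pow_mem ha2 _)
    refine ⟨i, j, (a1 ^ i.val * a2 ^ j.val)⁻¹ * a, (hmemA1 _).2 ⟨A.mul_mem (A.inv_mem hq) ha, ?_⟩,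
      (mul_inv_cancel_left _ _).symm⟩
    have hcomm : ∀ b ∈ B, ∀ x ∈ A, ∀ n : ℕ, ⁅x ^ n, b⁆ = ⁅x, b⁆ ^ n := by
      intro b hb x hx n
      rw [← commutatorElement_inv b (x ^ n), hc.sys.comm_pow (hc.B_le hb) (hc.A_le hx), ← inv_pow,
        commutatorElement_inv]
    have key : ∀ b ∈ B, ⁅a, b⁆ = ⁅a1, b⁆ ^ i.val * ⁅a2, b⁆ ^ j.val →
        ⁅(a1 ^ i.val * a2 ^ j.val)⁻¹ * a, b⁆ = 1 := by
      intro b hb he
      rw [hc.comm_mul_left' (hc.A_le (A.inv_mem hq)) (hc.A_le ha) (hc.B_le hb),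
        hc.comm_inv_left (hc.A_le hq) (hc.B_le hb), he,
        hc.comm_mul_left' (hc.A_le (A.pow_mem ha1 _)) (hc.A_le (A.pow_mem ha2 _)) (hc.B_le hb),
        hcomm b hb a1 ha1, hcomm b hb a2 ha2]
      rcases hsq a1 ha1 b hb with h | h <;> rcases hsq a2 ha2 b hb with h' | h' <;> rw [h, h'] <;>
        fin_cases i <;> fin_cases j <;> simp
    exact ⟨key b1 hb1 (by rw [hab1, hab21, one_pow, mul_one, hi]),
      key b2 hb2 (by rw [hab12, hab2, one_pow, one_mul, hj])⟩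
  have hsplitB : ∀ b ∈ B, (∀ c ∈ A1, ⁅c, b⁆ = 1) → ∃ s t : Fin 2, b = b1 ^ s.val * b2 ^ t.val := by
    intro b hb hbc
    obtain ⟨s, hs⟩ := pick (hsq a1 ha1 b hb)
    obtain ⟨t, ht⟩ := pick (hsq a2 ha2 b hb)
    refine ⟨s, t, ?_⟩
    have hq : b1 ^ s.val * b2 ^ t.val ∈ B := B.mul_mem (B.pow_mem hb1 _) (B.pow_mem hb2 _)
    have h0 : (b1 ^ s.val * b2 ^ t.val)⁻¹ * b = 1 := by
      refine hc.B_nd _ (B.mul_mem (B.inv_mem hq) hb) fun a ha => ?_
      have hinv : ∀ x ∈ A, ⁅x, (b1 ^ s.val * b2 ^ t.val)⁻¹⁆ = ⁅x, b1 ^ s.val * b2 ^ t.val⁆⁻¹ :=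
        fun x hx => by
          have h := hc.sys.comm_mul (hc.A_le hx) (hc.B_le hq) (F.inv_mem (hc.B_le hq))
          rw [mul_inv_cancel, commutatorElement_one_right] at h
          exact (inv_eq_of_mul_eq_one_right h.symm).symm
      have hval : ∀ x ∈ A, ⁅x, (b1 ^ s.val * b2 ^ t.val)⁻¹ * b⁆ =
          (⁅x, b1⁆ ^ s.val * ⁅x, b2⁆ ^ t.val)⁻¹ * ⁅x, b⁆ := fun x hx => by
        rw [hc.sys.comm_mul (hc.A_le hx) (F.inv_mem (hc.B_le hq)) (hc.B_le hb), hinv x hx,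
          hc.sys.comm_mul (hc.A_le hx) (hc.B_le (B.pow_mem hb1 _)) (hc.B_le (B.pow_mem hb2 _)),
          hc.sys.comm_pow (hc.A_le hx) (hc.B_le hb1), hc.sys.comm_pow (hc.A_le hx) (hc.B_le hb2)]
      have hle : A ≤ Subgroup.centralizer {(b1 ^ s.val * b2 ^ t.val)⁻¹ * b} := by
        intro x hx
        obtain ⟨i, j, c, hcA, rfl⟩ := hsplitA x hx
        obtain ⟨hcm, hc1, hc2⟩ := (hmemA1 c).1 hcA
        have hmk : ∀ y ∈ A, ⁅y, (b1 ^ s.val * b2 ^ t.val)⁻¹ * b⁆ = 1 →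
            y ∈ Subgroup.centralizer {(b1 ^ s.val * b2 ^ t.val)⁻¹ * b} := fun y _ h =>
          Subgroup.mem_centralizer_singleton_iff.2 (commutatorElement_eq_one_iff_mul_comm.1 h)
        refine Subgroup.mul_mem _ (Subgroup.mul_mem _ (Subgroup.pow_mem _ (hmk _ ha1 ?_) _)
          (Subgroup.pow_mem _ (hmk _ ha2 ?_) _)) (hmk _ hcm ?_)
        · rw [hval a1 ha1, hab1, hab12, one_pow, mul_one, ← hs, inv_mul_cancel]
        · rw [hval a2 ha2, hab21, hab2, one_pow, one_mul, ← ht, inv_mul_cancel]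
        · rw [hval c hcm, hc1, hc2, hbc c hcA, one_pow, one_pow, one_mul, inv_one, one_mul]
      exact commutatorElement_eq_one_iff_mul_comm.2 (Subgroup.mem_centralizer_singleton_iff.1 (hle ha))
    exact (inv_mul_eq_one.1 h0).symm
  -- the coordinate map
  let E : Fin 2 → Fin 2 → V := fun e f => (b1 ^ e.val * b2 ^ f.val) • v
  have hE0 : ∀ e f, E e f ≠ 0 := fun e f h => hv0 ((smul_eq_zero_iff_eq _).1 h)
  let φ : V4 →ₗ[ZMod 5] V :=
    { toFun := fun c => c 0 0 • E 0 0 + c 0 1 • E 0 1 + (c 1 0 • E 1 0 + c 1 1 • E 1 1)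
      map_add' := fun c d => by simp only [Pi.add_apply, add_smul]; abel
      map_smul' := fun k c => by simp only [Pi.smul_apply, smul_eq_mul, RingHom.id_apply, smul_add, smul_smul] }
  have hbb : b1 * b2 = b2 * b1 := commutatorElement_eq_one_iff_mul_comm.1 (hc.B_comm b1 hb1 b2 hb2)
  have hEb : ∀ (s t : Fin 2) (e f : Fin 2), (b1 ^ s.val * b2 ^ t.val) • E e f = E (e + s) (f + t) := by
    intro s t e f
    show (b1 ^ s.val * b2 ^ t.val) • (b1 ^ e.val * b2 ^ f.val) • v = (b1 ^ (e + s).val * b2 ^ (f + t).val) • v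
    rw [← mul_smul]
    congr 1
    have hmod : ∀ {x : (AddMonoid.End V)ˣ}, x ^ 2 = 1 → ∀ e s : Fin 2, x ^ (e + s).val = x ^ (s.val + e.val) := by
      intro x hx e s
      rw [Fin.val_add, ← pow_eq_pow_mod _ hx, Nat.add_comm]
    rw [hmod (hB2 b1 hb1), hmod (hB2 b2 hb2), pow_add, pow_add]
    have hcm : Commute (b2 ^ t.val) (b1 ^ e.val) := ((show Commute b1 b2 from hbb).symm).pow_pow _ _
    calc b1 ^ s.val * b2 ^ t.val * (b1 ^ e.val * b2 ^ f.val)
        = b1 ^ s.val * (b2 ^ t.val * b1 ^ e.val) * b2 ^ f.val := by simp only [mul_assoc]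
      _ = _ := by rw [hcm.eq]; simp only [mul_assoc]
  have hEa : ∀ {a : (AddMonoid.End V)ˣ}, a ∈ A → ∀ e f : Fin 2,
      a • E e f = (⁅a, b1⁆ ^ e.val * ⁅a, b2⁆ ^ f.val) • E e f := by
    intro a ha e f
    show a • (b1 ^ e.val * b2 ^ f.val) • v = _
    rw [Sys.swap, hv a ha, hc.sys.comm_mul (hc.A_le ha) (hc.B_le (B.pow_mem hb1 _))
      (hc.B_le (B.pow_mem hb2 _)), hc.sys.comm_pow (hc.A_le ha) (hc.B_le hb1),
      hc.sys.comm_pow (hc.A_le ha) (hc.B_le hb2)]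
  have hneg : ∀ (n : ℕ) (u : V), ((-1 : (AddMonoid.End V)ˣ) ^ n) • u = ((-1 : ZMod 5) ^ n) • u := by
    intro n u
    induction n with
    | zero => simp
    | succ n ih => rw [pow_succ', mul_smul, ih, neg_one_smul', pow_succ', mul_smul, neg_one_smul]
  have hmodel : ∀ f ∈ cenA F A1, ∃ o : Op, o.1 ≠ 0 ∧ ∀ c : V4, f • φ c = φ (opAct o c) := by
    intro f hf
    obtain ⟨hfF, hfA⟩ := mem_cenA.1 hf
    obtain ⟨a, ha, b, hb, z, hz, rfl⟩ := hc.decomp f hfF
    rw [hR] at hz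
    have hbc : ∀ c ∈ A1, ⁅c, b⁆ = 1 := fun c hcA => by
      obtain ⟨hcm, -, -⟩ := (hmemA1 c).1 hcA
      have h1 := hfA c hcA
      rw [hc.sys.comm_mul (hc.A_le hcm) (F.mul_mem (hc.A_le ha) (hc.B_le hb)) (hc.sys.Z_le hz),
        hc.sys.comm_mul (hc.A_le hcm) (hc.A_le ha) (hc.B_le hb), hc.A_comm c hcm a ha,
        commutatorElement_eq_one_iff_mul_comm.2 (hc.sys.cent c (hc.A_le hcm) z hz), one_mul, mul_one] at h1
      exact h1
    obtain ⟨s, t, rfl⟩ := hsplitB b hb hbc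
    obtain ⟨i, hi⟩ := pick (hsq a ha b1 hb1)
    obtain ⟨j, hj⟩ := pick (hsq a ha b2 hb2)
    obtain ⟨k, hk, hzk⟩ := hZ z hz
    refine ⟨(k, i, j, s, t), hk, fun c => ?_⟩
    have hterm : ∀ e f : Fin 2, (a * (b1 ^ s.val * b2 ^ t.val) * z) • E e f =
        (k * (-1) ^ (i.val * (e + s).val + j.val * (f + t).val)) • E (e + s) (f + t) := by
      intro e f
      rw [mul_smul, mul_smul, hzk, hsm, hEb, hsm, hEa ha, hi, hj, ← pow_mul, ← pow_mul, ← pow_add, hneg,
        smul_smul]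
    show (a * (b1 ^ s.val * b2 ^ t.val) * z) • (c 0 0 • E 0 0 + c 0 1 • E 0 1 + (c 1 0 • E 1 0 + c 1 1 • E 1 1)) = _
    simp only [smul_add, hsm, hterm, smul_smul]
    show _ = opAct (k, i, j, s, t) c 0 0 • E 0 0 + opAct (k, i, j, s, t) c 0 1 • E 0 1 +
      (opAct (k, i, j, s, t) c 1 0 • E 1 0 + opAct (k, i, j, s, t) c 1 1 • E 1 1)
    simp only [opAct]
    fin_cases s <;> fin_cases t <;>
      simp [mul_comm, mul_left_comm, show (-1 : Fin 2) = 1 from rfl] <;> abel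
  have ha1C : a1 ∈ cenA F A1 :=
    mem_cenA.2 ⟨hc.A_le ha1, fun c hcA => hc.A_comm c ((hmemA1 c).1 hcA).1 a1 ha1⟩
  have ha2C : a2 ∈ cenA F A1 :=
    mem_cenA.2 ⟨hc.A_le ha2, fun c hcA => hc.A_comm c ((hmemA1 c).1 hcA).1 a2 ha2⟩
  have hφa : ∀ c, a1 • φ c = φ (opAct gA c) := by
    intro c
    show a1 • (c 0 0 • E 0 0 + c 0 1 • E 0 1 + (c 1 0 • E 1 0 + c 1 1 • E 1 1)) = _
    simp only [smul_add, hsm, hEa ha1, hab1, hab12, one_pow, mul_one, hneg, smul_smul]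
    show _ = opAct gA c 0 0 • E 0 0 + opAct gA c 0 1 • E 0 1 +
      (opAct gA c 1 0 • E 1 0 + opAct gA c 1 1 • E 1 1)
    simp [opAct, gA, mul_comm]
  have hφa2 : ∀ c, a2 • φ c = φ (opAct gA2 c) := by
    intro c
    show a2 • (c 0 0 • E 0 0 + c 0 1 • E 0 1 + (c 1 0 • E 1 0 + c 1 1 • E 1 1)) = _
    simp only [smul_add, hsm, hEa ha2, hab21, hab2, one_pow, one_mul, hneg, smul_smul]
    show _ = opAct gA2 c 0 0 • E 0 0 + opAct gA2 c 0 1 • E 0 1 +
      (opAct gA2 c 1 0 • E 1 0 + opAct gA2 c 1 1 • E 1 1)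
    simp [opAct, gA2, mul_comm]
  have hinj : ∀ c, φ c = 0 → c = 0 := by
    intro c h
    have h1 : φ (opAct gA c) = 0 := by rw [← hφa, h, smul_zero]
    have h2 : φ (opAct gA2 c) = 0 := by rw [← hφa2, h, smul_zero]
    have h3 : φ (opAct gA2 (opAct gA c)) = 0 := by rw [← hφa2, h1, smul_zero]
    have hsum : ∀ (p q : ZMod 5), φ (c + p • opAct gA c + q • opAct gA2 c + (p * q) • opAct gA2 (opAct gA c)) = 0 := by
      intro p q; simp [map_add, map_smul, h, h1, h2, h3]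
    funext e f
    show c e f = 0
    have h4 := hsum ((-1) ^ e.val) ((-1) ^ f.val)
    have hd : c + ((-1 : ZMod 5) ^ e.val) • opAct gA c + ((-1 : ZMod 5) ^ f.val) • opAct gA2 c +
        ((-1 : ZMod 5) ^ e.val * (-1) ^ f.val) • opAct gA2 (opAct gA c) = (4 * c e f) • unitV e f := by
      funext x y
      fin_cases e <;> fin_cases f <;> fin_cases x <;> fin_cases y <;>
        simp [opAct, gA, gA2, unitV] <;> ring
    rw [hd, map_smul] at h4
    have hu : φ (unitV e f) = E e f := by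
      show unitV e f 0 0 • E 0 0 + unitV e f 0 1 • E 0 1 + (unitV e f 1 0 • E 1 0 + unitV e f 1 1 • E 1 1) = _
      fin_cases e <;> fin_cases f <;> simp [unitV]
    rw [hu] at h4
    rcases smul_eq_zero.1 h4 with h5 | h5
    · rcases mul_eq_zero.1 h5 with h6 | h6
      · exact absurd h6 four_ne
      · exact h6
    · exact absurd h5 (hE0 e f)
  have hφinj : Function.Injective φ := fun c d h =>
    sub_eq_zero.1 (hinj _ (by rw [map_sub, h, sub_self]))
  have hφW : ∀ c, φ c ∈ fixA A1 := by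
    intro c y hy
    obtain ⟨hcm, hc1, hc2⟩ := (hmemA1 y).1 hy
    show y • (c 0 0 • E 0 0 + c 0 1 • E 0 1 + (c 1 0 • E 1 0 + c 1 1 • E 1 1)) = _
    simp only [smul_add, hsm, hEa hcm, hc1, hc2, one_pow, mul_one, one_smul]
    rfl
  have hspan : ∀ u ∈ fixA A1, ∃ c, φ c = u := by
    intro u hu
    haveI := Fintype.ofFinite A1
    let Q : V →+ V := AddMonoidHom.mk' (fun w => ∑ y : A1, (y : (AddMonoid.End V)ˣ) • w)
      fun x y => by simp only [smul_add, Finset.sum_add_distrib]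
    have hmem := hc.span_frame (AddSubgroup.comap Q (LinearMap.range φ).toAddSubgroup) (fun b hb w hw => by
      rw [AddSubgroup.mem_comap, Submodule.mem_toAddSubgroup]
      obtain ⟨k, rfl⟩ := hline w hw
      show ∑ y : A1, (y : (AddMonoid.End V)ˣ) • b • k • v ∈ _
      have h1 : ∀ y : A1, (y : (AddMonoid.End V)ˣ) • b • k • v =
          ⁅(y : (AddMonoid.End V)ˣ), b⁆ • b • k • v := fun y => by
        rw [Sys.swap (y : (AddMonoid.End V)ˣ) b, hsm (y : (AddMonoid.End V)ˣ), hv _ ((hmemA1 _).1 y.2).1]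
      rw [Finset.sum_congr rfl fun y _ => h1 y]
      by_cases hb' : ∀ y ∈ A1, ⁅y, b⁆ = 1
      · obtain ⟨s, t, rfl⟩ := hsplitB b hb hb'
        refine Submodule.sum_mem _ fun y _ => ⟨k • unitV s t, ?_⟩
        rw [hb' _ y.2, one_smul, map_smul, hsm]
        congr 1
        show unitV s t 0 0 • E 0 0 + unitV s t 0 1 • E 0 1 + (unitV s t 1 0 • E 1 0 + unitV s t 1 1 • E 1 1) = _
        fin_cases s <;> fin_cases t <;> simp [unitV, E]
      · push Not at hb'
        obtain ⟨y0, hy0, hne⟩ := hb'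
        rw [hc.sum_A' (inf_le_left.trans inf_le_left) (hc.B_le hb) hy0 hne]
        exact Submodule.zero_mem _) u
    rw [AddSubgroup.mem_comap, Submodule.mem_toAddSubgroup] at hmem
    have hQu : Q u = Nat.card A1 • u := by
      show ∑ y : A1, _ = _
      rw [Finset.sum_congr rfl fun (y : A1) _ => hu _ y.2, Finset.sum_const, Finset.card_univ,
        Nat.card_eq_fintype_card]
    rw [hQu, ← Nat.cast_smul_eq_nsmul (ZMod 5)] at hmem
    have hne : ((Nat.card A1 : ℕ) : ZMod 5) ≠ 0 := by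
      rw [Ne, ZMod.natCast_eq_zero_iff]
      exact fun h => hc.A_cop (h.trans (Subgroup.card_dvd_of_le (inf_le_left.trans inf_le_left)))
    have := (LinearMap.range φ).smul_mem ((Nat.card A1 : ZMod 5)⁻¹) hmem
    rwa [smul_smul, inv_mul_cancel₀ hne, one_smul] at this
  have hsmulφ : ∀ (k : ZMod 5) (c : V4), k • φ c = φ (fun e f => k * c e f) := fun k c => by
    rw [← map_smul]; rfl
  refine ⟨φ cx, φ cy, hφW _, hφW _, fun h => ?_, fun h => ?_, ?_, Or.inl ?_, ?_⟩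
  · exact cx_ne (congrFun (congrFun (hinj _ h) 0) 1)
  · exact cy_ne (congrFun (congrFun (hinj _ h) 0) 0)
  · intro f hf z hz he
    obtain ⟨o, ho0, ho⟩ := hmodel f hf
    obtain ⟨k, -, hzk⟩ := hZ z hz
    rw [ho, hzk, hsmulφ] at he
    obtain ⟨hi, hj, hs, ht⟩ := cert_eig o ho0 k (hφinj he)
    refine ⟨z, hz, fun w hw => ?_⟩
    obtain ⟨c, rfl⟩ := hspan w hw
    rw [ho, hzk, hsmulφ]
    have hsc : ∀ c : V4, opAct o c = fun e f => o.1 * c e f := fun c => by
      funext e f; simp [opAct, hi, hj, hs, ht]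
    have hk : o.1 = k := by
      have := congrFun (congrFun ((hsc cx).symm.trans (hφinj he)) 0) 1
      simpa [cx] using this
    rw [hsc, hk]
  · intro f hf z hz he
    obtain ⟨o, -, ho⟩ := hmodel f hf
    obtain ⟨k, hk, hzk⟩ := hZ z hz
    rw [ho, hzk, hsmulφ] at he
    exact cert_indep o k hk (hφinj he)
  · intro g _ hgF hgW hgx hgy f hf w hw
    obtain ⟨o, ho0, ho⟩ := hmodel _ (hgF a1 ha1C)
    obtain ⟨o', -, ho'⟩ := hmodel _ (hgF a2 ha2C)
    have hg : ∀ c, g • φ c = φ (gmap o c) := by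
      intro c
      have hu : ∀ i j, g • φ (unitV i j) = φ (gmap o (unitV i j)) := by
        intro i j
        have e1 : unitV i j = cinv i j 0 • cx + cinv i j 1 • cy + cinv i j 2 • opAct gA cx +
            cinv i j 3 • opAct gA cy := cert_cinv i j
        have e2 : gmap o (unitV i j) = cinv i j 0 • cx + cinv i j 1 • cy + cinv i j 2 • opAct o cx +
            cinv i j 3 • opAct o cy := by
          funext e f
          fin_cases i <;> fin_cases j <;> simp [gmap, unitV]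
        conv_lhs => rw [e1]
        rw [e2]
        simp only [map_add, map_smul, smul_add, hsm, ← hφa, hgx, hgy, ← ho]
        rw [← conj_smul g a1 (φ cx), ← conj_smul g a1 (φ cy), hgx, hgy]
      conv_lhs => rw [v4_eq_sum c]
      rw [gmap_eq_sum o c]
      simp only [map_sum, map_smul, Finset.smul_sum, hsm, hu]
    have ho1 : o = gA := by
      refine cert_rigid o ho0 (fun i j => hφinj ?_) o' (fun i j => hφinj ?_)
      · rw [← hg, ← hφa, ← conj_smul g a1, hg, ho]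
      · rw [← hg, ← hφa2, ← conj_smul g a2, hg, ho']
    have hid : ∀ u ∈ fixA A1, g • u = u := by
      intro u hu
      obtain ⟨c, rfl⟩ := hspan u hu
      rw [hg, ho1]
      congr 1
      rw [gmap_eq_sum gA c]
      simp only [cert_id]
      exact (v4_eq_sum c).symm
    have hfw : f • w ∈ fixA A1 := fun y hy => by
      rw [Sys.swap y f, (mem_cenA.1 hf).2 y hy, one_smul, hw y hy]
    rw [hid _ hfw, hid w hw]

end Cfsg.Agent.DP71
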