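import Mathlib

/-!
# Three colours on an affine space preserved by the identity alone

For an elementary abelian group of exponent `r ≥ 5`, and of exponent two and order at least 16,
there is a colouring with three colours fixed by no affine bijection other than the identity.
-/

set_option autoImplicit false
set_option linter.unusedSectionVars false
set_option linter.style.haveILetI false

namespace Cfsg.Agent.DP71.Imprim

/-- A colouring fixed by no affine map other than the identity. -/
def AffRigid (L : Type) [AddCommGroup L] : Prop :=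
  ∃ c : L → Fin 3, ∀ (a : L ≃+ L) (t : L), (∀ x, c (a x + t) = c x) → ∀ x, a x + t = x

theorem AffRigid.congr {L M : Type} [AddCommGroup L] [AddCommGroup M] (e : L ≃+ M)
    (h : AffRigid M) : AffRigid L := by
  obtain ⟨c, hc⟩ := h
  refine ⟨fun x => c (e x), fun a t hat x => e.injective ?_⟩
  have h1 := hc ((e.symm.trans a).trans e) (e t) (fun y => by
    have := hat (e.symm y)
    simpa using this) (e x)
  simpa using h1

variable {r : ℕ} [Fact r.Prime] {k : ℕ}

/-- The frame points: the origin and the unit vectors. -/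
def fr (j : Fin (k + 1)) : Fin k → ZMod r :=
  Fin.cases 0 (fun i => Pi.single i (1 : ZMod r)) j

/-- The affine coordinates. -/
def aff (x : Fin k → ZMod r) : Fin (k + 1) → ZMod r := Fin.cons (1 - ∑ i, x i) x

theorem aff_fr (j : Fin (k + 1)) : aff (fr (r := r) j) = Pi.single j 1 := by
  funext l
  cases j using Fin.cases <;> cases l using Fin.cases <;>
    simp [aff, fr, Fin.succ_ne_zero, Pi.single_apply, Fin.succ_inj]

theorem aff_comb (x y z : Fin k → ZMod r) : aff (x + y - z) = aff x + aff y - aff z := by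
  funext l
  cases l using Fin.cases with
  | zero => simp [aff, Finset.sum_add_distrib, Finset.sum_sub_distrib]; ring
  | succ i => simp [aff]

theorem fr_injective : Function.Injective (fr : Fin (k + 1) → Fin k → ZMod r) := fun i j h => by
  by_contra hne
  have h1 := congrFun (congrArg aff h) i
  rw [aff_fr, aff_fr, Pi.single_eq_same, Pi.single_eq_of_ne hne] at h1
  exact one_ne_zero h1

/-- An affine map fixing the frame is the identity. -/
theorem eq_self_of_fr (a : (Fin k → ZMod r) ≃+ (Fin k → ZMod r)) (t : Fin k → ZMod r)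
    (h : ∀ j, a (fr j) + t = fr j) (x : Fin k → ZMod r) : a x + t = x := by
  have ht : t = 0 := by simpa [fr] using h 0
  subst ht
  simp only [add_zero] at h ⊢
  have key : x = ∑ i, (x i).val • (Pi.single i (1 : ZMod r) : Fin k → ZMod r) := by
    funext l
    rw [Finset.sum_apply, Finset.sum_eq_single l]
    · rw [Pi.smul_apply, Pi.single_eq_same, nsmul_one, ZMod.natCast_zmod_val]
    · intro i _ hi; rw [Pi.smul_apply, Pi.single_eq_of_ne (Ne.symm hi), smul_zero]
    · simp
  rw [key, map_sum]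
  refine Finset.sum_congr rfl fun i _ => ?_
  rw [map_nsmul]
  congr 1
  simpa [fr] using h i.succ

/-- The permutation of the frame induced by a map preserving it. -/
theorem frame_perm (a : (Fin k → ZMod r) ≃+ (Fin k → ZMod r)) (t : Fin k → ZMod r)
    (h : ∀ j, ∃ i, a (fr j) + t = fr i) :
    ∃ σ : Fin (k + 1) → Fin (k + 1), Function.Injective σ ∧ ∀ j, a (fr j) + t = fr (σ j) := by
  choose σ hσ using h
  refine ⟨σ, fun i j hij => fr_injective (a.injective (add_right_cancel (b := t) ?_)), hσ⟩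
  rw [hσ, hσ, hij]

theorem map_comb (a : (Fin k → ZMod r) ≃+ (Fin k → ZMod r)) (t x y z : Fin k → ZMod r) :
    a (x + y - z) + t = (a x + t) + (a y + t) - (a z + t) := by
  rw [map_sub, map_add]; abel

/-- `r ≥ 5`: a frame and a directed path through it. -/
theorem affRigid_of_five_le (hr : 5 ≤ r) (k : ℕ) : AffRigid (Fin k → ZMod r) := by
  classical
  have h1 : (-1 : ZMod r) ≠ 1 := fun h => by
    have : ((2 : ℕ) : ZMod r) = 0 := by linear_combination -h
    rw [ZMod.natCast_eq_zero_iff] at this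
    exact absurd (Nat.le_of_dvd two_pos this) (by omega)
  have h2 : (2 : ZMod r) ≠ 1 := fun h => one_ne_zero (by linear_combination h)
  have h20 : (2 : ZMod r) ≠ 0 := fun h => h1 (by linear_combination -h)
  have h3 : (2 : ZMod r) ≠ -1 := fun h => by
    have : ((3 : ℕ) : ZMod r) = 0 := by push_cast; linear_combination h
    rw [ZMod.natCast_eq_zero_iff] at this
    exact absurd (Nat.le_of_dvd three_pos this) (by omega)
  let w : Fin (k + 1) → Fin (k + 1) → (Fin k → ZMod r) := fun i j => fr i + fr i - fr j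
  have hw : ∀ i j, i ≠ j → aff (w i j) i = 2 ∧ aff (w i j) j = -1 ∧
      ∀ l, l ≠ i → l ≠ j → aff (w i j) l = 0 := by
    intro i j hij
    refine ⟨?_, ?_, fun l hi hj => ?_⟩ <;>
      simp only [w, aff_comb, aff_fr, Pi.add_apply, Pi.sub_apply]
    · rw [Pi.single_eq_same, Pi.single_eq_of_ne hij]; ring
    · rw [Pi.single_eq_same, Pi.single_eq_of_ne hij.symm]; ring
    · rw [Pi.single_eq_of_ne hi, Pi.single_eq_of_ne hj]; ring
  have huniq : ∀ i j i' j', i ≠ j → i' ≠ j' → w i j = w i' j' → i = i' ∧ j = j' := by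
    intro i j i' j' hij hij' h
    obtain ⟨a1, a2, a3⟩ := hw i j hij
    obtain ⟨b1, b2, b3⟩ := hw i' j' hij'
    rw [← h] at b1 b2 b3
    constructor
    · by_contra hne
      by_cases hj : i = j'
      · subst hj; exact h3 (a1.symm.trans b2)
      · exact h20 (a1.symm.trans (b3 i hne hj))
    · by_contra hne
      by_cases hi : j = i'
      · subst hi; exact h3 (b1.symm.trans a2)
      · exact one_ne_zero (α := ZMod r) (neg_eq_zero.1 (a2.symm.trans (b3 j hi hne)))
  have hnf : ∀ i j l, i ≠ j → w i j ≠ fr l := by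
    intro i j l hij h
    have := (hw i j hij).1
    rw [h, aff_fr, Pi.single_apply] at this
    split_ifs at this with hil
    · exact h2 this.symm
    · exact h20 this.symm
  let c : (Fin k → ZMod r) → Fin 3 := fun x =>
    if (∃ j, fr j = x) then 0 else if (∃ i : Fin k, w i.castSucc i.succ = x) then 1 else 2
  have hcs : ∀ i : Fin k, i.castSucc ≠ i.succ := fun i => (Fin.castSucc_lt_succ).ne
  refine ⟨c, fun a t hat x => ?_⟩
  have hF : ∀ j, ∃ i, a (fr j) + t = fr i := fun j => by
    have := hat (fr j)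
    have hj : c (fr j) = 0 := if_pos ⟨j, rfl⟩
    rw [hj] at this
    by_contra hne
    simp only [c] at this
    rw [if_neg (fun ⟨i, hi⟩ => hne ⟨i, hi.symm⟩)] at this
    split_ifs at this <;> simp at this
  obtain ⟨σ, hσi, hσ⟩ := frame_perm a t hF
  have hP : ∀ i : Fin k, ∃ j : Fin k, σ i.castSucc = j.castSucc ∧ σ i.succ = j.succ := by
    intro i
    have hne : σ i.castSucc ≠ σ i.succ := fun h => hcs i (hσi h)
    have := hat (w i.castSucc i.succ)
    have hi : c (w i.castSucc i.succ) = 1 := by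
      simp only [c]
      rw [if_neg (fun ⟨l, hl⟩ => hnf _ _ l (hcs i) hl.symm), if_pos ⟨i, rfl⟩]
    rw [hi] at this
    have himg : a (w i.castSucc i.succ) + t = w (σ i.castSucc) (σ i.succ) := by
      simp only [w]
      rw [map_comb, hσ, hσ]
    rw [himg] at this
    simp only [c] at this
    rw [if_neg (fun ⟨l, hl⟩ => hnf _ _ l hne hl.symm)] at this
    split_ifs at this with hex
    · obtain ⟨j, hj⟩ := hex
      obtain ⟨e1, e2⟩ := huniq _ _ _ _ (hcs j) hne hj
      exact ⟨j, e1.symm, e2.symm⟩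
    · simp at this
  have hsucc : ∀ i : Fin (k + 1), (σ i : ℕ) = σ 0 + i := by
    intro i
    induction i using Fin.induction with
    | zero => simp
    | succ i ih =>
      obtain ⟨j, e1, e2⟩ := hP i
      rw [e1] at ih
      rw [e2]
      simp only [Fin.val_castSucc, Fin.val_succ] at ih ⊢
      omega
  have h0 : (σ 0 : ℕ) = 0 := by
    have := hsucc (Fin.last k)
    have := (σ (Fin.last k)).isLt
    simp only [Fin.val_last] at *
    omega
  refine eq_self_of_fr a t (fun j => ?_) x
  rw [hσ]
  congr 1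
  ext
  rw [hsucc, h0, zero_add]

/-- The triples `{j, j+1, j+2}` and `{0, 1, 3}` on `0, …, k`. -/
def Triple (k : ℕ) (s : Finset ℕ) : Prop :=
  (∃ j, j + 2 ≤ k ∧ s = {j, j + 1, j + 2}) ∨ s = {0, 1, 3}

theorem Triple.le {k : ℕ} (hk : 5 ≤ k) {s : Finset ℕ} (h : Triple k s) {x : ℕ} (hx : x ∈ s) :
    x ≤ k := by
  rcases h with ⟨j, hj, rfl⟩ | rfl <;> simp only [Finset.mem_insert, Finset.mem_singleton] at hx <;>
    omega

/-- A permutation of `0, …, k` preserving the triples is trivial. -/
theorem triples_rigid {k : ℕ} (hk : 5 ≤ k) (σ : ℕ → ℕ) (hmaps : ∀ i, i ≤ k → σ i ≤ k)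
    (hinj : ∀ i j, i ≤ k → j ≤ k → σ i = σ j → i = j)
    (hT : ∀ s, Triple k s → Triple k (s.image σ)) : ∀ i, i ≤ k → σ i = i := by
  classical
  have himg : ∀ s s', Triple k s → Triple k s' → s.image σ = s'.image σ → s = s' := by
    intro s s' hs hs' h
    ext x
    constructor <;> intro hx
    · obtain ⟨y, hy, hyx⟩ := Finset.mem_image.1 (h ▸ Finset.mem_image_of_mem σ hx)
      exact hinj y x (hs'.le hk hy) (hs.le hk hx) hyx ▸ hy
    · obtain ⟨y, hy, hyx⟩ := Finset.mem_image.1 (h.symm ▸ Finset.mem_image_of_mem σ hx)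
      exact hinj y x (hs.le hk hy) (hs'.le hk hx) hyx ▸ hy
  -- `k` lies in one triple
  have hone : ∀ s, Triple k s → k ∈ s → s = {k - 2, k - 1, k} := by
    rintro s (⟨j, hj, rfl⟩ | rfl) hx <;>
      simp only [Finset.mem_insert, Finset.mem_singleton] at hx
    · obtain rfl : j = k - 2 := by omega
      ext y; simp only [Finset.mem_insert, Finset.mem_singleton]; omega
    · omega
  have hne : ∀ a b c a' b' c' x : ℕ, (x = a ∨ x = b ∨ x = c) → x ≠ a' → x ≠ b' → x ≠ c' →
      ({a, b, c} : Finset ℕ) ≠ {a', b', c'} := by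
    intro a b c a' b' c' x hx h1 h2 h3 h
    have : x ∈ ({a', b', c'} : Finset ℕ) := h ▸ (by simpa using hx)
    simp [h1, h2, h3] at this
  have htwo : ∀ v, v < k → ∃ s s', Triple k s ∧ Triple k s' ∧ v ∈ s ∧ v ∈ s' ∧ s ≠ s' := by
    intro v hv
    rcases Nat.eq_zero_or_pos v with rfl | h0
    · exact ⟨{0, 0 + 1, 0 + 2}, {0, 1, 3}, Or.inl ⟨0, by omega, rfl⟩, Or.inr rfl, by simp, by simp,
        hne _ _ _ _ _ _ 2 (by omega) (by omega) (by omega) (by omega)⟩
    · rcases Nat.lt_or_ge (v + 2) (k + 1) with h | h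
      · exact ⟨{v, v + 1, v + 2}, {v - 1, v - 1 + 1, v - 1 + 2}, Or.inl ⟨v, by omega, rfl⟩,
          Or.inl ⟨v - 1, by omega, rfl⟩, by simp,
          (by simp only [Finset.mem_insert, Finset.mem_singleton]; omega),
          hne _ _ _ _ _ _ (v + 2) (by omega) (by omega) (by omega) (by omega)⟩
      · exact ⟨{v - 1, v - 1 + 1, v - 1 + 2}, {v - 2, v - 2 + 1, v - 2 + 2},
          Or.inl ⟨v - 1, by omega, rfl⟩, Or.inl ⟨v - 2, by omega, rfl⟩,
          (by simp only [Finset.mem_insert, Finset.mem_singleton]; omega),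
          (by simp only [Finset.mem_insert, Finset.mem_singleton]; omega),
          hne _ _ _ _ _ _ (v + 1) (by omega) (by omega) (by omega) (by omega)⟩
  have hbij : ∀ i, i ≤ k → ∃ v, v ≤ k ∧ σ v = i := by
    intro i hi
    have : (Finset.range (k + 1)).image σ = Finset.range (k + 1) := by
      refine Finset.eq_of_subset_of_card_le (fun x hx => ?_) ?_
      · obtain ⟨y, hy, rfl⟩ := Finset.mem_image.1 hx
        rw [Finset.mem_range] at hy ⊢
        have := hmaps y (by omega); omega
      · rw [Finset.card_image_of_injOn]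
        intro x hx y hy h
        simp only [Finset.coe_range, Set.mem_Iio] at hx hy
        exact hinj x y (by omega) (by omega) h
    obtain ⟨v, hv, hvi⟩ := Finset.mem_image.1
      (this.symm ▸ Finset.mem_range.2 (by omega) : i ∈ (Finset.range (k + 1)).image σ)
    exact ⟨v, by rw [Finset.mem_range] at hv; omega, hvi⟩
  have hσk : σ k = k := by
    obtain ⟨v, hv, hvk⟩ := hbij k le_rfl
    by_contra hne'
    have hvk' : v < k := lt_of_le_of_ne hv fun h => hne' (h ▸ hvk)
    obtain ⟨s, s', hs, hs', hm, hm', hss⟩ := htwo v hvk'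
    refine hss (himg s s' hs hs' ?_)
    rw [hone _ (hT s hs) (hvk ▸ Finset.mem_image_of_mem σ hm),
      hone _ (hT s' hs') (hvk ▸ Finset.mem_image_of_mem σ hm')]
  -- `k - 1` lies in two triples, `k - 2` in three
  have hσk1 : σ (k - 1) = k - 1 := by
    have hL : Triple k {k - 2, k - 1, k} :=
      Or.inl ⟨k - 2, by omega, by ext y; simp only [Finset.mem_insert, Finset.mem_singleton]; omega⟩
    have himL := hone _ (hT _ hL) (Finset.mem_image.2 ⟨k, by simp, hσk⟩)
    have hmem : ∀ x ∈ ({k - 2, k - 1, k} : Finset ℕ), σ x ∈ ({k - 2, k - 1, k} : Finset ℕ) :=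
      fun x hx => himL ▸ Finset.mem_image_of_mem σ hx
    have e1 := hmem (k - 1) (by simp)
    have e2 := hmem (k - 2) (by simp)
    simp only [Finset.mem_insert, Finset.mem_singleton] at e1 e2
    have n1 := hinj (k - 1) (k - 2) (by omega) (by omega)
    have n2 := hinj (k - 1) k (by omega) le_rfl
    have n3 := hinj (k - 2) k (by omega) le_rfl
    by_contra hne'
    have hsw : σ (k - 2) = k - 1 := by omega
    -- three triples through `k - 2`, two through its image
    have hcls : ∀ s, Triple k s → k - 1 ∈ s →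
        s = {k - 2, k - 1, k} ∨ s = {k - 3, k - 2, k - 1} := by
      rintro s (⟨j, hj, rfl⟩ | rfl) hx <;>
        simp only [Finset.mem_insert, Finset.mem_singleton] at hx
      · rcases (show j = k - 2 ∨ j = k - 3 by omega) with rfl | rfl
        · left; ext y; simp only [Finset.mem_insert, Finset.mem_singleton]; omega
        · right; ext y; simp only [Finset.mem_insert, Finset.mem_singleton]; omega
      · omega
    have h4 : ∀ j, j + 2 ≤ k → Triple k {j, j + 1, j + 2} := fun j hj => Or.inl ⟨j, hj, rfl⟩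
    let S : ℕ → Finset ℕ := fun d => {k - 4 + d, k - 4 + d + 1, k - 4 + d + 2}
    have hS : ∀ d, d ≤ 2 → Triple k (S d) ∧ k - 2 ∈ S d := fun d hd =>
      ⟨h4 _ (by omega), by simp only [S, Finset.mem_insert, Finset.mem_singleton]; omega⟩
    have hSim : ∀ d, d ≤ 2 → (S d).image σ = {k - 2, k - 1, k} ∨
        (S d).image σ = {k - 3, k - 2, k - 1} := fun d hd =>
      hcls _ (hT _ (hS d hd).1) (hsw ▸ Finset.mem_image_of_mem σ (hS d hd).2)
    have hSne : ∀ d d', d ≤ 2 → d' ≤ 2 → d < d' → (S d).image σ ≠ (S d').image σ :=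
      fun d d' hd hd' hlt h => hne _ _ _ _ _ _ (k - 4 + d) (by omega) (by omega) (by omega)
        (by omega) (himg _ _ (hS d hd).1 (hS d' hd').1 h)
    rcases hSim 0 (by omega) with a0 | a0 <;> rcases hSim 1 (by omega) with a1 | a1 <;>
      rcases hSim 2 (by omega) with a2 | a2
    all_goals first
      | exact hSne 0 1 (by omega) (by omega) (by omega) (a0.trans a1.symm)
      | exact hSne 0 2 (by omega) (by omega) (by omega) (a0.trans a2.symm)
      | exact hSne 1 2 (by omega) (by omega) (by omega) (a1.trans a2.symm)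
  -- downwards
  have hdown : ∀ d i, i + d = k → ∀ j, i ≤ j → j ≤ k → σ j = j := by
    intro d
    induction d with
    | zero => intro i hi j h1 h2; obtain rfl : j = k := by omega
              exact hσk
    | succ d ih =>
      intro i hi j h1 h2
      rcases Nat.lt_or_ge i j with hlt | hge
      · exact ih (i + 1) (by omega) j hlt h2
      obtain rfl : j = i := by omega
      have hrec := ih (j + 1) (by omega)
      rcases Nat.eq_zero_or_pos d with rfl | hd
      · rw [show j = k - 1 by omega]; exact hσk1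
      have hs : Triple k {j, j + 1, j + 2} := Or.inl ⟨j, by omega, rfl⟩
      have him := hT _ hs
      rw [Finset.image_insert, Finset.image_insert, Finset.image_singleton,
        hrec (j + 1) le_rfl (by omega), hrec (j + 2) (by omega) (by omega)] at him
      have hσj : σ j ≤ j := by
        by_contra hgt
        have h5 := hrec (σ j) (by omega) (hmaps j h2)
        have := hinj (σ j) j (hmaps j h2) h2 h5
        omega
      rcases him with ⟨l, hl, heq⟩ | heq
      · have m1 : j + 1 ∈ ({σ j, j + 1, j + 2} : Finset ℕ) := by simp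
        have m2 : j + 2 ∈ ({σ j, j + 1, j + 2} : Finset ℕ) := by simp
        have m3 : l ∈ ({σ j, j + 1, j + 2} : Finset ℕ) := heq ▸ by simp
        have m4 : l + 2 ∈ ({σ j, j + 1, j + 2} : Finset ℕ) := heq ▸ by simp
        have m5 : σ j ∈ ({σ j, j + 1, j + 2} : Finset ℕ) := by simp
        rw [heq] at m1 m2 m5
        simp only [Finset.mem_insert, Finset.mem_singleton] at m1 m2 m3 m4 m5
        omega
      · have m1 : j + 1 ∈ ({σ j, j + 1, j + 2} : Finset ℕ) := by simp
        have m2 : j + 2 ∈ ({σ j, j + 1, j + 2} : Finset ℕ) := by simp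
        rw [heq] at m1 m2
        simp only [Finset.mem_insert, Finset.mem_singleton] at m1 m2
        omega
  exact fun i hi => hdown k 0 (by omega) i (Nat.zero_le _) hi

/-- `r = 2`, dimension at least five. -/
theorem affRigid_two {k : ℕ} (hk : 5 ≤ k) : AffRigid (Fin k → ZMod 2) := by
  classical
  haveI : Fact (Nat.Prime 2) := ⟨Nat.prime_two⟩
  let q : ℕ → Fin (k + 1) := fun i => ⟨min i k, by omega⟩
  have hq : ∀ i, i ≤ k → (q i : ℕ) = i := fun i hi => by simp [q, hi]
  let w : Finset ℕ → (Fin k → ZMod 2) := fun s => ∑ i ∈ s, fr (q i)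
  have htri : ∀ a b c : ℕ, a ≠ b → a ≠ c → b ≠ c →
      w {a, b, c} = fr (q a) + fr (q b) + fr (q c) := fun a b c h1 h2 h3 => by
    simp only [w]
    rw [Finset.sum_insert (by simp [h1, h2]), Finset.sum_insert (by simp [h3]),
      Finset.sum_singleton, add_assoc]
  have hneg : ∀ x : Fin k → ZMod 2, -x = x := fun x => by funext i; exact ZMod.neg_eq_self_mod_two _
  have haff : ∀ x y z : Fin k → ZMod 2, aff (x + y + z) = aff x + aff y + aff z := fun x y z => by
    have h := aff_comb x y z
    rw [show x + y - z = x + y + z by rw [sub_eq_add_neg, hneg]] at h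
    rw [h, sub_eq_add_neg]
    congr 1
    funext i; exact ZMod.neg_eq_self_mod_two _
  -- the coordinates of the sum over a triple
  have hval : ∀ a b c l : ℕ, a ≤ k → b ≤ k → c ≤ k → l ≤ k → a ≠ b → a ≠ c → b ≠ c →
      (aff (w {a, b, c}) (q l) = 1 ↔ (l = a ∨ l = b ∨ l = c)) := by
    intro a b c l ha hb hc hl h1 h2 h3
    rw [htri a b c h1 h2 h3, haff, aff_fr, aff_fr, aff_fr]
    simp only [Pi.add_apply, Pi.single_apply, Fin.ext_iff, hq _ ha, hq _ hb, hq _ hc, hq _ hl]
    by_cases g1 : l = a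
    · subst g1; simp [h1, h2]
    by_cases g2 : l = b
    · subst g2; simp [g1, h3]
    by_cases g3 : l = c
    · subst g3; simp [g1, g2]
    simp [g1, g2, g3]
  have hTsplit : ∀ s, Triple k s → ∃ a b c, s = {a, b, c} ∧ a ≤ k ∧ b ≤ k ∧ c ≤ k ∧
      a ≠ b ∧ a ≠ c ∧ b ≠ c := by
    rintro s (⟨j, hj, rfl⟩ | rfl)
    · exact ⟨j, j + 1, j + 2, rfl, by omega⟩
    · exact ⟨0, 1, 3, rfl, by omega⟩
  let c : (Fin k → ZMod 2) → Fin 3 := fun x =>
    if (∃ j, fr j = x) then 0 else if (∃ s, Triple k s ∧ w s = x) then 1 else 2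
  refine ⟨c, fun f t hft x => ?_⟩
  have hF : ∀ j, ∃ i, f (fr j) + t = fr i := fun j => by
    have := hft (fr j)
    have hj : c (fr j) = 0 := if_pos ⟨j, rfl⟩
    rw [hj] at this
    by_contra hne
    simp only [c] at this
    rw [if_neg (fun ⟨i, hi⟩ => hne ⟨i, hi.symm⟩)] at this
    split_ifs at this <;> simp at this
  obtain ⟨σ, hσi, hσ⟩ := frame_perm f t hF
  let σ' : ℕ → ℕ := fun i => σ (q i)
  have hmaps : ∀ i, i ≤ k → σ' i ≤ k := fun i _ => Nat.le_of_lt_succ (σ (q i)).isLt
  have hinj : ∀ i j, i ≤ k → j ≤ k → σ' i = σ' j → i = j := fun i j hi hj h => by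
    have := congrArg Fin.val (hσi (Fin.ext h : σ (q i) = σ (q j)))
    rwa [hq i hi, hq j hj] at this
  have hqσ : ∀ i, q (σ' i) = σ (q i) := fun i =>
    Fin.ext (hq _ (Nat.le_of_lt_succ (σ (q i)).isLt))
  have hnf : ∀ a b d, a ≤ k → b ≤ k → d ≤ k → a ≠ b → a ≠ d → b ≠ d → ∀ j, w {a, b, d} ≠ fr j := by
    intro a b d ha hb hd h1 h2 h3 j h
    have e1 := (hval a b d a ha hb hd ha h1 h2 h3).2 (Or.inl rfl)
    have e2 := (hval a b d b ha hb hd hb h1 h2 h3).2 (Or.inr (Or.inl rfl))
    rw [h, aff_fr, Pi.single_apply] at e1 e2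
    have g1 : q a = j := by by_contra g; rw [if_neg g] at e1; exact zero_ne_one e1
    have g2 : q b = j := by by_contra g; rw [if_neg g] at e2; exact zero_ne_one e2
    exact h1 (by rw [← hq a ha, ← hq b hb, g1, g2])
  have hT : ∀ s, Triple k s → Triple k (s.image σ') := by
    intro s hs
    obtain ⟨a, b, d, rfl, ha, hb, hd, h1, h2, h3⟩ := hTsplit s hs
    have m1 : σ' a ≠ σ' b := fun h => h1 (hinj a b ha hb h)
    have m2 : σ' a ≠ σ' d := fun h => h2 (hinj a d ha hd h)
    have m3 : σ' b ≠ σ' d := fun h => h3 (hinj b d hb hd h)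
    have := hft (w {a, b, d})
    have hc1 : c (w {a, b, d}) = 1 := by
      simp only [c]
      rw [if_neg (fun ⟨j, hj⟩ => hnf a b d ha hb hd h1 h2 h3 j hj.symm), if_pos ⟨_, hs, rfl⟩]
    rw [hc1] at this
    have himg : f (w {a, b, d}) + t = w {σ' a, σ' b, σ' d} := by
      rw [htri a b d h1 h2 h3, htri _ _ _ m1 m2 m3, hqσ, hqσ, hqσ,
        show fr (q a) + fr (q b) + fr (q d) = fr (q a) + fr (q b) - fr (q d) by
          rw [sub_eq_add_neg, hneg],
        map_comb, hσ, hσ, hσ, sub_eq_add_neg, hneg]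
    rw [himg] at this
    simp only [c] at this
    rw [if_neg (fun ⟨j, hj⟩ => hnf _ _ _ (hmaps a ha) (hmaps b hb) (hmaps d hd) m1 m2 m3 j
      hj.symm)] at this
    split_ifs at this with hex
    · obtain ⟨s', hs', hw'⟩ := hex
      obtain ⟨a', b', d', rfl, ha', hb', hd', n1, n2, n3⟩ := hTsplit s' hs'
      rw [Finset.image_insert, Finset.image_insert, Finset.image_singleton]
      have heq : ({σ' a, σ' b, σ' d} : Finset ℕ) = {a', b', d'} := by
        ext y
        simp only [Finset.mem_insert, Finset.mem_singleton]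
        rcases Nat.lt_or_ge k y with hy | hy
        · have := hmaps a ha; have := hmaps b hb; have := hmaps d hd
          omega
        · rw [← hval _ _ _ y (hmaps a ha) (hmaps b hb) (hmaps d hd) hy m1 m2 m3,
            ← hval _ _ _ y ha' hb' hd' hy n1 n2 n3, hw']
      rwa [heq]
    · simp at this
  have hfix := triples_rigid hk σ' hmaps hinj hT
  refine eq_self_of_fr f t (fun j => ?_) x
  rw [hσ]
  congr 1
  have hj : q j = j := Fin.ext (hq j (Nat.le_of_lt_succ j.isLt))
  have := hfix j (Nat.le_of_lt_succ j.isLt)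
  rw [← hj]
  exact Fin.ext (by rw [hj]; simpa [σ', hj] using this)

/-- The colour of a point of the four-dimensional space over two elements. -/
def col16 (i : ℕ) : ℕ := [1, 1, 0, 1, 1, 2, 0, 1, 2, 0, 2, 1, 0, 0, 0, 2].getD i 0

set_option synthInstance.maxSize 2000 in
set_option synthInstance.maxHeartbeats 200000 in
theorem search16 : ∀ y0 : Fin 16, col16 y0 = 1 → ∀ y1 : Fin 16, col16 y1 = 1 →
    ∀ y2 : Fin 16, col16 y2 = 0 → col16 ((y0.val ^^^ y1.val) ^^^ y2.val) = 1 →
    ∀ y3 : Fin 16, col16 y3 = 1 → col16 ((y0.val ^^^ y1.val) ^^^ y3.val) = 2 →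
    col16 ((y0.val ^^^ y2.val) ^^^ y3.val) = 0 →
    col16 ((y1.val ^^^ y2.val) ^^^ y3.val) = 1 →
    ∀ y4 : Fin 16, col16 y4 = 2 → col16 ((y0.val ^^^ y1.val) ^^^ y4.val) = 0 →
    col16 ((y0.val ^^^ y2.val) ^^^ y4.val) = 2 →
    col16 ((y1.val ^^^ y2.val) ^^^ y4.val) = 1 →
    col16 ((y0.val ^^^ y3.val) ^^^ y4.val) = 0 →
    col16 ((y1.val ^^^ y3.val) ^^^ y4.val) = 0 →
    col16 ((y2.val ^^^ y3.val) ^^^ y4.val) = 0 →
    col16 ((((y0.val ^^^ y1.val) ^^^ y2.val) ^^^ y3.val) ^^^ y4.val) = 2 →
    y0.val = 0 ∧ y1.val = 1 ∧ y2.val = 2 ∧ y3.val = 4 ∧ y4.val = 8 := by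
  decide +kernel

/-- The number with the given binary digits. -/
def num16 (x : Fin 4 → ZMod 2) : ℕ :=
  (x 0).val + 2 * (x 1).val + 4 * (x 2).val + 8 * (x 3).val

theorem num16_add : ∀ x y : Fin 4 → ZMod 2, num16 (x + y) = num16 x ^^^ num16 y := by
  decide +kernel

theorem num16_spec : ∀ x : Fin 4 → ZMod 2,
    num16 x < 16 ∧ (col16 (num16 x) < 3) ∧ ∀ y : Fin 4 → ZMod 2, num16 x = num16 y → x = y := by
  decide +kernel

theorem frame16 :
    (fun j => num16 (fr (r := 2) (k := 4) j)) = ![0, 1, 2, 4, 8] := by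
  decide +kernel

/-- Dimension four over two elements. -/
theorem affRigid_sixteen : AffRigid (Fin 4 → ZMod 2) := by
  refine ⟨fun x => ⟨col16 (num16 x), (num16_spec x).2.1⟩, fun a t hat x => ?_⟩
  let f : (Fin 4 → ZMod 2) → (Fin 4 → ZMod 2) := fun x => a x + t
  have hc : ∀ x, col16 (num16 (f x)) = col16 (num16 x) := fun x => congrArg Fin.val (hat x)
  let p : Fin 5 → (Fin 4 → ZMod 2) := fr
  let y : Fin 5 → Fin 16 := fun j => ⟨num16 (f (p j)), (num16_spec _).1⟩
  have h1 : ∀ j, col16 (y j) = col16 (num16 (p j)) := fun j => hc _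
  have hdbl : ∀ u : Fin 4 → ZMod 2, u + u = 0 := fun u => by
    funext i; exact CharTwo.add_self_eq_zero _
  have hf3 : ∀ u v w, f (u + v + w) = f u + f v + f w := fun u v w => by
    simp only [f, map_add]
    rw [show a u + t + (a v + t) + (a w + t) = a u + a v + a w + t + (t + t) by abel, hdbl, add_zero]
  have h3 : ∀ i j l, col16 (((y i).val ^^^ (y j).val) ^^^ (y l).val) =
      col16 (num16 (p i + p j + p l)) := fun i j l => by
    rw [← hc (p i + p j + p l), hf3, num16_add, num16_add]
  have h5 : col16 (((((y 0).val ^^^ (y 1).val) ^^^ (y 2).val) ^^^ (y 3).val) ^^^ (y 4).val) =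
      col16 (num16 (p 0 + p 1 + p 2 + p 3 + p 4)) := by
    rw [← hc (p 0 + p 1 + p 2 + p 3 + p 4), hf3, hf3, num16_add, num16_add, num16_add, num16_add]
  obtain ⟨e0, e1, e2, e3, e4⟩ := search16 (y 0) ((h1 0).trans (by decide +kernel))
    (y 1) ((h1 1).trans (by decide +kernel))
    (y 2) ((h1 2).trans (by decide +kernel)) ((h3 0 1 2).trans (by decide +kernel))
    (y 3) ((h1 3).trans (by decide +kernel)) ((h3 0 1 3).trans (by decide +kernel))
    ((h3 0 2 3).trans (by decide +kernel)) ((h3 1 2 3).trans (by decide +kernel))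
    (y 4) ((h1 4).trans (by decide +kernel)) ((h3 0 1 4).trans (by decide +kernel))
    ((h3 0 2 4).trans (by decide +kernel)) ((h3 1 2 4).trans (by decide +kernel))
    ((h3 0 3 4).trans (by decide +kernel)) ((h3 1 3 4).trans (by decide +kernel))
    ((h3 2 3 4).trans (by decide +kernel)) (h5.trans (by decide +kernel))
  refine eq_self_of_fr a t (fun j => (num16_spec _).2.2 _ ?_) x
  show (y j).val = num16 (p j)
  rw [show num16 (p j) = ![0, 1, 2, 4, 8] j from congrFun frame16 j]
  fin_cases j
  exacts [e0, e1, e2, e3, e4]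

theorem exists_addEquiv_pi {L : Type} [AddCommGroup L] [Finite L] (q : ℕ) [Fact q.Prime]
    [Module (ZMod q) L] : ∃ m, Nonempty (L ≃+ (Fin m → ZMod q)) :=
  haveI : Module.Finite (ZMod q) L := Module.Finite.of_finite
  ⟨_, ⟨(Module.finBasis (ZMod q) L).equivFun.toAddEquiv⟩⟩

/-- A rigid colouring of an elementary abelian group other than those of order two, four, eight
and those of exponent three. -/
theorem affRigid_of_exp {L : Type} [AddCommGroup L] [Finite L] {r : ℕ} [hr : Fact r.Prime]
    (hr3 : r ≠ 3) (hexp : ∀ x : L, r • x = 0) (hbig : r = 2 → 8 < Nat.card L) : AffRigid L := by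
  obtain ⟨k, ⟨e⟩⟩ := @exists_addEquiv_pi L _ _ r hr (AddCommGroup.zmodModule hexp)
  refine AffRigid.congr e ?_
  by_cases h2 : r = 2
  · subst h2
    have hc : Nat.card L = 2 ^ k := by
      rw [Nat.card_congr e.toEquiv, Nat.card_fun, Nat.card_zmod, Nat.card_fin]
    have hk : 4 ≤ k := by
      by_contra hlt
      have := Nat.pow_le_pow_right (show 1 ≤ 2 by norm_num) (show k ≤ 3 by omega)
      have := hbig rfl
      omega
    rcases Nat.eq_or_lt_of_le hk with h | h
    · rw [← h]; exact affRigid_sixteen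
    · exact affRigid_two h
  · have h5 : 5 ≤ r := by
      have := hr.out.two_le
      rcases Nat.lt_or_ge r 5 with h | h
      · interval_cases r
        · exact absurd rfl h2
        · exact absurd rfl hr3
        · exact absurd hr.out (by decide)
      · exact h
    exact affRigid_of_five_le h5 _

end Cfsg.Agent.DP71.Imprim
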