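import Cfsg.Agent.Lib.BaseThree.Induction
import Cfsg.Agent.Lib.OddPair71.Basic
import Cfsg.Agent.Lib.DolfiPair71.ImprimAffine

/-!
# Three colours for solvable permutation groups of order prime to three

Every solvable permutation group of order prime to three has a colouring of its points with three
colours that only the identity preserves.
-/

set_option autoImplicit false
set_option linter.style.haveILetI false
set_option linter.unusedSectionVars false

namespace Cfsg.Agent.DP71.Imprim

open Cfsg.Agent.Lib.BaseThree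
open scoped commutatorElement Pointwise

/-- A colouring with three colours that only the trivially acting elements preserve. -/
def Colour3 (G Ω : Type*) [Group G] [MulAction G Ω] : Prop :=
  ∃ c : Ω → Fin 3, ∀ g : G, (∀ x, c (g • x) = c x) → ∀ x : Ω, g • x = x

/-- An element of order prime to `p` is trivial on `Ω` if its `p`-th power is. -/
theorem fix_of_pow_fix {G Ω : Type*} [Group G] [MulAction G Ω] [Finite G] {p : ℕ} (hp : p.Prime)
    (hpG : ¬ p ∣ Nat.card G) {g : G} {x : Ω} (h : g ^ p • x = x) : g • x = x := by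
  have hco : p.Coprime (orderOf g) :=
    (hp.coprime_iff_not_dvd).2 fun hd => hpG (hd.trans (orderOf_dvd_natCard g))
  obtain ⟨m, hm⟩ := exists_pow_eq_self_of_coprime hco
  have : g ^ p ∈ MulAction.stabilizer G x := h
  have := (MulAction.stabilizer G x).pow_mem this m
  rwa [hm] at this

/-- Three pairwise inequivalent colourings from one. -/
theorem Colour3.three {G Ω : Type*} [Group G] [Finite G] [MulAction G Ω] [Nonempty Ω]
    (h3 : ¬ 3 ∣ Nat.card G) (h : Colour3 G Ω) : ∃ c : Fin 3 → Ω → Fin 3, ∀ i j, ∀ g : G,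
      (∀ x, c i (g • x) = c j x) → i = j ∧ ∀ x : Ω, g • x = x := by
  obtain ⟨c, hc⟩ := h
  refine ⟨fun i x => c x + i, fun i j g hg => ?_⟩
  have hk : ∀ x, c (g • x) = c x + (j - i) := fun x => by
    have := hg x
    simp only at this
    rw [← add_sub_assoc, ← this, add_sub_cancel_right]
  have hcube : ∀ x, c (g ^ 3 • x) = c x := fun x => by
    rw [show g ^ 3 = g * (g * g) by rw [pow_succ', sq], mul_smul, mul_smul, hk, hk, hk]
    generalize c x = u, j - i = v
    revert u v; decide
  have hfix : ∀ x, g • x = x := fun x => fix_of_pow_fix Nat.prime_three h3 (hc _ hcube x)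
  refine ⟨?_, hfix⟩
  obtain ⟨x⟩ := ‹Nonempty Ω›
  have := hg x
  simp only [hfix x] at this
  exact add_left_cancel this

/-- Colourings for all solvable permutation groups of order prime to three on at most `n` points. -/
def Colour3OK (n : ℕ) : Prop :=
  ∀ (Ω : Type) [Finite Ω], Nat.card Ω ≤ n → ∀ G : Subgroup (Equiv.Perm Ω),
    Group.IsSolvable G → ¬ 3 ∣ Nat.card G → Colour3 G Ω

theorem colour3_of_action {n : ℕ} (hC : Colour3OK n) {S Ω : Type} [Group S] [Group.IsSolvable S]
    [MulAction S Ω] [Finite Ω] (hn : Nat.card Ω ≤ n) (h3 : ¬ 3 ∣ Nat.card S) : Colour3 S Ω := by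
  obtain ⟨c, hc⟩ := hC Ω hn (MulAction.toPermHom S Ω).range
    (Group.isSolvable_of_surjective (MulAction.toPermHom S Ω).rangeRestrict_surjective)
    fun h => h3 (h.trans (Subgroup.card_range_dvd _))
  exact ⟨c, fun g hg x => hc ⟨_, g, rfl⟩ hg x⟩

/-- In dimension at most three over two elements, a solvable irreducible group of order prime to
three has a vector whose stabiliser is trivial. -/
theorem exists_regular_small {L : Type} [AddCommGroup L] [Finite L] [Nontrivial L]
    (hexp : ∀ x : L, 2 • x = 0) (hcard : Nat.card L ≤ 8) (G : Subgroup (AddMonoid.End L)ˣ)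
    (hG : Group.IsSolvable G) (h3 : ¬ 3 ∣ Nat.card G) (hirr : Irred G) :
    ∃ v : L, v ≠ 0 ∧ ∀ g ∈ G, g • v = v → ∀ x : L, g • x = x := by
  classical
  haveI := hG
  obtain ⟨v, hv0⟩ := exists_ne (0 : L)
  refine ⟨v, hv0, ?_⟩
  by_cases hbot : ∀ g : G, g = 1
  · intro g hg _ x
    have := hbot ⟨g, hg⟩
    rw [show g = 1 from congrArg Subtype.val this, one_smul]
  -- an abelian normal subgroup of prime exponent
  obtain ⟨A, hA, hAne, hAab⟩ : ∃ A : Subgroup G, A.Normal ∧ A ≠ ⊥ ∧
      ∀ a ∈ A, ∀ b ∈ A, a * b = b * a := by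
    have hex : ∃ n, derivedSeries G n = ⊥ := (Group.isSolvable_def G).1 hG
    obtain ⟨n, hn⟩ : ∃ n, Nat.find hex = n + 1 := by
      refine Nat.exists_eq_succ_of_ne_zero fun h0 => hbot fun g => ?_
      have h := Nat.find_spec hex
      rw [h0, derivedSeries_zero] at h
      have : g ∈ (⊤ : Subgroup G) := trivial
      rwa [h, Subgroup.mem_bot] at this
    refine ⟨derivedSeries G n, derivedSeries_normal G n, Nat.find_min hex (by omega),
      fun a ha b hb => commutatorElement_eq_one_iff_mul_comm.1 ?_⟩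
    have h1 := Subgroup.commutator_mem_commutator ha hb
    rwa [← derivedSeries_succ, ← hn, Nat.find_spec hex, Subgroup.mem_bot] at h1
  obtain ⟨r, hr, hrA⟩ := Nat.exists_prime_and_dvd
    (fun h => hAne (Subgroup.eq_bot_of_card_eq A h))
  haveI := Fact.mk hr
  obtain ⟨x0, hx0⟩ := exists_prime_orderOf_dvd_card' r hrA
  let M : Subgroup G :=
    { carrier := {m | m ∈ A ∧ m ^ r = 1}
      one_mem' := ⟨A.one_mem, one_pow r⟩
      mul_mem' := fun {a b} ha hb => ⟨A.mul_mem ha.1 hb.1, by
        rw [(show Commute a b from hAab a ha.1 b hb.1).mul_pow, ha.2, hb.2, one_mul]⟩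
      inv_mem' := fun {a} ha => ⟨A.inv_mem ha.1, by rw [inv_pow, ha.2, inv_one]⟩ }
  have hMn : ∀ g : G, ∀ m ∈ M, g * m * g⁻¹ ∈ M := fun g m hm =>
    ⟨hA.conj_mem m hm.1 g, by rw [conj_pow, hm.2, mul_one, mul_inv_cancel]⟩
  have hMab : ∀ a ∈ M, ∀ b ∈ M, a * b = b * a := fun a ha b hb => hAab a ha.1 b hb.1
  have hx0M : (x0 : G) ∈ M := ⟨x0.2, by rw [← hx0, ← Subgroup.orderOf_coe, pow_orderOf_eq_one]⟩
  have hx0ne : (x0 : G) ≠ 1 := fun h => hr.one_lt.ne' (by
    rw [← hx0, ← Subgroup.orderOf_coe, h, orderOf_one])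
  have hMp : IsPGroup r M := fun m => ⟨1, by rw [pow_one]; exact Subtype.ext m.2.2⟩
  -- no fixed vector
  have hfix : ∀ u : L, (∀ m ∈ M, m • u = u) → u = 0 := by
    intro u hu
    let U : AddSubgroup L :=
      { carrier := {u | ∀ m ∈ M, m • u = u}
        add_mem' := fun ha hb m hm => by rw [smul_add, ha m hm, hb m hm]
        zero_mem' := fun m _ => smul_zero m
        neg_mem' := fun ha m hm => by rw [smul_neg, ha m hm] }
    rcases hirr U (fun g hg u hu m hm => by
      have h := hu _ (hMn (⟨g, hg⟩⁻¹ : G) m hm)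
      rw [inv_inv, mul_smul, mul_smul, inv_smul_eq_iff] at h
      exact h) with h | h
    · have : u ∈ U := hu
      rwa [h, AddSubgroup.mem_bot] at this
    · exfalso
      apply hx0ne
      refine Subtype.ext (Units.ext (DFunLike.ext _ _ fun w => ?_))
      have hw : w ∈ U := h ▸ AddSubgroup.mem_top w
      exact hw _ hx0M
  -- orbit lengths
  have horb : ∀ u : L, u ≠ 0 → ∃ e, Nat.card (MulAction.orbit M u) = r ^ (e + 1) := by
    intro u hu
    obtain ⟨e, he⟩ := hMp.card_orbit u
    rcases e with _ | e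
    · exfalso
      refine hu (hfix u fun m hm => ?_)
      rw [pow_zero, Nat.card_eq_one_iff_unique] at he
      exact congrArg Subtype.val (he.1.elim
        (⟨(⟨m, hm⟩ : M) • u, MulAction.mem_orbit _ _⟩ : MulAction.orbit M u)
        ⟨u, MulAction.mem_orbit_self u⟩)
    · exact ⟨e, he⟩
  have hr2 : r ≠ 2 := by
    rintro rfl
    have h2 : 2 ∣ Nat.card L := by
      rw [← addOrderOf_eq_prime (hexp v) hv0]; exact addOrderOf_dvd_natCard v
    have h0 : (0 : L) ∈ MulAction.fixedPoints M L := fun m => smul_zero m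
    obtain ⟨u, hu, hne⟩ := hMp.exists_fixed_point_of_prime_dvd_card_of_fixed_point L h2 h0
    exact hne (hfix u fun m hm => hu ⟨m, hm⟩).symm
  have hr3 : r ≠ 3 := by
    rintro rfl
    exact h3 (hrA.trans (Subgroup.card_subgroup_dvd_card A))
  have hr5 : 5 ≤ r := by
    have := hr.two_le
    rcases Nat.lt_or_ge r 5 with h | h
    · interval_cases r
      · exact absurd rfl hr2
      · exact absurd rfl hr3
      · exact absurd hr (by decide)
    · exact h
  cases nonempty_fintype L
  have hbig : ∀ u : L, u ≠ 0 → 5 ≤ Nat.card (MulAction.orbit M u) := fun u hu => by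
    obtain ⟨e, he⟩ := horb u hu
    rw [he]; exact le_trans hr5 (Nat.le_self_pow (Nat.succ_ne_zero e) r)
  have hO0 : ∀ u : L, u ≠ 0 → (0 : L) ∉ MulAction.orbit M u := fun u hu ⟨m, hm⟩ =>
    hu ((smul_eq_zero_iff_eq m).1 hm)
  have hcardO : ∀ u : L, Nat.card (MulAction.orbit M u) = (MulAction.orbit M u).toFinset.card :=
    fun u => by rw [Nat.card_eq_fintype_card, Set.toFinset_card]
  rw [Nat.card_eq_fintype_card] at hcard
  -- one orbit of nonzero vectors
  have hone : ∀ u : L, u ≠ 0 → u ∈ MulAction.orbit M v := by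
    intro u hu
    by_contra hne
    have hd : Disjoint (MulAction.orbit M v).toFinset (MulAction.orbit M u).toFinset := by
      rw [Finset.disjoint_left]
      intro a ha hb
      rw [Set.mem_toFinset] at ha hb
      refine hne ?_
      rw [← MulAction.orbit_eq_iff.2 ha, MulAction.orbit_eq_iff.2 hb]
      exact MulAction.mem_orbit_self u
    have := Finset.card_le_univ ((MulAction.orbit M v).toFinset ∪ (MulAction.orbit M u).toFinset)
    rw [Finset.card_union_of_disjoint hd] at this
    have := hbig v hv0; have := hbig u hu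
    have := hcardO v; have := hcardO u
    omega
  have hsix : 6 ≤ Fintype.card L := by
    have := Finset.card_le_univ (insert (0 : L) (MulAction.orbit M v).toFinset)
    rw [Finset.card_insert_of_notMem (by rw [Set.mem_toFinset]; exact hO0 v hv0)] at this
    have := hbig v hv0; have := hcardO v
    omega
  have hcard8 : Fintype.card L = 8 := by
    obtain ⟨d, hd⟩ := OP71.card_natPrime_pow_eq (V := L) Nat.prime_two hexp
    rw [Nat.card_eq_fintype_card] at hd
    have hd3 : d = 3 := by
      rcases lt_trichotomy d 3 with h | h | h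
      · have := Nat.pow_le_pow_right two_pos (show d ≤ 2 by omega); omega
      · exact h
      · have := Nat.pow_le_pow_right two_pos (show 4 ≤ d by omega); omega
    rw [hd, hd3]; norm_num
  have hr7 : r = 7 := by
    have heq : insert (0 : L) (MulAction.orbit M v).toFinset = Finset.univ := by
      rw [Finset.eq_univ_iff_forall]
      intro a
      by_cases ha : a = 0
      · simp [ha]
      · simp [hone a ha]
    have h7 := congrArg Finset.card heq
    rw [Finset.card_insert_of_notMem (by rw [Set.mem_toFinset]; exact hO0 v hv0),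
      Finset.card_univ, ← hcardO, hcard8] at h7
    obtain ⟨e, he⟩ := horb v hv0
    have h77 : r ∣ 7 := by
      rw [show 7 = r ^ (e + 1) by omega]; exact dvd_pow_self r (Nat.succ_ne_zero e)
    exact (Nat.prime_dvd_prime_iff_eq hr (by norm_num)).1 h77
  -- the stabiliser of `v`
  suffices hs : ∀ b : G, b • v = v → ∀ q : ℕ, q.Prime → orderOf b ≠ q by
    intro g hg hgv x
    by_contra hne
    have hg1 : (⟨g, hg⟩ : G) ≠ 1 := fun h => hne (by
      rw [show g = 1 from congrArg Subtype.val h, one_smul])
    obtain ⟨q, hq, hqd⟩ := Nat.exists_prime_and_dvd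
      (fun h => hg1 (orderOf_eq_one_iff.1 h))
    refine hs ((⟨g, hg⟩ : G) ^ (orderOf (⟨g, hg⟩ : G) / q)) ?_ q hq ?_
    · exact (MulAction.stabilizer G v).pow_mem (show (⟨g, hg⟩ : G) ∈ _ from hgv) _
    · exact orderOf_pow_orderOf_div (orderOf_pos _).ne' hqd
  intro b hbv q hq hbq
  have hMinj : ∀ m ∈ M, m • v = v → m = 1 := by
    intro m hm hmv
    refine Subtype.ext (Units.ext (DFunLike.ext _ _ fun w => ?_))
    show m • w = w
    by_cases hw : w = 0
    · rw [hw, smul_zero]
    obtain ⟨⟨k, hk⟩, rfl⟩ := hone w hw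
    show m • k • v = k • v
    rw [← mul_smul, hMab m hm k hk, mul_smul, hmv]
  -- `b` fixes only `0` and `v`
  have hb1 : b ≠ 1 := fun h => hq.one_lt.ne' (by rw [← hbq, h, orderOf_one])
  have hfb : ∀ w : L, b • w = w → w = 0 ∨ w = v := by
    intro w hw
    by_cases hw0 : w = 0
    · exact Or.inl hw0
    right
    obtain ⟨⟨m, hm⟩, rfl⟩ := hone w hw0
    show m • v = v
    have hw' : b • m • v = m • v := hw
    have h1 : (m⁻¹ * (b * m * b⁻¹)) • v = v := by
      rw [mul_smul, mul_smul, mul_smul, inv_smul_eq_iff.2 hbv.symm, hw', inv_smul_smul]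
    have h2 := hMinj _ (M.mul_mem (M.inv_mem hm) (hMn b m hm)) h1
    have h2' : b * m * b⁻¹ = m := (inv_mul_eq_one.1 h2).symm
    by_contra hne
    -- `b` centralises `M`
    have hm1 : m ≠ 1 := fun h => hne (by rw [h, one_smul])
    apply hb1
    refine Subtype.ext (Units.ext (DFunLike.ext _ _ fun u => ?_))
    show b • u = u
    by_cases hu : u = 0
    · rw [hu, smul_zero]
    obtain ⟨⟨k, hk⟩, rfl⟩ := hone u hu
    show b • k • v = k • v
    have hMcard : Nat.card M = 7 := by
      have hb' : Function.Bijective (fun m : M => (⟨m • v, MulAction.mem_orbit v m⟩ :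
          MulAction.orbit M v)) := by
        refine ⟨fun a c h => ?_, fun ⟨u, m, hm⟩ => ⟨m, Subtype.ext hm⟩⟩
        have h' : (a : G) • v = (c : G) • v := congrArg Subtype.val h
        have h'' := hMinj _ (M.mul_mem (M.inv_mem c.2) a.2) (by rw [mul_smul, h', inv_smul_smul])
        exact Subtype.ext (inv_mul_eq_one.1 h'').symm
      have heq : Fintype.card L = Nat.card (MulAction.orbit M v) + 1 := by
        rw [hcardO, ← Finset.card_insert_of_notMem (show (0 : L) ∉ (MulAction.orbit M v).toFinset by
          rw [Set.mem_toFinset]; exact hO0 v hv0), ← Finset.card_univ]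
        congr 1
        symm
        rw [Finset.eq_univ_iff_forall]
        intro a
        by_cases ha : a = 0
        · simp [ha]
        · simp [hone a ha]
      exact (Nat.card_congr (Equiv.ofBijective _ hb')).trans
        (by omega : Nat.card (MulAction.orbit M v) = 7)
    haveI : Fact (Nat.card M).Prime := ⟨by rw [hMcard]; norm_num⟩
    haveI : Fact (Nat.Prime 7) := ⟨by norm_num⟩
    have hkz : (⟨k, hk⟩ : M) ∈ Subgroup.zpowers (⟨m, hm⟩ : M) :=
      mem_zpowers_of_prime_card hMcard (fun h => hm1 (congrArg Subtype.val h))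
    obtain ⟨i, hi⟩ := hkz
    have hki : k = m ^ i := by
      have h7 := congrArg Subtype.val hi
      simpa using h7.symm
    have hcomm : Commute b m := by
      show b * m = m * b
      exact mul_inv_eq_iff_eq_mul.1 h2'
    rw [hki, ← mul_smul, (hcomm.zpow_right i).eq, mul_smul, hbv]
  have hbL : orderOf b = q := hbq
  rcases eq_or_ne q 2 with rfl | hq2
  · -- an involution fixes at least half
    have hb2 : ∀ x : L, b • b • x = x := fun x => by
      rw [← mul_smul, ← sq, ← hbq, pow_orderOf_eq_one, one_smul]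
    have hdbl : ∀ x : L, x + x = 0 := fun x => by rw [← two_nsmul]; exact hexp x
    let N : Finset L := {0, v}
    have hN : ∀ x : L, x + b • x ∈ N := fun x => by
      rcases hfb (x + b • x) (by rw [smul_add, hb2, add_comm]) with h | h <;> simp [N, h]
    have hker : ∀ x y : L, x + b • x = y + b • y → x - y ∈ N := fun x y h => by
      have : b • (x - y) = x - y := by
        rw [smul_sub, eq_sub_iff_add_eq]
        have e1 : b • x = x + (y + b • y) := by rw [← h, ← add_assoc, hdbl, zero_add]
        rw [e1]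
        have e2 : b • y + b • y = 0 := hdbl _
        have e3 : (x - y) + y = x := sub_add_cancel x y
        calc x + (y + b • y) - b • y + y = x + (y + y) := by abel
          _ = x := by rw [hdbl, add_zero]
      rcases hfb _ this with h' | h' <;> simp [N, h']
    have h4 : Fintype.card L ≤ 2 * N.card := by
      rw [← Finset.card_univ]
      refine le_trans (Finset.card_le_mul_card_image (f := fun x => x + b • x) Finset.univ 2
        fun a ha => ?_) (Nat.mul_le_mul_left 2 (Finset.card_le_card fun a ha => ?_))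
      · obtain ⟨x, -, rfl⟩ := Finset.mem_image.1 ha
        refine le_trans (Finset.card_le_card (t := N.image fun n => x + n) fun y hy => ?_)
          (le_trans Finset.card_image_le (Finset.card_insert_le _ _))
        rw [Finset.mem_filter] at hy
        exact Finset.mem_image.2 ⟨y - x, hker y x hy.2, by abel⟩
      · obtain ⟨x, -, rfl⟩ := Finset.mem_image.1 ha
        exact hN x
    have : N.card ≤ 2 := (Finset.card_insert_le _ _).trans (by simp)
    omega
  · -- an odd prime: count fixed points
    haveI := Fact.mk hq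
    have hq3 : q ≠ 3 := by
      rintro rfl
      exact h3 (hbq ▸ orderOf_dvd_natCard b)
    let B := Subgroup.zpowers b
    have hB : IsPGroup q B := IsPGroup.of_card (n := 1) (by
      rw [Nat.card_zpowers, hbq, pow_one])
    have hmod := hB.card_modEq_card_fixedPoints L
    have hset : MulAction.fixedPoints B L = ({0, v} : Set L) := by
      ext w
      constructor
      · intro hw
        exact hfb w (hw ⟨b, Subgroup.mem_zpowers b⟩)
      · rintro (rfl | rfl) ⟨c, hc⟩
        · exact smul_zero _
        · exact (Subgroup.zpowers_le.2 (show b ∈ MulAction.stabilizer G _ from hbv)) hc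
    have h2card : Nat.card (MulAction.fixedPoints B L) = 2 := by
      rw [hset, Nat.card_coe_set_eq, Set.ncard_pair hv0.symm]
    rw [Nat.card_eq_fintype_card, hcard8, h2card] at hmod
    have hd : q ∣ 6 := by
      have := (Nat.modEq_iff_dvd' (by norm_num : 2 ≤ 8)).1 hmod.symm
      simpa using this
    have := Nat.le_of_dvd (by norm_num) hd
    interval_cases q <;> first | omega | (revert hq; decide)

/-- A group that is intransitive. -/
theorem colour3_intransitive {n : ℕ} (hC : Colour3OK n) {Ω : Type} [Finite Ω]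
    (hΩ : Nat.card Ω ≤ n + 1) {G : Subgroup (Equiv.Perm Ω)} (hG : Group.IsSolvable G)
    (h3 : ¬ 3 ∣ Nat.card G) {x0 y0 : Ω}
    (hy : y0 ∉ MulAction.orbit G x0) : Colour3 G Ω := by
  classical
  haveI := hG
  cases nonempty_fintype Ω
  let A : SubMulAction G Ω :=
    { carrier := MulAction.orbit G x0
      smul_mem' := fun g x hx => MulAction.mem_orbit_of_mem_orbit g hx }
  let B : SubMulAction G Ω :=
    { carrier := (MulAction.orbit G x0)ᶜ
      smul_mem' := fun g x hx h => hx (by
        have := MulAction.mem_orbit_of_mem_orbit g⁻¹ h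
        rwa [inv_smul_smul] at this) }
  have hA : Nat.card A ≤ n := by
    have : Nat.card A < Nat.card Ω := by
      rw [Nat.card_eq_fintype_card, Nat.card_eq_fintype_card]
      exact Fintype.card_lt_of_injective_not_surjective (fun a : A => (a : Ω)) Subtype.val_injective
        fun hs => by obtain ⟨a, ha⟩ := hs y0; exact hy (ha ▸ a.2)
    omega
  have hB : Nat.card B ≤ n := by
    have : Nat.card B < Nat.card Ω := by
      rw [Nat.card_eq_fintype_card, Nat.card_eq_fintype_card]
      exact Fintype.card_lt_of_injective_not_surjective (fun a : B => (a : Ω)) Subtype.val_injective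
        fun hs => by
          obtain ⟨a, ha⟩ := hs x0
          have ha' : (a : Ω) ∉ MulAction.orbit G x0 := a.2
          exact ha' (by rw [show (a : Ω) = x0 from ha]; exact MulAction.mem_orbit_self x0)
    omega
  obtain ⟨cA, hcA⟩ := colour3_of_action (S := G) (Ω := A) hC hA h3
  obtain ⟨cB, hcB⟩ := colour3_of_action (S := G) (Ω := B) hC hB h3
  refine ⟨fun x => if h : x ∈ MulAction.orbit G x0 then cA ⟨x, h⟩ else cB ⟨x, h⟩, fun g hg x => ?_⟩
  have h1 : ∀ a : A, g • a = a := hcA g fun a => by
    have := hg (a : Ω)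
    dsimp only at this
    rw [dif_pos (show g • (a : Ω) ∈ MulAction.orbit G x0 from (g • a).2), dif_pos (show (a : Ω) ∈ MulAction.orbit G x0 from a.2)] at this
    exact this
  have h2 : ∀ b : B, g • b = b := hcB g fun b => by
    have := hg (b : Ω)
    dsimp only at this
    rw [dif_neg (show g • (b : Ω) ∉ MulAction.orbit G x0 from (g • b).2),
      dif_neg (show (b : Ω) ∉ MulAction.orbit G x0 from b.2)] at this
    exact this
  by_cases h : x ∈ MulAction.orbit G x0
  · exact congrArg Subtype.val (h1 ⟨x, h⟩)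
  · exact congrArg Subtype.val (h2 ⟨x, h⟩)

/-- A transitive imprimitive group. -/
theorem colour3_imprimitive {n : ℕ} (hC : Colour3OK n) {Ω : Type} [Finite Ω]
    (hΩ : Nat.card Ω ≤ n + 1) {G : Subgroup (Equiv.Perm Ω)} (hG : Group.IsSolvable G)
    (h3 : ¬ 3 ∣ Nat.card G)
    [MulAction.IsPretransitive G Ω] {B : Set Ω} (hB : MulAction.IsBlock G B)
    (hB1 : ¬ B.Subsingleton) (hB2 : B ≠ Set.univ) : Colour3 G Ω := by
  classical
  haveI := hG
  cases nonempty_fintype Ω
  obtain ⟨a, haB, b, hbB, hab⟩ : ∃ a ∈ B, ∃ b ∈ B, a ≠ b := by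
    simpa [Set.Subsingleton] using hB1
  -- the blocks
  have htrans : ∀ x : Ω, ∃ g : G, g⁻¹ • x ∈ B := fun x => by
    obtain ⟨g, hg⟩ := MulAction.exists_smul_eq G a x
    exact ⟨g, by rwa [← hg, inv_smul_smul]⟩
  let P := MulAction.orbit G B
  have hPcard : Nat.card P ≤ n := by
    have hlt : Nat.card P < Nat.card Ω := by
      let r : Ω → P := fun x => ⟨Classical.choose (htrans x) • B, MulAction.mem_orbit _ _⟩
      have hr : ∀ x (p : P), x ∈ (p : Set Ω) → r x = p := by
        rintro x ⟨_, g, rfl⟩ hx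
        refine Subtype.ext (hB.smul_eq_smul_of_nonempty ⟨x, ?_, hx⟩)
        rw [Set.mem_smul_set_iff_inv_smul_mem]
        exact Classical.choose_spec (htrans x)
      rw [Nat.card_eq_fintype_card, Nat.card_eq_fintype_card]
      refine Fintype.card_lt_of_surjective_not_injective r (fun p => ?_) fun hinj => hab ?_
      · obtain ⟨g, hg⟩ := p.2
        have hg' : g • B = (p : Set Ω) := hg
        exact ⟨g • a, hr _ p (hg' ▸ Set.smul_mem_smul_set haB)⟩
      · apply hinj
        have hBP : B ∈ P := MulAction.mem_orbit_self B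
        rw [hr a ⟨B, hBP⟩ haB, hr b ⟨B, hBP⟩ hbB]
    omega
  -- the colourings of a block
  let H : Subgroup G := MulAction.stabilizer G B
  letI : MulAction H B :=
    { smul := fun h x => ⟨(h : G) • (x : Ω), by
        have h' : (h : G) • B = B := h.2
        exact (Set.ext_iff.1 h' _).1 (Set.smul_mem_smul_set x.2)⟩
      one_smul := fun x => Subtype.ext (one_smul G (x : Ω))
      mul_smul := fun g h x => Subtype.ext (mul_smul (g : G) (h : G) (x : Ω)) }
  haveI : Group.IsSolvable H :=
    Group.isSolvable_of_isSolvable_injective (f := H.subtype) H.subtype_injective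
  haveI : Nonempty B := ⟨⟨a, haB⟩⟩
  have hBcard : Nat.card B ≤ n := by
    have : Nat.card B < Nat.card Ω := by
      rw [Nat.card_eq_fintype_card, Nat.card_eq_fintype_card]
      refine Fintype.card_lt_of_injective_not_surjective (fun x : B => (x : Ω)) Subtype.val_injective
        fun hs => hB2 (Set.eq_univ_of_forall fun x => ?_)
      obtain ⟨y, hy⟩ := hs x
      exact hy ▸ y.2
    omega
  have h3H : ¬ 3 ∣ Nat.card H := fun h => h3 (h.trans (Subgroup.card_subgroup_dvd_card H))
  obtain ⟨c, hc⟩ := (colour3_of_action (S := H) (Ω := B) hC hBcard h3H).three h3H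
  obtain ⟨col, hcol⟩ := colour3_of_action (S := G) (Ω := P) hC hPcard h3
  have hrep : ∀ p : P, ∃ g : G, g • B = (p : Set Ω) := fun p => p.2
  choose gP hgP using hrep
  -- the block through each point
  let blk : Ω → P := fun x => ⟨Classical.choose (htrans x) • B, MulAction.mem_orbit _ _⟩
  have hblk : ∀ x, x ∈ (blk x : Set Ω) := fun x => by
    show x ∈ Classical.choose (htrans x) • B
    rw [Set.mem_smul_set_iff_inv_smul_mem]
    exact Classical.choose_spec (htrans x)
  have huniq : ∀ x (p : P), x ∈ (p : Set Ω) → blk x = p := by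
    intro x p hx
    refine Subtype.ext ?_
    rw [← hgP p] at hx ⊢
    refine hB.smul_eq_smul_of_nonempty ⟨x, hblk x, hx⟩
  have hin : ∀ x, (gP (blk x))⁻¹ • x ∈ B := fun x => by
    rw [← Set.mem_smul_set_iff_inv_smul_mem, hgP]
    exact hblk x
  refine ⟨fun x => c (col (blk x)) ⟨_, hin x⟩, fun g hg x => ?_⟩
  have hmove : ∀ y, blk (g • y) = g • blk y := fun y => huniq _ _ (by
    show g • y ∈ g • (blk y : Set Ω)
    exact Set.smul_mem_smul_set (hblk y))
  have hk : ∀ p : P, (gP (g • p))⁻¹ * g * gP p ∈ H := fun p => by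
    show ((gP (g • p))⁻¹ * g * gP p) • B = B
    rw [mul_smul, mul_smul, hgP, inv_smul_eq_iff, hgP]
    rfl
  have hkey : ∀ (p : P) (z : B), c (col (g • p)) ((⟨_, hk p⟩ : H) • z) = c (col p) z := by
    intro p z
    have hy : gP p • (z : Ω) ∈ (p : Set Ω) := hgP p ▸ Set.smul_mem_smul_set z.2
    have hp' := huniq _ p hy
    have h := hg (gP p • (z : Ω))
    have e1 : (⟨_, hin (gP p • (z : Ω))⟩ : B) = z := Subtype.ext (by
      show (gP (blk (gP p • (z : Ω))))⁻¹ • gP p • (z : Ω) = z
      rw [hp', inv_smul_smul])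
    have e2 : (⟨_, hin (g • gP p • (z : Ω))⟩ : B) = (⟨_, hk p⟩ : H) • z := Subtype.ext (by
      show (gP (blk (g • gP p • (z : Ω))))⁻¹ • g • gP p • (z : Ω) =
        ((gP (g • p))⁻¹ * g * gP p) • (z : Ω)
      rw [hmove, hp', mul_smul, mul_smul])
    dsimp only at h
    rw [e1, e2, hmove, hp'] at h
    exact h
  have hcol' : ∀ p, col (g • p) = col p := fun p => (hc _ _ _ (hkey p)).1
  have hfix : ∀ p : P, g • p = p := hcol g hcol'
  have hz := (hc _ _ _ (hkey (blk x))).2 ⟨_, hin x⟩
  have hz' : ((gP (g • blk x))⁻¹ * g * gP (blk x)) • ((gP (blk x))⁻¹ • x) = (gP (blk x))⁻¹ • x :=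
    congrArg Subtype.val hz
  rw [hfix, mul_smul, mul_smul, smul_inv_smul] at hz'
  exact smul_left_cancel _ hz'

/-- A primitive group. -/
theorem colour3_primitive {Ω : Type} [Finite Ω] {G : Subgroup (Equiv.Perm Ω)} (hG : Group.IsSolvable G)
    (h3 : ¬ 3 ∣ Nat.card G)
    [MulAction.IsPreprimitive G Ω] [Nontrivial Ω] : Colour3 G Ω := by
  classical
  haveI := hG
  haveI : MulAction.IsPretransitive G Ω := inferInstance
  obtain ⟨x0, y0, hxy⟩ := exists_pair_ne Ω
  -- a minimal normal subgroup
  obtain ⟨N, -, hNmin⟩ := Finite.exists_le_maximal (α := (Subgroup G)ᵒᵈ)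
    (p := fun N => (OrderDual.ofDual N).Normal ∧ OrderDual.ofDual N ≠ ⊥)
    (a := OrderDual.toDual (⊤ : Subgroup G))
    ⟨(inferInstance : (⊤ : Subgroup G).Normal), fun h => hxy (by
      obtain ⟨g, hg⟩ := MulAction.exists_smul_eq G x0 y0
      have : g ∈ (⊤ : Subgroup G) := Subgroup.mem_top g
      have h' : (⊤ : Subgroup G) = ⊥ := h
      rw [h', Subgroup.mem_bot] at this
      rw [← hg, this, one_smul])⟩
  obtain ⟨hNn, hNne⟩ := hNmin.prop
  generalize hNdef : OrderDual.ofDual N = N' at hNn hNne
  haveI := hNn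
  have hmin : ∀ M : Subgroup G, M.Normal → M ≤ N' → M = ⊥ ∨ M = N' := by
    intro M hM hle
    by_cases h : M = ⊥
    · exact Or.inl h
    · refine Or.inr (le_antisymm hle ?_)
      have h1 : OrderDual.ofDual N ≤ M := hNmin.le_of_ge (y := OrderDual.toDual M) ⟨hM, h⟩
        (show M ≤ OrderDual.ofDual N by rw [hNdef]; exact hle)
      rwa [hNdef] at h1
  have hab : ∀ a ∈ N', ∀ b ∈ N', a * b = b * a := by
    intro a ha b hb
    have hlt : ⁅N', N'⁆ < N' := by
      haveI := hG
      exact Group.isSolvable_iff_commutator_lt.1 hG N' hNne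
    have h0 := (hmin ⁅N', N'⁆ inferInstance hlt.le).resolve_right hlt.ne
    have h1 := Subgroup.commutator_mem_commutator ha hb
    rw [h0, Subgroup.mem_bot] at h1
    exact commutatorElement_eq_one_iff_mul_comm.1 h1
  haveI : MulAction.IsPretransitive N' Ω := by
    refine MulAction.IsQuasiPreprimitive.isPretransitive_of_normal (G := G) fun h => hNne ?_
    refine (Subgroup.eq_bot_iff_forall _).2 fun g hg => Subtype.ext (Equiv.ext fun x => ?_)
    have : x ∈ MulAction.fixedPoints N' Ω := h ▸ Set.mem_univ x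
    exact this ⟨g, hg⟩
  have hreg : ∀ m : N', m • x0 = x0 → m = 1 := by
    intro m hm
    refine Subtype.ext (Subtype.ext (Equiv.ext fun x => ?_))
    obtain ⟨k, rfl⟩ := MulAction.exists_smul_eq N' x0 x
    show m • k • x0 = k • x0
    rw [← mul_smul, show m * k = k * m from Subtype.ext (hab m m.2 k k.2), mul_smul, hm]
  have hbij : Function.Bijective fun m : N' => m • x0 := by
    refine ⟨fun m k h => ?_, fun x => MulAction.exists_smul_eq N' x0 x⟩
    have h' : m • x0 = k • x0 := h
    exact (inv_mul_eq_one.1 (hreg (k⁻¹ * m) (by rw [mul_smul, h', inv_smul_smul]))).symm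
  let H : Subgroup G := MulAction.stabilizer G x0
  letI : CommGroup N' :=
    { (inferInstance : Group N') with mul_comm := fun a b => Subtype.ext (hab a a.2 b b.2) }
  have hconj : ∀ (g : G) (m : N'), g * (m : G) * g⁻¹ ∈ N' := fun g m => hNn.conj_mem m m.2 g
  letI : DistribMulAction H (Additive N') :=
    { smul := fun h v => Additive.ofMul ⟨_, hconj h (Additive.toMul v)⟩
      one_smul := fun v => congrArg Additive.ofMul (Subtype.ext (by
        show (1 : G) * _ * (1 : G)⁻¹ = _
        group; rfl))
      mul_smul := fun g h v => congrArg Additive.ofMul (Subtype.ext (by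
        show ((g : G) * h) * ((Additive.toMul v : N') : G) * ((g : G) * h)⁻¹ =
          (g : G) * ((h : G) * ((Additive.toMul v : N') : G) * (h : G)⁻¹) * (g : G)⁻¹
        group))
      smul_zero := fun h => congrArg Additive.ofMul (Subtype.ext (by
        show (h : G) * 1 * (h : G)⁻¹ = 1
        group))
      smul_add := fun h u v => congrArg Additive.ofMul (Subtype.ext (by
        show (h : G) * (((Additive.toMul u : N') : G) * ((Additive.toMul v : N') : G)) * (h : G)⁻¹ =
          (h : G) * ((Additive.toMul u : N') : G) * (h : G)⁻¹ *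
            ((h : G) * ((Additive.toMul v : N') : G) * (h : G)⁻¹)
        group)) }
  let ρ : H →* (AddMonoid.End (Additive N'))ˣ :=
    MonoidHom.toHomUnits (DistribMulAction.toAddMonoidEnd H (Additive N'))
  have hρ : ∀ (h : H) (v : Additive N'), ρ h • v = h • v := fun h v => rfl
  haveI : Group.IsSolvable H :=
    Group.isSolvable_of_isSolvable_injective (f := H.subtype) H.subtype_injective
  haveI hρs : Group.IsSolvable ρ.range :=
    Group.isSolvable_of_surjective ρ.rangeRestrict_surjective
  have hirr : Irred ρ.range := by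
    intro U hU
    let M : Subgroup G :=
      { carrier := {g | ∃ hg : g ∈ N', Additive.ofMul (⟨g, hg⟩ : N') ∈ U}
        one_mem' := ⟨N'.one_mem, U.zero_mem⟩
        mul_mem' := fun ⟨ha, ha'⟩ ⟨hb, hb'⟩ => ⟨N'.mul_mem ha hb, U.add_mem ha' hb'⟩
        inv_mem' := fun ⟨ha, ha'⟩ => ⟨N'.inv_mem ha, U.neg_mem ha'⟩ }
    have hMn : M.Normal := ⟨fun u ⟨hu, hu'⟩ g => by
      obtain ⟨m, hm⟩ := hbij.2 (g • x0)
      have hm' : (m : G) • x0 = g • x0 := hm
      have hH : (m : G)⁻¹ * g ∈ H := by
        show ((m : G)⁻¹ * g) • x0 = x0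
        rw [mul_smul, ← hm', inv_smul_smul]
      have h1 := hU _ ⟨⟨_, hH⟩, rfl⟩ _ hu'
      rw [hρ] at h1
      refine ⟨hNn.conj_mem u hu g, ?_⟩
      convert h1 using 1
      refine congrArg Additive.ofMul (Subtype.ext ?_)
      show g * u * g⁻¹ = ((m : G)⁻¹ * g) * u * ((m : G)⁻¹ * g)⁻¹
      have hc : (m : G) * (g * u * g⁻¹) = g * u * g⁻¹ * (m : G) :=
        hab m m.2 _ (hNn.conj_mem u hu g)
      have : (m : G)⁻¹ * (g * u * g⁻¹) * (m : G) = g * u * g⁻¹ := by
        rw [mul_assoc, ← hc, inv_mul_cancel_left]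
      conv_lhs => rw [← this]
      group⟩
    rcases hmin M hMn (fun g hg => hg.1) with h | h
    · left
      refine (AddSubgroup.eq_bot_iff_forall _).2 fun v hv => ?_
      have : ((Additive.toMul v : N') : G) ∈ M := ⟨(Additive.toMul v).2, hv⟩
      rw [h, Subgroup.mem_bot] at this
      exact congrArg Additive.ofMul (Subtype.ext this : Additive.toMul v = 1)
    · right
      refine (AddSubgroup.eq_top_iff' _).2 fun v => ?_
      obtain ⟨_, hv⟩ : ((Additive.toMul v : N') : G) ∈ M := h.symm ▸ (Additive.toMul v).2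
      exact hv
  obtain ⟨r, hr, hrL⟩ := @exists_prime_nsmul_eq_zero (Additive N') _ _ (by
    haveI : Nontrivial N' := (Subgroup.nontrivial_iff_ne_bot N').2 hNne
    exact inferInstanceAs (Nontrivial N')) ρ.range hirr
  haveI := Fact.mk hr
  haveI : Nontrivial (Additive N') := by
    haveI : Nontrivial N' := (Subgroup.nontrivial_iff_ne_bot N').2 hNne
    exact inferInstanceAs (Nontrivial N')
  have hr3 : r ≠ 3 := by
    rintro rfl
    obtain ⟨u, hu⟩ := exists_ne (0 : Additive N')
    have h := addOrderOf_dvd_natCard u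
    rw [addOrderOf_eq_prime (hrL u) hu, Nat.card_congr (Additive.ofMul (α := N')).symm] at h
    exact h3 (h.trans (Subgroup.card_subgroup_dvd_card N'))
  -- every element acts affinely
  let φ : Additive N' → Ω := fun u => (Additive.toMul u : N') • x0
  have hφ : Function.Bijective φ := hbij.comp Additive.toMul.bijective
  have haffine : ∀ g : G, ∃ (h : H) (t : Additive N'), (∀ u, g • φ u = φ (h • u + t)) ∧
      (h : G) = ((Additive.toMul t : N') : G)⁻¹ * g := by
    intro g
    obtain ⟨t, ht⟩ := hbij.2 (g • x0)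
    have ht' : (t : G) • x0 = g • x0 := ht
    have hH : (t : G)⁻¹ * g ∈ H := by
      show ((t : G)⁻¹ * g) • x0 = x0
      rw [mul_smul, ← ht', inv_smul_smul]
    refine ⟨⟨_, hH⟩, Additive.ofMul t, fun u => ?_, rfl⟩
    show g • ((Additive.toMul u : N') : G) • x0 =
      (((t : G)⁻¹ * g) * ((Additive.toMul u : N') : G) * ((t : G)⁻¹ * g)⁻¹ * (t : G)) • x0
    rw [← mul_smul, show ((t : G)⁻¹ * g) * ((Additive.toMul u : N') : G) * ((t : G)⁻¹ * g)⁻¹ * (t : G)
      = ((t : G)⁻¹ * g) * ((Additive.toMul u : N') : G) * ((t : G)⁻¹ * g)⁻¹ * (t : G) from rfl]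
    have hc : ((t : G)⁻¹ * g) * ((Additive.toMul u : N') : G) * ((t : G)⁻¹ * g)⁻¹ * (t : G) =
        (t : G) * (((t : G)⁻¹ * g) * ((Additive.toMul u : N') : G) * ((t : G)⁻¹ * g)⁻¹) :=
      hab _ (hNn.conj_mem _ (Additive.toMul u).2 _) _ t.2
    have hfix : ((t : G)⁻¹ * g)⁻¹ • x0 = x0 := by rw [inv_smul_eq_iff]; exact (hH : _ = x0).symm
    have hcalc : (t : G) * (((t : G)⁻¹ * g) * ((Additive.toMul u : N') : G) * ((t : G)⁻¹ * g)⁻¹) =
        (g * ((Additive.toMul u : N') : G)) * ((t : G)⁻¹ * g)⁻¹ := by group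
    rw [hc, hcalc]
    show _ = (g * ((Additive.toMul u : N') : G) * ((t : G)⁻¹ * g)⁻¹) • x0
    rw [mul_smul (g * ((Additive.toMul u : N') : G)), hfix]
  suffices hcol : ∃ cL : Additive N' → Fin 3, ∀ (h : H) (t : Additive N'),
      (∀ u, cL (h • u + t) = cL u) → ∀ u, h • u + t = u by
    obtain ⟨cL, hcL⟩ := hcol
    refine ⟨fun x => cL ((Equiv.ofBijective φ hφ).symm x), fun g hg x => ?_⟩
    obtain ⟨u, rfl⟩ := hφ.2 x
    obtain ⟨h, t, ht, -⟩ := haffine g
    rw [ht, hcL h t (fun u => ?_)]
    have := hg (φ u)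
    simp only [ht, Equiv.ofBijective_symm_apply_apply] at this
    exact this
  by_cases hsm : r = 2 ∧ Nat.card (Additive N') ≤ 8
  · obtain ⟨rfl, hcard⟩ := hsm
    obtain ⟨v, hv0, hv⟩ := exists_regular_small hrL hcard ρ.range hρs
      (fun h => h3 ((h.trans (Subgroup.card_range_dvd ρ)).trans
        (Subgroup.card_subgroup_dvd_card H))) hirr
    refine ⟨fun u => if u = 0 then 0 else if u = v then 1 else 2, fun h t ht u => ?_⟩
    have h0 := ht 0
    simp only [smul_zero, zero_add, if_true] at h0
    have ht0 : t = 0 := by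
      by_contra hne
      rw [if_neg hne] at h0
      split_ifs at h0 <;> simp at h0
    subst ht0
    have h1 := ht v
    simp only [add_zero, if_neg hv0, if_true] at h1 ⊢
    have hv1 : h • v = v := by
      by_contra hne
      rw [if_neg (fun h' => hv0 ((smul_eq_zero_iff_eq h).1 h')), if_neg hne] at h1
      simp at h1
    exact hv (ρ h) ⟨h, rfl⟩ hv1 u
  · obtain ⟨cL, hcL⟩ := affRigid_of_exp hr3 hrL (fun h2 => by
      by_contra hle
      exact hsm ⟨h2, by omega⟩)
    exact ⟨cL, fun h t ht u => hcL (DistribMulAction.toAddEquiv (Additive N') h) t ht u⟩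

theorem colour3_step {n : ℕ} (hC : Colour3OK n) : Colour3OK (n + 1) := by
  intro Ω _ hΩ G hG h3
  rcases subsingleton_or_nontrivial Ω with h | h
  · exact ⟨fun _ => 0, fun g _ x => Subsingleton.elim _ _⟩
  by_cases htr : MulAction.IsPretransitive G Ω
  · by_cases hprim : MulAction.IsPreprimitive G Ω
    · exact colour3_primitive hG h3
    · obtain ⟨B, hB, hnt⟩ : ∃ B : Set Ω, MulAction.IsBlock G B ∧ ¬ MulAction.IsTrivialBlock B := by
        by_contra hne
        push Not at hne
        exact hprim { isTrivialBlock_of_isBlock := fun {B} hB => hne B hB }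
      simp only [MulAction.IsTrivialBlock, not_or] at hnt
      exact colour3_imprimitive hC hΩ hG h3 hB hnt.1 hnt.2
  · obtain ⟨x0, y0, hne⟩ : ∃ x0 y0 : Ω, y0 ∉ MulAction.orbit G x0 := by
      by_contra hne
      push Not at hne
      exact htr ⟨fun x y => hne x y⟩
    exact colour3_intransitive hC hΩ hG h3 hne

theorem colour3OK : ∀ n, Colour3OK n
  | 0 => fun Ω _ hΩ G _ _ => by
      have : IsEmpty Ω := (Finite.card_eq_zero_iff).1 (Nat.le_zero.1 hΩ)
      exact ⟨fun _ => 0, fun g _ x => isEmptyElim x⟩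
  | n + 1 => colour3_step (colour3OK n)

/-- Every solvable group of order prime to three acting on a finite set has a colouring with three
colours that only the trivially acting elements preserve. -/
theorem colour3 {S Ω : Type} [Group S] [Group.IsSolvable S] [MulAction S Ω] [Finite Ω]
    (h3 : ¬ 3 ∣ Nat.card S) : Colour3 S Ω :=
  colour3_of_action (colour3OK _) le_rfl h3

end Cfsg.Agent.DP71.Imprim
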