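import Cfsg.Agent.Lib.DolfiPair71.Defs
import Cfsg.Agent.Lib.DolfiPair71.ImprimColour
import Cfsg.Agent.Lib.OddPair71.Main

/-!
# Coprime solvable groups have two vectors of trivial common stabiliser: the induction

From the primitive case to every completely reducible coprime action of a solvable group on a
finite abelian group.
-/

set_option autoImplicit false
set_option linter.style.haveILetI false
set_option linter.unusedSectionVars false

namespace Cfsg.Agent.DP71.Imprim

open Cfsg.Agent.Lib.BaseThree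

/-- A colouring with `p` colours, for groups of order prime to the odd prime `p`. -/
theorem exists_colour {S Ω : Type} [Group S] [Group.IsSolvable S] [MulAction S Ω] [Finite Ω]
    {p : ℕ} (hp : p.Prime) (hp2 : p ≠ 2) (hpS : ¬ p ∣ Nat.card S) :
    ∃ c : Ω → Fin p, ∀ g : S, (∀ x, c (g • x) = c x) → ∀ x : Ω, g • x = x := by
  by_cases h3 : p = 3
  · subst h3
    exact colour3 hpS
  have h5 : 5 ≤ p := by
    have := hp.two_le
    rcases Nat.lt_or_ge p 5 with h | h
    · interval_cases p
      · exact absurd rfl hp2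
      · exact absurd rfl h3
      · exact absurd hp (by decide)
    · exact h
  obtain ⟨c, hc⟩ := colourable_of_action (S := S) (Ω := Ω) (colourOK_and_tripleOK _).1 le_rfl
  exact ⟨fun x => Fin.castLE h5 (c x), fun g hg => hc g fun x => Fin.castLE_injective h5 (hg x)⟩

/-- From one regular pair, `p` inequivalent ones. -/
theorem exists_pairs {H W : Type} [Group H] [Finite H] [AddCommGroup W] [Nontrivial W]
    [DistribMulAction H W] {p : ℕ} [hp : Fact p.Prime] (hexp : ∀ w : W, p • w = 0)
    (hpH : ¬ p ∣ Nat.card H) (h : OP71.Reg H W) :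
    ∃ P : Fin p → W × W, ∀ i j, ∀ a : H, a • (P i).1 = (P j).1 → a • (P i).2 = (P j).2 →
      i = j ∧ ∀ x : W, a • x = x := by
  obtain ⟨x, y, hx0, hxy⟩ : ∃ x y : W, x ≠ 0 ∧
      ∀ a : H, a • x = x → a • y = y → ∀ z : W, a • z = z := by
    obtain ⟨v, w, hvw⟩ := h
    by_cases hv : v = 0
    · by_cases hw : w = 0
      · obtain ⟨x, hx⟩ := exists_ne (0 : W)
        exact ⟨x, 0, hx, fun a _ _ => hvw a (by rw [hv, smul_zero]) (by rw [hw, smul_zero])⟩
      · exact ⟨w, v, hw, fun a h1 h2 => hvw a h2 h1⟩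
    · exact ⟨v, w, hv, hvw⟩
  refine ⟨fun i => (x, y + (i : ℕ) • x), fun i j a (h1 : a • x = x)
    (h2 : a • (y + (i : ℕ) • x) = y + (j : ℕ) • x) => ?_⟩
  rw [smul_add, smul_comm a (i : ℕ) x, h1] at h2
  obtain ⟨d, hdef⟩ : ∃ d : W, d = (j : ℕ) • x - (i : ℕ) • x := ⟨_, rfl⟩
  have hd : a • d = d := by
    rw [hdef, smul_sub, smul_comm a (j : ℕ) x, smul_comm a (i : ℕ) x, h1]
  have hy : a • y = y + d := by
    rw [hdef, ← add_sub_assoc, ← h2, add_sub_cancel_right]
  have hpow : ∀ n : ℕ, a ^ n • y = y + n • d := by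
    intro n
    induction n with
    | zero => simp
    | succ n ih => rw [pow_succ', mul_smul, ih, smul_add, smul_comm a n d, hd, hy, succ_nsmul']; abel
  have hx : ∀ n : ℕ, a ^ n • x = x := by
    intro n
    induction n with
    | zero => simp
    | succ n ih => rw [pow_succ', mul_smul, ih, h1]
  have hfix : ∀ z : W, a • z = z := fun z =>
    fix_of_pow_fix hp.out hpH (hxy (a ^ p) (hx p) (by rw [hpow, hexp, add_zero]) z)
  refine ⟨Fin.ext (nsmul_injOn_Iio_addOrderOf (x := x) ?_ ?_ ?_), hfix⟩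
  · rw [Set.mem_Iio, addOrderOf_eq_prime (hexp x) hx0]; exact i.isLt
  · rw [Set.mem_Iio, addOrderOf_eq_prime (hexp x) hx0]; exact j.isLt
  · show (i : ℕ) • x = (j : ℕ) • x
    rw [hfix y] at h2
    exact add_left_cancel h2

/-- The imprimitive case: colour the blocks with `p` colours. -/
theorem pair_of_decomp {V : Type} [AddCommGroup V] [Finite V] [Nontrivial V]
    {G : Subgroup (AddMonoid.End V)ˣ} (hG : Group.IsSolvable G) (hirr : Irred G)
    {E : Finset (AddMonoid.End V)} (hE : IsDecomp G E) {p : ℕ} [hp : Fact p.Prime] (hp2 : p ≠ 2)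
    (hpV : ∀ v : V, p • v = 0) (hpG : ¬ p ∣ Nat.card G)
    (ih : ∀ (H W : Type) [Group H] [Finite H] [AddCommGroup W] [Finite W] [DistribMulAction H W],
      Group.IsSolvable H → (Nat.card H).Coprime (Nat.card W) → OP71.CR H W →
      Nat.card W < Nat.card V → OP71.Reg H W) : HasPair G := by
  classical
  haveI := hG
  suffices hkey : ∃ v w : V, ∀ h : G, h • v = v → h • w = w → ∀ x : V, h • x = x by
    obtain ⟨v, w, hvw⟩ := hkey
    exact ⟨v, w, fun g hg h1 h2 =>
      Units.ext (DFunLike.ext _ _ fun x => hvw ⟨g, hg⟩ h1 h2 x)⟩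
  letI : MulAction G {e // e ∈ E} :=
    { smul := fun g e => ⟨conjEnd (g : (AddMonoid.End V)ˣ) e.1, hE.conj_mem g g.2 e.1 e.2⟩
      one_smul := fun e => Subtype.ext (by
        show conjEnd (1 : (AddMonoid.End V)ˣ) e.1 = e.1
        simp [conjEnd])
      mul_smul := fun g h e => Subtype.ext (by
        show conjEnd ((g : (AddMonoid.End V)ˣ) * (h : (AddMonoid.End V)ˣ)) e.1 = conjEnd g.1 (conjEnd h.1 e.1)
        simp [conjEnd, mul_assoc]) }
  have hsm : ∀ (g : G) (e : {e // e ∈ E}) (v : V), (g • e).1 (g • v) = g • e.1 v := fun g e v =>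
    conjEnd_apply_smul g.1 e.1 v
  have hsum : ∀ v : V, ∑ e : {e // e ∈ E}, e.1 v = v := fun v => by
    rw [← end_sum_apply, Finset.sum_coe_sort E (fun e => e), hE.sum_eq]
    rfl
  have horth : ∀ e f : {e // e ∈ E}, e ≠ f → ∀ v : V, e.1 (f.1 v) = 0 := fun e f h v =>
    DFunLike.congr_fun (hE.orth _ e.2 _ f.2 fun h' => h (Subtype.ext h')) v
  have hidem : ∀ (e : {e // e ∈ E}) (v : V), e.1 (e.1 v) = e.1 v := fun e v =>
    DFunLike.congr_fun (hE.idem _ e.2) v
  -- transitivity
  obtain ⟨e0, he0⟩ : E.Nonempty := Finset.card_pos.1 (by have := hE.two_le; omega)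
  have htrans : ∀ e : {e // e ∈ E}, ∃ g : G, g • (⟨e0, he0⟩ : {e // e ∈ E}) = e := by
    intro e
    by_contra hne
    let O := MulAction.orbit G (⟨e0, he0⟩ : {e // e ∈ E})
    let U : AddSubgroup V :=
      { carrier := {v | ∀ f, f ∉ O → f.1 v = 0}
        zero_mem' := fun f _ => map_zero _
        add_mem' := fun {a b} ha hb f hf => by rw [map_add, ha f hf, hb f hf, add_zero]
        neg_mem' := fun {a} ha f hf => by rw [map_neg, ha f hf, neg_zero] }
    rcases hirr U (fun g hg u hu f hf => by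
      have h := hsm ⟨g, hg⟩ ((⟨g, hg⟩ : G)⁻¹ • f) u
      rw [smul_inv_smul, hu _ (fun hmem => hf (by
        have := MulAction.mem_orbit_of_mem_orbit (⟨g, hg⟩ : G) hmem
        rwa [smul_inv_smul] at this)), smul_zero] at h
      exact h) with h | h
    · refine hE.ne_zero e0 he0 (DFunLike.ext _ _ fun v => ?_)
      have : e0 v ∈ U := fun f hf => horth f ⟨e0, he0⟩
        (fun h' => hf (h' ▸ MulAction.mem_orbit_self _)) v
      rwa [h, AddSubgroup.mem_bot] at this
    · refine hE.ne_zero e.1 e.2 (DFunLike.ext _ _ fun v => ?_)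
      exact (h ▸ AddSubgroup.mem_top v : v ∈ U) e (fun hmem => hne hmem)
  -- the first block
  generalize hb0 : (⟨e0, he0⟩ : {e // e ∈ E}) = b0 at htrans
  let W : AddSubgroup V := AddMonoidHom.range b0.1
  let H : Subgroup G := MulAction.stabilizer G b0
  have hHW : ∀ h : H, ∀ w ∈ W, ((h : G) • w) ∈ W := by
    rintro h w ⟨v, rfl⟩
    refine ⟨(h : G) • v, ?_⟩
    have h' : (h : G) • b0 = b0 := h.2
    have := hsm h b0 v
    rwa [h'] at this
  letI : DistribMulAction H W :=
    { smul := fun h w => ⟨(h : G) • (w : V), hHW h w w.2⟩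
      one_smul := fun w => Subtype.ext (one_smul G (w : V))
      mul_smul := fun g h w => Subtype.ext (mul_smul (g : G) (h : G) (w : V))
      smul_zero := fun h => Subtype.ext (smul_zero (h : G))
      smul_add := fun h a b => Subtype.ext (smul_add (h : G) (a : V) (b : V)) }
  let ρ : H →* (AddMonoid.End W)ˣ := MonoidHom.toHomUnits (DistribMulAction.toAddMonoidEnd H W)
  have hρ : ∀ (h : H) (w : W), ρ h • w = h • w := fun h w => rfl
  haveI : Group.IsSolvable H :=
    Group.isSolvable_of_isSolvable_injective (f := H.subtype) H.subtype_injective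
  haveI hρs : Group.IsSolvable ρ.range :=
    Group.isSolvable_of_surjective ρ.rangeRestrict_surjective
  have hnt : ∃ e : {e // e ∈ E}, e ≠ b0 := by
    haveI : Nontrivial {e // e ∈ E} := Fintype.one_lt_card_iff_nontrivial.1 (by
      rw [Fintype.card_coe]; exact hE.two_le)
    exact exists_ne b0
  have hWlt : Nat.card W < Nat.card V := by
    obtain ⟨e, he⟩ := hnt
    cases nonempty_fintype V
    rw [Nat.card_eq_fintype_card, Nat.card_eq_fintype_card]
    refine Fintype.card_lt_of_injective_not_surjective (fun w : W => (w : V)) Subtype.val_injective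
      fun hs => ?_
    refine hE.ne_zero e.1 e.2 (DFunLike.ext _ _ fun v => ?_)
    obtain ⟨⟨_, u, rfl⟩, hu⟩ := hs (e.1 v)
    have hu' : b0.1 u = e.1 v := hu
    have h1 := congrArg (fun x => e.1 x) hu'
    simp only [horth e b0 he u, hidem] at h1
    exact h1.symm
  have hWirr : Irred ρ.range := by
    intro U hU
    let U' : AddSubgroup V :=
      { carrier := {v | ∀ g : G, (⟨b0.1 (g • v), g • v, rfl⟩ : W) ∈ U}
        zero_mem' := fun g => by
          convert U.zero_mem using 1
          exact Subtype.ext (by show b0.1 (g • (0 : V)) = 0; rw [smul_zero, map_zero])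
        add_mem' := fun {a b} ha hb g => by
          convert U.add_mem (ha g) (hb g) using 1
          exact Subtype.ext (by
            show b0.1 (g • (a + b)) = b0.1 (g • a) + b0.1 (g • b); rw [smul_add, map_add])
        neg_mem' := fun {a} ha g => by
          convert U.neg_mem (ha g) using 1
          exact Subtype.ext (by show b0.1 (g • (-a)) = -b0.1 (g • a); rw [smul_neg, map_neg]) }
    rcases hirr U' (fun g hg u hu g' => by
      have := hu (g' * ⟨g, hg⟩)
      simpa [mul_smul] using this) with h | h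
    · left
      refine (AddSubgroup.eq_bot_iff_forall _).2 fun w hw => ?_
      have : (w : V) ∈ U' := by
        intro g
        obtain ⟨x, hx⟩ := w.2
        have hx' : b0.1 x = (w : V) := hx
        by_cases hg : g⁻¹ • b0 = b0
        · have hgH : g ∈ H := by
            show g • b0 = b0
            conv_lhs => rw [← hg]
            rw [smul_inv_smul]
          have h2 := hU _ ⟨⟨g, hgH⟩, rfl⟩ w hw
          rw [hρ] at h2
          convert h2 using 1
          refine Subtype.ext ?_
          show b0.1 (g • (w : V)) = g • (w : V)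
          have h3 := hsm g b0 (w : V)
          rw [show g • b0 = b0 from hgH, ← hx', hidem] at h3
          rw [← hx', h3]
        · convert U.zero_mem using 1
          refine Subtype.ext ?_
          show b0.1 (g • (w : V)) = 0
          have h3 := hsm g (g⁻¹ • b0) (w : V)
          rw [smul_inv_smul, ← hx', horth _ _ hg, smul_zero] at h3
          rw [← hx', h3]
      rw [h, AddSubgroup.mem_bot] at this
      exact Subtype.ext this
    · right
      refine (AddSubgroup.eq_top_iff' _).2 fun w => ?_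
      obtain ⟨x, hx⟩ := w.2
      have := (h ▸ AddSubgroup.mem_top x : x ∈ U') 1
      convert this using 1
      exact Subtype.ext (by show (w : V) = b0.1 ((1 : G) • x); rw [one_smul]; exact hx.symm)
  haveI : Nontrivial W := by
    obtain ⟨v, hv⟩ : ∃ v, b0.1 v ≠ 0 := by
      by_contra hne
      push Not at hne
      exact hE.ne_zero _ b0.2 (DFunLike.ext _ _ hne)
    exact ⟨⟨⟨b0.1 v, v, rfl⟩, 0, fun h => hv (congrArg Subtype.val h)⟩⟩
  have hpH : ¬ p ∣ Nat.card H := fun h => hpG (h.trans (Subgroup.card_subgroup_dvd_card H))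
  have hWcr : OP71.CR H W := OP71.cr_of_irr fun X hX => hWirr X (by
    rintro _ ⟨h, rfl⟩ u hu
    exact hX h u hu)
  have hWcop : (Nat.card H).Coprime (Nat.card W) := by
    obtain ⟨d, hd⟩ := OP71.card_natPrime_pow_eq (V := W) hp.out fun w => Subtype.ext (hpV w)
    rw [hd]
    exact ((hp.out.coprime_iff_not_dvd.2 hpH).symm).pow_right d
  obtain ⟨P, hP⟩ := exists_pairs (p := p) (fun w : W => Subtype.ext (hpV w)) hpH
    (ih H W inferInstance hWcop hWcr hWlt)
  -- colour the blocks
  obtain ⟨col, hcol⟩ := exists_colour (S := G) (Ω := {e // e ∈ E}) hp.out hp2 hpG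
  choose g hg using htrans
  refine ⟨∑ e, g e • (((P (col e)).1 : W) : V), ∑ e, g e • (((P (col e)).2 : W) : V),
    fun h hfix1 hfix2 x => ?_⟩
  have hcomp : ∀ e : {e // e ∈ E}, ∀ w : W, e.1 (g e • (w : V)) = g e • (w : V) := by
    intro e w
    obtain ⟨u, hu⟩ := w.2
    have hu' : b0.1 u = (w : V) := hu
    have h1 := hsm (g e) b0 (b0.1 u)
    rw [hg e, hidem, hu'] at h1
    exact h1
  have hproj : ∀ (y : {e // e ∈ E} → V), (∀ e, e.1 (y e) = y e) → ∀ e, e.1 (∑ f, y f) = y e := by
    intro y hy e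
    rw [map_sum, Finset.sum_eq_single e]
    · exact hy e
    · intro f _ hf
      rw [← hy f]
      exact horth e f (Ne.symm hf) _
    · intro h; exact absurd (Finset.mem_univ _) h
  -- `h` maps the block of `e` to the block of `h • e`
  have hk : ∀ e, (g (h • e))⁻¹ * h * g e ∈ H := fun e => by
    show ((g (h • e))⁻¹ * h * g e) • b0 = b0
    rw [mul_smul, mul_smul, hg e, inv_smul_eq_iff, hg]
  have hmap : ∀ (f : W × W → W),
      h • (∑ e, g e • ((f (P (col e)) : W) : V)) = ∑ e, g e • ((f (P (col e)) : W) : V) →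
      ∀ e, (⟨_, hk e⟩ : H) • f (P (col e)) = f (P (col (h • e))) := by
    intro f h1 e
    have h2 : (h • e).1 (h • ∑ e, g e • ((f (P (col e)) : W) : V)) =
        (h • e).1 (∑ e, g e • ((f (P (col e)) : W) : V)) := by rw [h1]
    rw [hsm, hproj _ (fun f' => hcomp f' _), hproj _ (fun f' => hcomp f' _)] at h2
    refine Subtype.ext ?_
    show ((g (h • e))⁻¹ * h * g e) • ((f (P (col e)) : W) : V) = _
    rw [mul_smul, mul_smul, inv_smul_eq_iff]
    exact h2
  have hpair : ∀ e, col e = col (h • e) ∧ ∀ w : W, (⟨_, hk e⟩ : H) • w = w := fun e =>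
    hP _ _ _ (hmap Prod.fst hfix1 e) (hmap Prod.snd hfix2 e)
  have hfixE : ∀ e : {e // e ∈ E}, h • e = e := hcol h fun e => (hpair e).1.symm
  have hblock : ∀ (e : {e // e ∈ E}) (w : W), h • g e • (w : V) = g e • (w : V) := by
    intro e w
    have h2 : ((g (h • e))⁻¹ * h * g e) • (w : V) = w := congrArg Subtype.val ((hpair e).2 w)
    rw [mul_smul, mul_smul, inv_smul_eq_iff, hfixE] at h2
    exact h2
  conv_lhs => rw [← hsum x]
  rw [Finset.smul_sum]
  conv_rhs => rw [← hsum x]
  refine Finset.sum_congr rfl fun e _ => ?_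
  have hw : ∃ w : W, e.1 x = g e • (w : V) := by
    refine ⟨⟨(g e)⁻¹ • e.1 x, (g e)⁻¹ • x, ?_⟩, ?_⟩
    · have h1 := hsm (g e)⁻¹ e x
      rwa [show (g e)⁻¹ • e = b0 by rw [inv_smul_eq_iff, hg]] at h1
    · rw [smul_inv_smul]
  obtain ⟨w, hw⟩ := hw
  rw [hw, hblock]


/-- Every completely reducible coprime action of a solvable group has a regular pair. -/
theorem main (hP : PrimitiveOK) : ∀ (n : ℕ) (G V : Type) [Group G] [Finite G] [AddCommGroup V]
    [Finite V] [DistribMulAction G V], Group.IsSolvable G → (Nat.card G).Coprime (Nat.card V) →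
    OP71.CR G V → Nat.card V ≤ n → OP71.Reg G V := by
  intro n
  induction n using Nat.strong_induction_on with
  | _ n ih =>
    intro G V _ _ _ _ _ hG hcop hcr hle
    classical
    rcases lt_or_eq_of_le hle with hlt | heq
    · exact ih _ hlt G V hG hcop hcr le_rfl
    rcases subsingleton_or_nontrivial V with hsub | hnt
    · exact ⟨0, 0, fun g _ _ x => hsub.elim _ _⟩
    haveI := hG
    by_cases hirr : ∀ U : AddSubgroup V, (∀ g : G, ∀ v ∈ U, g • v ∈ U) → U = ⊥ ∨ U = ⊤
    swap
    · push Not at hirr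
      obtain ⟨U, hU, hUbot, hUtop⟩ := hirr
      obtain ⟨W, hW, hdis, hsup⟩ := hcr U hU
      have hlt : ∀ X : AddSubgroup V, X ≠ ⊤ → Nat.card X < n := fun X hX => heq ▸
        lt_of_le_of_ne (Nat.le_of_dvd Nat.card_pos (AddSubgroup.card_addSubgroup_dvd_card X))
          fun h => hX (AddSubgroup.eq_top_of_card_eq X h)
      have hcop' : ∀ X : AddSubgroup V, (Nat.card G).Coprime (Nat.card X) := fun X =>
        hcop.coprime_dvd_right (AddSubgroup.card_addSubgroup_dvd_card X)
      have hWtop : W ≠ ⊤ := fun h => hUbot (by rw [← hdis, h, inf_top_eq])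
      obtain ⟨u₁, u₂, hu⟩ := @ih _ (hlt U hUtop) G U _ _ _ _ (OP71.subAct U hU) hG (hcop' U)
        (OP71.cr_sub hcr U hU) le_rfl
      obtain ⟨w₁, w₂, hw⟩ := @ih _ (hlt W hWtop) G W _ _ _ _ (OP71.subAct W hW) hG (hcop' W)
        (OP71.cr_sub hcr W hW) le_rfl
      refine ⟨u₁.1 + w₁.1, u₂.1 + w₂.1, fun g h1 h2 x => ?_⟩
      have key : ∀ (u : U) (w : W), g • (u.1 + w.1) = u.1 + w.1 →
          g • u.1 = u.1 ∧ g • w.1 = w.1 := by
        intro u w h
        rw [smul_add] at h
        have h3 : g • u.1 - u.1 = w.1 - g • w.1 := by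
          rw [sub_eq_sub_iff_add_eq_add, h, add_comm]
        have h4 : g • u.1 - u.1 ∈ U ⊓ W :=
          ⟨U.sub_mem (hU g _ u.2) u.2, h3 ▸ W.sub_mem w.2 (hW g _ w.2)⟩
        rw [hdis, AddSubgroup.mem_bot] at h4
        rw [h4] at h3
        exact ⟨sub_eq_zero.1 h4, (sub_eq_zero.1 h3.symm).symm⟩
      have hx : x ∈ U ⊔ W := hsup ▸ AddSubgroup.mem_top x
      obtain ⟨a, ha, b, hb, rfl⟩ := AddSubgroup.mem_sup.1 hx
      have e1 : g • a = a := congrArg Subtype.val
        (hu g (Subtype.ext (key u₁ w₁ h1).1) (Subtype.ext (key u₂ w₂ h2).1) ⟨a, ha⟩)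
      have e2 : g • b = b := congrArg Subtype.val
        (hw g (Subtype.ext (key u₁ w₁ h1).2) (Subtype.ext (key u₂ w₂ h2).2) ⟨b, hb⟩)
      rw [smul_add, e1, e2]
    -- irreducible: a linear group in prime exponent
    let ρ : G →* (AddMonoid.End V)ˣ :=
      MonoidHom.toHomUnits (DistribMulAction.toAddMonoidEnd G V)
    have hρ : ∀ (g : G) (v : V), ρ g • v = g • v := fun g v => rfl
    have hirr' : Irred ρ.range := fun U hU => hirr U fun g v hv => hU (ρ g) ⟨g, rfl⟩ v hv
    obtain ⟨p, hp, hpV⟩ := exists_prime_nsmul_eq_zero hirr'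
    haveI := Fact.mk hp
    have hpG : ¬ p ∣ Nat.card G := by
      obtain ⟨u, hu⟩ := exists_ne (0 : V)
      have hdvd := addOrderOf_dvd_natCard u
      rw [addOrderOf_eq_prime (hpV u) hu] at hdvd
      exact fun h => hp.one_lt.ne' (Nat.eq_one_of_dvd_coprimes hcop h hdvd)
    by_cases hp2 : p = 2
    · subst hp2
      exact OP71.main n G V (Nat.odd_iff.2 (by omega)) hcr hle
    have hρs : Group.IsSolvable ρ.range :=
      Group.isSolvable_of_surjective ρ.rangeRestrict_surjective
    have hpρ : ¬ p ∣ Nat.card ρ.range := fun h => hpG (h.trans (Subgroup.card_range_dvd ρ))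
    suffices hpair : HasPair ρ.range by
      obtain ⟨x, y, hxy⟩ := hpair
      refine ⟨x, y, fun g h1 h2 z => ?_⟩
      rw [← hρ, hxy (ρ g) ⟨g, rfl⟩ h1 h2, one_smul]
    by_cases hprim : Primitive ρ.range
    · exact hP V p hp2 hpV ρ.range hρs hpρ hirr' hprim
    · simp only [Primitive, not_forall, not_not] at hprim
      obtain ⟨E, hE⟩ := hprim
      exact pair_of_decomp hρs hirr' hE hp2 hpV hpρ fun H W _ _ _ _ _ hH hc hcrW hlt =>
        ih _ (heq ▸ hlt) H W hH hc hcrW le_rfl

end Cfsg.Agent.DP71.Imprim
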