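import Cfsg.Agent.Lib.DolfiPair71.Imprim
import Cfsg.Agent.Lib.DolfiReduce20.Main

/-!
# Two points of trivial common stabiliser in coprime solvable actions, from the primitive case
-/

set_option autoImplicit false
set_option linter.style.haveILetI false
set_option linter.unusedSectionVars false

namespace Cfsg.Agent.DP71.Imprim

open Cfsg.Agent.Lib

universe u v w

/-- A semisimple coprime module of a solvable group has a regular pair, in any universes. -/
theorem pair_module (hP : PrimitiveOK) {A : Type v} {V : Type u} [Group A] [Finite A]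
    [AddCommGroup V] [Finite V] [DistribMulAction A V] [FaithfulSMul A V]
    (hA : Group.IsSolvable A) (hcr : DolfiReduce20.Semi A V)
    (hcop : (Nat.card A).Coprime (Nat.card V)) :
    ∃ v w : V, ∀ a : A, a • v = v → a • w = w → a = 1 := by
  haveI := hA
  let eA : Shrink.{0} A ≃* A := Shrink.mulEquiv
  let eV : Shrink.{0} V ≃+ V := Shrink.addEquiv
  haveI : Finite (Shrink.{0} A) := Finite.of_equiv A eA.toEquiv.symm
  haveI : Finite (Shrink.{0} V) := Finite.of_equiv V eV.toEquiv.symm
  letI : DistribMulAction (Shrink.{0} A) (Shrink.{0} V) :=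
    { smul := fun a v => eV.symm (eA a • eV v)
      one_smul := fun v => show eV.symm (eA 1 • eV v) = v by simp
      mul_smul := fun a b v => show eV.symm (eA (a * b) • eV v) =
          eV.symm (eA a • eV (eV.symm (eA b • eV v))) by simp [mul_smul]
      smul_zero := fun a => show eV.symm (eA a • eV 0) = 0 by simp
      smul_add := fun a v w => show eV.symm (eA a • eV (v + w)) =
          eV.symm (eA a • eV v) + eV.symm (eA a • eV w) by simp }
  have hsm : ∀ (a : Shrink.{0} A) (v : Shrink.{0} V), eV (a • v) = eA a • eV v := fun a v =>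
    eV.apply_symm_apply _
  have hsol : Group.IsSolvable (Shrink.{0} A) :=
    Group.isSolvable_of_isSolvable_injective (f := eA.toMonoidHom) eA.injective
  have hcop' : (Nat.card (Shrink.{0} A)).Coprime (Nat.card (Shrink.{0} V)) := by
    rwa [Nat.card_congr eA.toEquiv, Nat.card_congr eV.toEquiv]
  have hcr' : OP71.CR (Shrink.{0} A) (Shrink.{0} V) := by
    intro U hU
    obtain ⟨W, hW, hdis, hsup⟩ := hcr (U.comap eV.symm.toAddMonoidHom) (fun a v hv => by
      have := hU (eA.symm a) (eV.symm v) hv
      show eV.symm (a • v) ∈ U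
      have h2 : eV.symm (a • v) = eA.symm a • eV.symm v := by
        apply eV.injective
        rw [hsm]; simp
      rw [h2]; exact this)
    refine ⟨W.comap eV.toAddMonoidHom, fun a w hw => ?_, ?_, ?_⟩
    · show eV (a • w) ∈ W
      rw [hsm]; exact hW _ _ hw
    · rw [eq_bot_iff]
      rintro x ⟨hxU, hxW⟩
      have : eV x ∈ U.comap eV.symm.toAddMonoidHom ⊓ W :=
        ⟨show eV.symm (eV x) ∈ U by rwa [eV.symm_apply_apply], hxW⟩
      rw [hdis, AddSubgroup.mem_bot] at this
      rw [AddSubgroup.mem_bot]
      exact eV.injective (by rw [this, map_zero])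
    · rw [eq_top_iff]
      intro x _
      have hx : eV x ∈ U.comap eV.symm.toAddMonoidHom ⊔ W := hsup ▸ AddSubgroup.mem_top _
      obtain ⟨u, hu, w, hw, huw⟩ := AddSubgroup.mem_sup.1 hx
      refine AddSubgroup.mem_sup.2 ⟨eV.symm u, hu, eV.symm w, ?_, ?_⟩
      · show eV (eV.symm w) ∈ W
        rwa [eV.apply_symm_apply]
      · rw [← map_add, huw, eV.symm_apply_apply]
  obtain ⟨v, w, hvw⟩ := main hP _ (Shrink.{0} A) (Shrink.{0} V) hsol hcop' hcr' le_rfl
  refine ⟨eV v, eV w, fun a h1 h2 => ?_⟩
  refine FaithfulSMul.eq_of_smul_eq_smul fun x : V => ?_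
  have h := hvw (eA.symm a) (eV.injective (by rw [hsm]; simpa using h1))
    (eV.injective (by rw [hsm]; simpa using h2)) (eV.symm x)
  have h3 := congrArg eV h
  rw [hsm, eA.apply_symm_apply, eV.apply_symm_apply] at h3
  rw [h3, one_smul]

/-- Coprime action of a solvable group on a finite group: two points of trivial common
stabiliser. -/
theorem dolfi_group (hP : PrimitiveOK) {A : Type v} {K : Type u} [Group A] [Finite A] [Group K]
    [Finite K] [MulDistribMulAction A K] [FaithfulSMul A K] (hA : Group.IsSolvable A)
    (hcop : (Nat.card A).Coprime (Nat.card K)) :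
    ∃ x y : K, ∀ a : A, a • x = x → a • y = y → a = 1 :=
  DolfiReduce20.exists_pair hA K hcop fun _ _ _ _ _ hsemi hVc _ => pair_module hP hA hsemi hVc

/-- A coprime solvable linear group has two vectors of trivial common stabiliser. -/
theorem dolfi_linear (hP : PrimitiveOK) {F : Type u} [Field F] [Fintype F] {V : Type v}
    [AddCommGroup V] [Module F V] [Finite V] {G : Type w} [Group G] [Finite G]
    [Group.IsSolvable G] (ρ : Representation F G V) (hfaith : Function.Injective ρ)
    (hcop : (Nat.card G).Coprime (Nat.card V)) :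
    ∃ x y : V, ∀ g : G, ρ g x = x → ρ g y = y → g = 1 := by
  letI : DistribMulAction G V :=
    { smul := fun g x => ρ g x
      one_smul := fun x => show ρ 1 x = x by simp
      mul_smul := fun g h x => show ρ (g * h) x = ρ g (ρ h x) by simp
      smul_zero := fun g => show ρ g 0 = 0 from map_zero _
      smul_add := fun g x y => show ρ g (x + y) = ρ g x + ρ g y from map_add _ x y }
  haveI : FaithfulSMul G V := ⟨fun {a b} h => hfaith (LinearMap.ext h)⟩
  have hp : (ringChar F).Prime := CharP.char_is_prime F (ringChar F)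
  have hexp : ∀ x : V, ringChar F • x = 0 := fun x => by
    rw [← Nat.cast_smul_eq_nsmul F, CharP.cast_eq_zero, zero_smul]
  let φ : G →* MulAut (Multiplicative V) :=
    MonoidHom.mk' (fun g => AddEquiv.toMultiplicative (DistribMulAction.toAddEquiv V g))
      fun g h => MulEquiv.ext fun x => congrArg Multiplicative.ofAdd (mul_smul g h x.toAdd)
  refine pair_module hP inferInstance (fun U hU => ?_) hcop
  obtain ⟨W, hW, hd, hs⟩ := Coprime.exists_invariant_complement φ hp (fun x y => mul_comm x y)
    (fun x => congrArg Multiplicative.ofAdd (hexp x.toAdd))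
    (by rwa [Nat.card_congr Multiplicative.toAdd]) (AddSubgroup.toSubgroup U)
    fun g x hx => hU g x.toAdd hx
  refine ⟨AddSubgroup.toSubgroup.symm W, fun g x hx => hW g (Multiplicative.ofAdd x) hx, ?_, ?_⟩
  · apply AddSubgroup.toSubgroup.injective
    rw [map_inf, map_bot, OrderIso.apply_symm_apply]
    exact hd
  · apply AddSubgroup.toSubgroup.injective
    rw [map_sup, map_top, OrderIso.apply_symm_apply]
    exact hs

end Cfsg.Agent.DP71.Imprim
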