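import Cfsg.Agent.Lib.DolfiPair71.Defs
import Cfsg.Agent.Lib.DolfiPair71.BaseQuat
import Cfsg.Agent.Lib.DolfiPair71.Five
import Cfsg.Agent.Lib.BaseThree.Primitive

/-!
# Pairs for primitive coprime solvable linear groups
-/

set_option autoImplicit false
set_option linter.unusedSectionVars false
set_option linter.style.haveILetI false

namespace Cfsg.Agent.DP71

open scoped commutatorElement

open Cfsg.Agent.Lib.BaseThree

variable {V : Type} [AddCommGroup V] [Finite V] [Nontrivial V]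

theorem end_natCast_eq_zero {n : ℕ} (hexp : ∀ v : V, n • v = 0) : (n : AddMonoid.End V) = 0 :=
  DFunLike.ext _ _ fun v => (AddMonoid.End.natCast_apply n v).trans (hexp v)

/-- a maximal coprime solvable overgroup with its field -/
theorem exists_setup_coprime {p : ℕ} [hp : Fact p.Prime] (hexp : ∀ v : V, p • v = 0)
    (G0 : Subgroup (AddMonoid.End V)ˣ) (hG : Group.IsSolvable G0) (hco : ¬ p ∣ Nat.card G0)
    (hirr : Irred G0) (hprim : Primitive G0) :
    ∃ G Z : Subgroup (AddMonoid.End V)ˣ, ∃ K : Subring (AddMonoid.End V),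
      G0 ≤ G ∧ Group.IsSolvable G ∧ ¬ p ∣ Nat.card G ∧ FieldSetup G Z K := by
  classical
  haveI : Nontrivial (AddMonoid.End V) := ⟨⟨0, 1, fun h => by
    obtain ⟨v, hv⟩ := exists_ne (0 : V)
    exact hv (DFunLike.congr_fun h.symm v)⟩⟩
  have hp0 : ((p : ℕ) : AddMonoid.End V) = 0 := end_natCast_eq_zero hexp
  haveI : CharP (AddMonoid.End V) p := (CharP.charP_iff_prime_eq_zero hp.out).2 hp0
  obtain ⟨G, hle, hGmax⟩ :=
    Finite.exists_le_maximal (p := fun G : Subgroup (AddMonoid.End V)ˣ =>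
      Group.IsSolvable G ∧ ¬ p ∣ Nat.card G) (a := G0) ⟨hG, hco⟩
  obtain ⟨hGs, hGc⟩ := hGmax.prop
  obtain ⟨Z, -, hZmax⟩ := Finite.exists_le_maximal (p := fun Z : Subgroup (AddMonoid.End V)ˣ =>
      Z ≤ G ∧ (∀ g ∈ G, ∀ z ∈ Z, g * z * g⁻¹ ∈ Z) ∧ ∀ a ∈ Z, ∀ b ∈ Z, a * b = b * a)
    (a := ⊥) ⟨bot_le, fun g _ z hz => by rw [Subgroup.mem_bot.1 hz]; simp,
      fun a ha b hb => by rw [Subgroup.mem_bot.1 ha, Subgroup.mem_bot.1 hb]⟩
  obtain ⟨hZG, hZn, hZc⟩ := hZmax.prop
  have hfield := fun r hr h0 => isUnit_of_mem_spanRing (G := G) (N := Z) (hirr.mono hle)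
    (fun E hE => hprim E (hE.mono hle)) hZc hZn (r := r) hr h0
  let U : Subgroup (AddMonoid.End V)ˣ :=
    { carrier := {u | (u : AddMonoid.End V) ∈ spanRing Z}
      one_mem' := (spanRing Z).one_mem
      mul_mem' := fun ha hb => (spanRing Z).mul_mem ha hb
      inv_mem' := fun {u} hu => by
        obtain ⟨s, hs, h1, -⟩ := hfield _ hu u.ne_zero
        show (u⁻¹ : (AddMonoid.End V)ˣ).val ∈ spanRing Z
        rwa [Units.inv_eq_of_mul_eq_one_right h1] }
  have hUc : ∀ a ∈ U, ∀ b ∈ U, a * b = b * a := fun a ha b hb =>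
    Units.ext (spanRing_commute hZc ha hb)
  have hUn : ∀ g ∈ G, ∀ u ∈ U, g * u * g⁻¹ ∈ U := fun g hg u hu =>
    conjEnd_mem_spanRing (hZn g hg) hu
  have hUs : Group.IsSolvable U :=
    Group.isSolvable_of_comm fun a b => Subtype.ext (hUc a a.2 b b.2)
  have hnorm : G ≤ Subgroup.normalizer (U : Set (AddMonoid.End V)ˣ) := by
    intro g hg
    rw [Subgroup.mem_normalizer_iff]
    refine fun u => ⟨hUn g hg u, fun h => ?_⟩
    have h' := hUn g⁻¹ (G.inv_mem hg) _ h
    rwa [show g⁻¹ * (g * u * g⁻¹) * g⁻¹⁻¹ = u by group] at h'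
  -- no element of order `p` in `U`
  have hUp : ∀ u ∈ U, u ^ p = 1 → u = 1 := by
    intro u hu hup
    by_contra h1
    have hne : (u : AddMonoid.End V) - 1 ≠ 0 := fun h => h1 (Units.ext (sub_eq_zero.1 h))
    obtain ⟨s, -, hs1, hs2⟩ := hfield _ ((spanRing Z).sub_mem hu (spanRing Z).one_mem) hne
    have hu' : IsUnit ((u : AddMonoid.End V) - 1) := ⟨⟨_, s, hs1, hs2⟩, rfl⟩
    refine (hu'.pow p).ne_zero ?_
    rw [sub_pow_char_of_commute p (Commute.one_right _), one_pow, ← Units.val_pow_eq_pow_val, hup,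
      Units.val_one, sub_self]
  have hUGc : ¬ p ∣ Nat.card ↥(U ⊔ G) := by
    intro hdvd
    obtain ⟨x, hx⟩ := exists_prime_orderOf_dvd_card' p hdvd
    have hxp : (x : (AddMonoid.End V)ˣ) ^ p = 1 := by
      rw [← SubgroupClass.coe_pow, ← hx, pow_orderOf_eq_one, OneMemClass.coe_one]
    have hx1 : (x : (AddMonoid.End V)ˣ) ≠ 1 := fun h => hp.out.one_lt.ne (by
      rw [← hx, orderOf_eq_one_iff.2 (Subtype.ext h)])
    have hxmem : (x : (AddMonoid.End V)ˣ) ∈
        ((U ⊔ G : Subgroup (AddMonoid.End V)ˣ) : Set (AddMonoid.End V)ˣ) := x.2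
    rw [Subgroup.coe_mul_of_right_le_normalizer_left U G hnorm] at hxmem
    obtain ⟨u, hu, g, hg, hug⟩ := Set.mem_mul.1 hxmem
    have hpow : ∀ n : ℕ, (u * g) ^ n * (g ^ n)⁻¹ ∈ U := by
      intro n
      induction n with
      | zero => simp
      | succ n ih =>
        have h : (u * g) ^ (n + 1) * (g ^ (n + 1))⁻¹ =
            u * (g * ((u * g) ^ n * (g ^ n)⁻¹) * g⁻¹) := by
          rw [pow_succ', pow_succ' g n]; group
        rw [h]
        exact U.mul_mem hu (hUn g hg _ ih)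
    have hgp : g ^ p ∈ U := by
      have h := hpow p
      rw [hug, hxp, one_mul] at h
      simpa using U.inv_mem h
    have hgU : g ∈ U := by
      have hco : Nat.Coprime p (orderOf g) := (Nat.Prime.coprime_iff_not_dvd hp.out).2 fun h =>
        hGc (h.trans (Subgroup.orderOf_dvd_natCard G hg))
      obtain ⟨m, hm⟩ := exists_pow_eq_self_of_coprime hco
      rw [← hm]
      exact U.pow_mem hgp m
    exact hx1 (hUp _ (by rw [← hug]; exact U.mul_mem hu hgU) hxp)
  have hUG : U ≤ G :=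
    le_sup_left.trans (hGmax.le_of_ge ⟨Cfsg.Agent.Lib.Components.isSolvable_sup hnorm hUs hGs, hUGc⟩ le_sup_right)
  have hUZ : U = Z :=
    le_antisymm (hZmax.le_of_ge ⟨hUG, hUn, hUc⟩ fun z hz => mem_spanRing hz)
      (fun z hz => mem_spanRing hz)
  refine ⟨G, Z, spanRing Z, hle, hGs, hGc, ⟨hZG, hZn, hZc, fun M hMG hZM hMn hMc =>
    le_antisymm (hZmax.le_of_ge ⟨hMG, hMn, hMc⟩ hZM) hZM, fun r => ⟨fun hr => ?_, ?_⟩⟩⟩
  · by_cases h0 : r = 0
    · exact Or.inl h0
    · obtain ⟨s, -, h1, h2⟩ := hfield r hr h0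
      refine Or.inr ⟨⟨r, s, h1, h2⟩, ?_, rfl⟩
      rw [← hUZ]
      exact hr
  · rintro (rfl | ⟨z, hz, rfl⟩)
    · exact (spanRing Z).zero_mem
    · exact mem_spanRing hz

variable {G Z F A B R : Subgroup (AddMonoid.End V)ˣ} {K : Subring (AddMonoid.End V)} {p : ℕ}

/-- the context of a frame -/
theorem ctx_of_frame (hp : p.Prime) (hp2 : p ≠ 2) (hexp : ∀ v : V, p • v = 0)
    (hco : ¬ p ∣ Nat.card G) (hS : FieldSetup G Z K) (hF : GoodF G Z F) (hfr : IsFrame Z F A B R) :
    Ctx Z F A B R p where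
  sys :=
    { Z_le := hF.Z_le
      cent := hF.cent
      comm_mem := hF.comm_mem
      eig := fun z hz v hv h => hS.eq_one_of_fix hz hv h
      cyclic := hS.isCyclic
      neg_mem := hS.neg_one_mem
      two := fun v hv => cancel_of_coprime hp hexp
        (fun h => hp2 ((Nat.prime_dvd_prime_iff_eq hp Nat.prime_two).1 h)) v (by rw [two_nsmul, hv]) }
  prime := hp
  exp := hexp
  A_le := hfr.A_le
  B_le := hfr.B_le
  R_le := hfr.R_le
  A_comm := hfr.A_comm
  AR := hfr.AR
  A_nd := hfr.A_nd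
  B_comm := hfr.B_comm
  B_nd := hfr.B_nd
  decomp := hfr.decomp
  A_cop := fun h => hco (h.trans (Subgroup.card_dvd_of_le (hfr.A_le.trans hF.le)))
  B_cop := fun h => hco (h.trans (Subgroup.card_dvd_of_le (hfr.B_le.trans hF.le)))
  exp_AB := ⟨sfExp V, squarefree_sfExp,
    fun a ha => hfr.A_nd _ (A.pow_mem ha _) fun b hb => commutatorElement_eq_one_iff_mul_comm.2
      (hF.cent b (hfr.B_le hb) _ (hF.pow_mem a (hfr.A_le ha))).symm,
    fun b hb => hfr.B_nd _ (B.pow_mem hb _) fun a ha => commutatorElement_eq_one_iff_mul_comm.2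
      (hF.cent a (hfr.A_le ha) _ (hF.pow_mem b (hfr.B_le hb)))⟩

/-- scalars of a prime field commute with everything -/
theorem comm_of_prime_field (hp : p.Prime) (hexp : ∀ v : V, p • v = 0) (hS : FieldSetup G Z K)
    (hK : Nat.card K = p) :
    ∀ z ∈ Z, ∃ n : ℕ, n < p ∧ n ≠ 0 ∧ (z : AddMonoid.End V) = (n : ℕ) := by
  classical
  haveI : Nontrivial (AddMonoid.End V) := ⟨⟨0, 1, fun h => by
    obtain ⟨v, hv⟩ := exists_ne (0 : V)
    exact hv (DFunLike.congr_fun h.symm v)⟩⟩
  haveI := Fact.mk hp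
  letI := hS.isField.toField
  haveI : CharP K p := (CharP.charP_iff_prime_eq_zero hp).2 (Subtype.ext (by
    push_cast
    exact end_natCast_eq_zero hexp))
  haveI := Fintype.ofFinite K
  have hbij : Function.Bijective (ZMod.castHom (dvd_refl p) K) :=
    ZMod.castHom_bijective K (by rw [← Nat.card_eq_fintype_card, hK])
  intro z hz
  obtain ⟨k, hk⟩ := hbij.2 ⟨_, hS.coe_mem hz⟩
  refine ⟨k.val, k.val_lt, fun h => ?_, ?_⟩
  · rw [(ZMod.val_eq_zero k).1 h, map_zero] at hk
    exact z.ne_zero (congrArg Subtype.val hk).symm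
  · have h : ((k.val : ℕ) : K) = ⟨_, hS.coe_mem hz⟩ := by
      rw [← hk, ← map_natCast (ZMod.castHom (dvd_refl p) K), ZMod.natCast_zmod_val]
    have h' := congrArg Subtype.val h
    push_cast at h'
    exact h'.symm

theorem cast_comm (g : (AddMonoid.End V)ˣ) {z : (AddMonoid.End V)ˣ} {n : ℕ}
    (h : (z : AddMonoid.End V) = (n : ℕ)) : g * z = z * g :=
  Units.ext (by rw [Units.val_mul, Units.val_mul, h]; exact ((n : ℕ).cast_commute (g : AddMonoid.End V)).eq.symm)

/-- the base over the field with five elements when the fixed space is a line and `A` is small -/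
theorem pair_small (hc : Ctx Z F A B R p) {v : V} (hv0 : v ≠ 0)
    (hline : ∀ w ∈ fixA A, ∃ n : ℕ, w = n • v) (hA : Nat.card A ≤ 2) :
    ∃ x y : V, ∀ g : (AddMonoid.End V)ˣ, g • x = x → g • y = y → g = 1 := by
  classical
  have key : ∀ y : V, (∀ b ∈ B, b = 1 ∨ b • v = y) →
      ∀ g : (AddMonoid.End V)ˣ, g • v = v → g • y = y → g = 1 := by
    intro y hy g hgv hgy
    refine Units.ext (hc.ext_frame (T := (g : AddMonoid.End V)) (T' := AddMonoidHom.id V)
      fun b hb w hw => ?_)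
    show g • b • w = b • w
    obtain ⟨n, rfl⟩ := hline w hw
    rw [cast_commute b, cast_commute g]
    rcases hy b hb with rfl | h
    · rw [one_smul, hgv]
    · rw [h, hgy]
  by_cases hB : ∀ b ∈ B, b = 1
  · exact ⟨v, v, key v fun b hb => Or.inl (hB b hb)⟩
  push Not at hB
  obtain ⟨b0, hb0, hb01⟩ := hB
  refine ⟨v, b0 • v, key _ fun b hb => ?_⟩
  by_cases hb1 : b = 1
  · exact Or.inl hb1
  refine Or.inr ?_
  have hsame : ∀ a ∈ A, ∀ a' ∈ A, a ≠ 1 → a' ≠ 1 → a = a' := by
    intro a ha a' ha' h1 h1'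
    by_contra hne
    haveI := Fintype.ofFinite A
    rw [Nat.card_eq_fintype_card] at hA
    have := Fintype.two_lt_card_iff.2 ⟨(1 : A), ⟨a, ha⟩, ⟨a', ha'⟩,
      fun e => h1 (congrArg Subtype.val e).symm, fun e => h1' (congrArg Subtype.val e).symm,
      fun e => hne (congrArg Subtype.val e)⟩
    omega
  obtain ⟨a, ha, hab0⟩ : ∃ a ∈ A, ⁅a, b0⁆ ≠ 1 := by
    by_contra hh
    push Not at hh
    exact hb01 (hc.B_nd b0 hb0 hh)
  have ha1 : a ≠ 1 := fun e => hab0 (by rw [e, commutatorElement_one_left])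
  have ha2 : a * a = 1 := by
    by_contra h
    have := hsame (a * a) (A.mul_mem ha ha) a ha h ha1
    exact ha1 (mul_eq_left.1 this)
  have hneg : ∀ d ∈ B, d ≠ 1 → ⁅a, d⁆ = -1 := by
    intro d hd hd1
    have hne : ⁅a, d⁆ ≠ 1 := by
      obtain ⟨a', ha', h⟩ : ∃ a' ∈ A, ⁅a', d⁆ ≠ 1 := by
        by_contra hh
        push Not at hh
        exact hd1 (hc.B_nd d hd hh)
      rwa [hsame a ha a' ha' ha1 fun e => h (by rw [e, commutatorElement_one_left])]
    set c := ⁅a, d⁆
    have hcZ := hc.sys.comm_mem a (hc.A_le ha) d (hc.B_le hd)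
    have hc2 : c * c = 1 := by
      show ⁅a, d⁆ * ⁅a, d⁆ = 1
      rw [← hc.comm_mul_left' (hc.A_le ha) (hc.A_le ha) (hc.B_le hd), ha2, commutatorElement_one_left]
    refine hc.sys.eq_of_smul_eq hcZ hc.sys.neg_mem hv0 ?_
    rw [neg_one_smul']
    refine eq_neg_of_add_eq_zero_left ?_
    by_contra h0
    exact hne (hc.sys.eig c hcZ _ h0 (by rw [smul_add, ← mul_smul, hc2, one_smul, add_comm]))
  have h : b0⁻¹ * b = 1 := by
    refine hc.B_nd _ (B.mul_mem (B.inv_mem hb0) hb) fun a' ha' => ?_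
    by_cases h' : a' = 1
    · rw [h', commutatorElement_one_left]
    rw [hsame a' ha' a ha h' ha1, hc.sys.comm_mul (hc.A_le ha) (F.inv_mem (hc.B_le hb0)) (hc.B_le hb),
      hneg _ (B.inv_mem hb0) (inv_ne_one.2 hb01), hneg b hb hb1]
    simp
  rw [inv_mul_eq_one.1 h]

/-- the base when `R` is scalar and the field has at least seven elements -/
theorem base_big (hc : Ctx Z F A B R p) (hp2 : p ≠ 2) (hR : R = Z) (hS : FieldSetup G Z K)
    (hK : 7 ≤ Nat.card K) : GoodOn Z (cenA F A) (fixA A) := by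
  classical
  haveI : Nontrivial (AddMonoid.End V) := ⟨⟨0, 1, fun h => by
    obtain ⟨v, hv⟩ := exists_ne (0 : V)
    exact hv (DFunLike.congr_fun h.symm v)⟩⟩
  letI := hS.isField.toField
  haveI := Fact.mk hc.prime
  haveI : CharP K p := (CharP.charP_iff_prime_eq_zero hc.prime).2 (Subtype.ext (by
    push_cast
    exact end_natCast_eq_zero hc.exp))
  haveI := Fintype.ofFinite K
  obtain ⟨v, hv⟩ := exists_ne (0 : V)
  have hcard : Nat.card Z = Nat.card K - 1 := by
    let e : Z ≃ {k : K // k ≠ 0} := Equiv.ofBijective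
      (fun z => ⟨⟨_, hS.coe_mem z.2⟩, fun h => z.1.ne_zero (congrArg Subtype.val h)⟩)
      ⟨fun z z' h => Subtype.ext (Units.ext (congrArg (fun k => k.1.1) h)), fun k => by
        rcases (hS.mem_iff k.1.1).1 k.1.2 with h | ⟨z, hz, he⟩
        · exact absurd (Subtype.ext h) k.2
        · exact ⟨⟨z, hz⟩, Subtype.ext (Subtype.ext he)⟩⟩
    rw [Nat.card_congr e, Nat.card_eq_fintype_card, Nat.card_eq_fintype_card,
      Fintype.card_subtype_compl, Fintype.card_subtype_eq]
  by_cases h7 : Nat.card K = 7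
  · -- the prime field
    have hp7 : p = 7 := by
      obtain ⟨n, -, hn⟩ := FiniteField.card K p
      rw [← Nat.card_eq_fintype_card, h7] at hn
      have h1 : p ∣ 7 := by
        rw [hn]
        exact dvd_pow_self p n.ne_zero
      exact (Nat.prime_dvd_prime_iff_eq hc.prime (by norm_num)).1 h1
    have hcast := comm_of_prime_field hc.prime hc.exp hS (h7.trans hp7.symm)
    have h2 : ((2 : ℕ) : K) ≠ 0 := fun h => hp2
      ((Nat.prime_dvd_prime_iff_eq hc.prime Nat.prime_two).1 ((CharP.cast_eq_zero_iff K p 2).1 h))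
    obtain ⟨κ, hκ, hκe⟩ : ∃ κ ∈ Z, (κ : AddMonoid.End V) = (((2 : ℕ) : K) : AddMonoid.End V) := by
      rcases (hS.mem_iff (((2 : ℕ) : K) : AddMonoid.End V)).1 ((2 : ℕ) : K).2 with h | h
      · exact absurd (Subtype.ext h) h2
      · exact h
    have hpow : ∀ m : ℕ, ((κ ^ m : (AddMonoid.End V)ˣ) : AddMonoid.End V) = ((2 ^ m : ℕ) : AddMonoid.End V) :=
      fun m => by
        have e : (κ : AddMonoid.End V) = ((2 : ℕ) : AddMonoid.End V) := by rw [hκe]; push_cast; rfl
        rw [Units.val_pow_eq_pow_val, e, Nat.cast_pow]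
    have hz : ∀ m : ℕ, ((m : ℕ) : AddMonoid.End V) = 0 → p ∣ m := fun m h =>
      (CharP.cast_eq_zero_iff K p m).1 (Subtype.ext (by push_cast; exact h))
    refine hc.base_scalar hR hκ (fun h => ?_) (fun h => ?_) fun g _ _ z hz' => ?_
    · have h1 := congrArg (fun u : (AddMonoid.End V)ˣ => (u : AddMonoid.End V)) h
      simp only [hpow, Units.val_one] at h1
      have h2 := hz 15 (by
        rw [show ((15 : ℕ) : AddMonoid.End V) = ((2 ^ 4 : ℕ) : AddMonoid.End V) - 1 by norm_num, h1, sub_self])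
      rw [hp7] at h2
      norm_num at h2
    · have h1 := congrArg (fun u : (AddMonoid.End V)ˣ => (u : AddMonoid.End V)) h
      simp only [hpow, Units.val_neg, Units.val_one] at h1
      have h2 := hz 9 (by
        rw [show ((9 : ℕ) : AddMonoid.End V) = ((2 ^ 3 : ℕ) : AddMonoid.End V) + 1 by norm_num, h1, neg_add_cancel])
      rw [hp7] at h2
      norm_num at h2
    · obtain ⟨n, -, -, hn⟩ := hcast z hz'
      exact cast_comm g hn
  haveI := hc.sys.cyclic
  obtain ⟨κ, hκ⟩ := IsCyclic.exists_generator (α := Z)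
  have hord : orderOf (κ : (AddMonoid.End V)ˣ) = Nat.card K - 1 := by
    rw [← hcard, ← orderOf_eq_card_of_forall_mem_zpowers hκ, Subgroup.orderOf_coe]
  refine hc.base_scalar hR κ.2 (fun h => ?_) (fun h => ?_) fun g _ hg z hz => ?_
  · have := Nat.le_of_dvd (by norm_num) (orderOf_dvd_of_pow_eq_one h)
    omega
  · have h6 : (κ : (AddMonoid.End V)ˣ) ^ 6 = 1 := by rw [pow_mul _ 3 2, h, neg_one_sq]
    have := Nat.le_of_dvd (by norm_num) (orderOf_dvd_of_pow_eq_one h6)
    omega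
  · obtain ⟨n, hn⟩ := Subgroup.mem_zpowers_iff.1 (hκ ⟨z, hz⟩)
    have hcm : Commute g (κ : (AddMonoid.End V)ˣ) := mul_inv_eq_iff_eq_mul.1 hg
    have := (hcm.zpow_right n).eq
    rwa [← SubgroupClass.coe_zpow, hn] at this

/-- the primitive case, given the case of three elements -/
theorem primitiveOK_of_three (h3 : ThreeOK) : PrimitiveOK := by
  intro V _ _ _ p _ hp2 hexp G0 hG hco0 hirr hprim
  classical
  haveI : Nontrivial (AddMonoid.End V) := ⟨⟨0, 1, fun h => by
    obtain ⟨v, hv⟩ := exists_ne (0 : V)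
    exact hv (DFunLike.congr_fun h.symm v)⟩⟩
  have hp : p.Prime := Fact.out
  obtain ⟨G, Z, K, hle, hGs, hco, hS⟩ := exists_setup_coprime hexp G0 hG hco0 hirr hprim
  obtain ⟨F, hF, hC⟩ := exists_goodF hGs hS
  suffices h : HasPair G by
    obtain ⟨x, y, hxy⟩ := h
    exact ⟨x, y, fun g hg => hxy g (hle hg)⟩
  letI := hS.isField.toField
  haveI : CharP K p := (CharP.charP_iff_prime_eq_zero hp).2 (Subtype.ext (by
    push_cast
    exact end_natCast_eq_zero hexp))
  haveI := Fintype.ofFinite K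
  obtain ⟨m, -, hm⟩ := FiniteField.card K p
  rw [← Nat.card_eq_fintype_card] at hm
  have hpK : p ∣ Nat.card K := by rw [hm]; exact dvd_pow_self p m.ne_zero
  by_cases hK3 : Nat.card K = 3
  · have hp3 : p = 3 := (Nat.prime_dvd_prime_iff_eq hp Nat.prime_three).1 (hK3 ▸ hpK)
    exact h3 V G Z F K hGs (hp3 ▸ hco) (hirr.mono hle) hS hF hC hK3
  obtain ⟨A, B, R, hfr⟩ := hF.exists_frame hS hC (Nat.card F) F le_rfl hF.Z_le le_rfl
    fun x hx h => hC x (hF.le hx) fun f hf => commutatorElement_eq_one_iff_mul_comm.1 (h f hf)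
  have hc := ctx_of_frame hp hp2 hexp hco hS hF hfr
  have finish : ∀ A1 ≤ A, GoodOn Z (cenA F A1) (fixA A1) → HasPair G := by
    intro A1 hA1 hbase
    obtain ⟨x, y, -, -, hx0, -, -, -, hrig⟩ := hc.descend A1 hbase hA1 ⊥ bot_le
    have hF' : ∀ f, f ∈ cenA F ⊥ ↔ f ∈ F := fun f => by
      rw [mem_cenA]
      exact ⟨fun h => h.1, fun h => ⟨h, fun c hc => by rw [Subgroup.mem_bot.1 hc, commutatorElement_one_left]⟩⟩
    have hW : ∀ w : V, w ∈ fixA (⊥ : Subgroup (AddMonoid.End V)ˣ) := fun w c hc => by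
      rw [Subgroup.mem_bot.1 hc, one_smul]
    refine ⟨x, y, fun g hg hgx hgy => ?_⟩
    have hgf := hrig g (hS.norm g hg) (fun f hf => (hF' _).2 (hF.norm g hg f ((hF' f).1 hf)))
      (fun w _ => hW _) hgx hgy
    have hgc : ∀ f ∈ F, g * f = f * g := fun f hf => Units.ext (AddMonoidHom.ext fun w =>
      hgf f ((hF' f).2 hf) w (hW w))
    exact hS.eq_one_of_fix (hC g hg hgc) hx0 hgx
  have hodd : Odd (Nat.card K) := by
    rw [hm]
    exact (hp.odd_of_ne_two hp2).pow
  have hge : 3 ≤ p := by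
    have := hp.two_le
    omega
  have hKge : 5 ≤ Nat.card K := by
    obtain ⟨r, hr⟩ := hodd
    have h1 : p ≤ Nat.card K := Nat.le_of_dvd Nat.card_pos hpK
    omega
  by_cases hRZ : R = Z
  · by_cases hK5 : Nat.card K = 5
    · have hp5 : p = 5 := (Nat.prime_dvd_prime_iff_eq hp (by norm_num)).1 (hK5 ▸ hpK)
      subst hp5
      have hcast := comm_of_prime_field hp hexp hS hK5
      obtain ⟨v, hv, hv0⟩ := hc.exists_fix_ne
      by_cases hline : ∀ w ∈ fixA A, ∃ n : ℕ, w = n • v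
      · by_cases hA : Nat.card A ≤ 2
        · obtain ⟨x, y, h⟩ := pair_small hc hv0 hline hA
          exact ⟨x, y, fun g _ => h g⟩
        letI : Module (ZMod 5) V := AddCommGroup.zmodModule hexp
        have hnk : ∀ (n : ℕ) (u : V), n • u = (n : ZMod 5) • u := fun n u =>
          (Nat.cast_smul_eq_nsmul (ZMod 5) n u).symm
        obtain ⟨A1, hA1, hb⟩ := base_five hc hRZ (fun z hz => by
            obtain ⟨n, hn5, hn0, hn⟩ := hcast z hz
            refine ⟨(n : ZMod 5), fun h => ?_, fun u => ?_⟩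
            · rw [ZMod.natCast_eq_zero_iff] at h
              exact hn0 (Nat.eq_zero_of_dvd_of_lt h hn5)
            · rw [← hnk, units_smul_def, hn, AddMonoid.End.natCast_apply])
          hv hv0 (fun w hw => by
            obtain ⟨n, hn⟩ := hline w hw
            exact ⟨(n : ZMod 5), by rw [hn, hnk]⟩) (by omega)
        exact finish A1 hA1 hb
      · push Not at hline
        obtain ⟨w0, hw0, hn⟩ := hline
        refine finish A le_rfl (hc.base_indep hRZ (fun g z hz => ?_) hv hv0 hw0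
          (fun e => hn 0 (by rw [e, zero_smul])) fun z hz e => ?_)
        · obtain ⟨n, -, -, hn⟩ := hcast z hz
          exact cast_comm g hn
        · obtain ⟨n, -, -, hn'⟩ := hcast z hz
          exact hn n (by rw [← e, units_smul_def, hn', AddMonoid.End.natCast_apply])
    · have h7 : 7 ≤ Nat.card K := by
        obtain ⟨r, hr⟩ := hodd
        omega
      exact finish A le_rfl (base_big hc hp2 hRZ hS h7)
  · obtain ⟨α, hα, β, hβ, hα2, hβ2, hαβ, hgen⟩ := hfr.shape.resolve_left hRZ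
    have hnz : ∀ a b : (AddMonoid.End V)ˣ, a * b = -(b * a) → a * b ≠ b * a := by
      intro a b h he
      obtain ⟨u, hu⟩ := exists_ne (0 : V)
      rw [he] at h
      have h1 : (b * a) • u = -((b * a) • u) := by
        conv_lhs => rw [h]
        rfl
      exact hu ((smul_eq_zero_iff_eq _).1 (hc.sys.two _ (add_eq_zero_iff_eq_neg.2 h1)))
    have hαZ : α ∉ Z := fun h => hnz α β hαβ (hF.cent β (hfr.R_le hβ) α h).symm
    have hβZ : β ∉ Z := fun h => hnz α β hαβ (hF.cent α (hfr.R_le hα) β h)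
    have h5 : Nat.card K ≠ 5 := by
      intro h5
      have hp5 : p = 5 := (Nat.prime_dvd_prime_iff_eq hp (by norm_num)).1 (h5 ▸ hpK)
      have h2 : ((2 : ℕ) : K) ≠ 0 := fun h => hp2
        ((Nat.prime_dvd_prime_iff_eq hp Nat.prime_two).1 ((CharP.cast_eq_zero_iff K p 2).1 h))
      rcases (hS.mem_iff (((2 : ℕ) : K) : AddMonoid.End V)).1 ((2 : ℕ) : K).2 with h | ⟨z, hz, he⟩
      · exact h2 (Subtype.ext h)
      refine (hfr.aniso α hα hαZ).2 z hz ?_
      rw [hα2]
      refine Units.ext ?_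
      have h55 : ((5 : ℕ) : AddMonoid.End V) = 0 := end_natCast_eq_zero (hp5 ▸ hexp)
      have he' : (z : AddMonoid.End V) = ((2 : ℕ) : AddMonoid.End V) := by rw [he]; push_cast; rfl
      rw [Units.val_pow_eq_pow_val, he', Units.val_neg, Units.val_one]
      refine eq_neg_of_add_eq_zero_left ?_
      rw [← h55]
      push_cast
      norm_num
    have h7 : 7 ≤ Nat.card K := by
      obtain ⟨r, hr⟩ := hodd
      omega
    exact finish A le_rfl (base_quat hc hp2 hS h7 hfr.Z_le hfr.aniso hα hβ hα2 hβ2 hαβ hgen hαZ hβZ)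

end Cfsg.Agent.DP71
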