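import Cfsg.Agent.Lib.DolfiPair71.Defs

/-!
# Adding one prime to a rigid pair

`F` acts on `W`, `a, b ∈ F` have order `r` and a nontrivial commutator.  From a rigid pair on the fixed space
of `a` we build one on `W`.
-/

set_option autoImplicit false
set_option linter.style.haveILetI false
set_option linter.unusedSectionVars false

namespace Cfsg.Agent.DP71

open scoped commutatorElement

variable {V : Type} [AddCommGroup V] [Finite V]

/-- the scalars `Z` and a group `F` with commutators in `Z` -/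
structure Sys (Z F : Subgroup (AddMonoid.End V)ˣ) : Prop where
  Z_le : Z ≤ F
  cent : ∀ f ∈ F, ∀ z ∈ Z, f * z = z * f
  comm_mem : ∀ x ∈ F, ∀ y ∈ F, ⁅x, y⁆ ∈ Z
  eig : ∀ z ∈ Z, ∀ v : V, v ≠ 0 → z • v = v → z = 1
  cyclic : IsCyclic Z
  neg_mem : (-1 : (AddMonoid.End V)ˣ) ∈ Z
  two : ∀ v : V, v + v = 0 → v = 0

/-- no element of `F` outside the scalars has `x` as an eigenvector -/
def EigFree (Z F : Subgroup (AddMonoid.End V)ˣ) (W : AddSubgroup V) (x : V) : Prop :=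
  ∀ f ∈ F, ∀ z ∈ Z, f • x = z • x → ∃ z' ∈ Z, ∀ w ∈ W, f • w = z' • w

/-- `y` is independent of `x` or an awkward multiple of it -/
def Esc (Z F : Subgroup (AddMonoid.End V)ˣ) (x y : V) : Prop :=
  (∀ f ∈ F, ∀ z ∈ Z, f • x ≠ z • y) ∨ ∃ κ ∈ Z, y = κ • x ∧ κ ^ 4 ≠ 1 ∧ κ ^ 3 ≠ -1

/-- whatever normalises everything and fixes `x` and `y` commutes with `F` on `W` -/
def Rigid (Z F : Subgroup (AddMonoid.End V)ˣ) (W : AddSubgroup V) (x y : V) : Prop :=
  ∀ g : (AddMonoid.End V)ˣ, (∀ z ∈ Z, g * z * g⁻¹ ∈ Z) → (∀ f ∈ F, g * f * g⁻¹ ∈ F) →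
    (∀ w ∈ W, g • w ∈ W) → g • x = x → g • y = y → ∀ f ∈ F, ∀ w ∈ W, g • f • w = f • g • w

/-- a rigid pair on `W` -/
def GoodOn (Z F : Subgroup (AddMonoid.End V)ˣ) (W : AddSubgroup V) : Prop :=
  ∃ x y, x ∈ W ∧ y ∈ W ∧ x ≠ 0 ∧ y ≠ 0 ∧ EigFree Z F W x ∧ Esc Z F x y ∧ Rigid Z F W x y

/-- the part of `F` commuting with `a` -/
def cen (F : Subgroup (AddMonoid.End V)ˣ) (a : (AddMonoid.End V)ˣ) : Subgroup (AddMonoid.End V)ˣ :=
  F ⊓ Subgroup.centralizer {a}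

/-- the fixed space of `a` in `W` -/
def fixOn (W : AddSubgroup V) (a : (AddMonoid.End V)ˣ) : AddSubgroup V where
  carrier := {v | v ∈ W ∧ a • v = v}
  add_mem' := fun {x y} hx hy => ⟨W.add_mem hx.1 hy.1, by rw [smul_add, hx.2, hy.2]⟩
  zero_mem' := ⟨W.zero_mem, smul_zero _⟩
  neg_mem' := fun {x} hx => ⟨W.neg_mem hx.1, by rw [smul_neg, hx.2]⟩

theorem mem_cen {F : Subgroup (AddMonoid.End V)ˣ} {a f : (AddMonoid.End V)ˣ} :
    f ∈ cen F a ↔ f ∈ F ∧ ⁅a, f⁆ = 1 := by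
  rw [cen, Subgroup.mem_inf, Subgroup.mem_centralizer_singleton_iff,
    commutatorElement_eq_one_iff_mul_comm]
  exact and_congr_right fun _ => eq_comm

theorem neg_one_smul' (v : V) : (-1 : (AddMonoid.End V)ˣ) • v = -v := rfl

theorem conj_smul (g f : (AddMonoid.End V)ˣ) (v : V) : (g * f * g⁻¹) • g • v = g • f • v := by
  rw [mul_smul, mul_smul, inv_smul_smul]

theorem avg_fix {r : ℕ} {d : (AddMonoid.End V)ˣ} (hd : d ^ r = 1) (u : V) :
    d • ∑ j ∈ Finset.range r, d ^ j • u = ∑ j ∈ Finset.range r, d ^ j • u := by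
  rw [Finset.smul_sum]
  have h1 := Finset.sum_range_succ' (fun j => d ^ j • u) r
  rw [Finset.sum_range_succ, hd, pow_zero] at h1
  refine Eq.trans (Finset.sum_congr rfl fun j _ => ?_) (add_right_cancel h1).symm
  rw [← mul_smul, ← pow_succ']

namespace Sys

variable {Z F : Subgroup (AddMonoid.End V)ˣ}

theorem zc (hS : Sys Z F) {z f : (AddMonoid.End V)ˣ} (hz : z ∈ Z) (hf : f ∈ F) (v : V) :
    f • z • v = z • f • v := by
  rw [← mul_smul, hS.cent f hf z hz, mul_smul]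

theorem swap (f g : (AddMonoid.End V)ˣ) (v : V) : f • g • v = ⁅f, g⁆ • g • f • v := by
  rw [← mul_smul, ← mul_smul, ← mul_smul]
  congr 1
  rw [commutatorElement_def]; group

theorem eq_of_smul_eq (hS : Sys Z F) {z z' : (AddMonoid.End V)ˣ} (hz : z ∈ Z) (hz' : z' ∈ Z)
    {v : V} (hv : v ≠ 0) (h : z • v = z' • v) : z = z' := by
  have h1 := hS.eig (z'⁻¹ * z) (Z.mul_mem (Z.inv_mem hz') hz) v hv (by rw [mul_smul, h, inv_smul_smul])
  exact (inv_mul_eq_one.1 h1).symm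

theorem comm_mul (hS : Sys Z F) {f g h : (AddMonoid.End V)ˣ} (hf : f ∈ F) (hg : g ∈ F) (hh : h ∈ F) :
    ⁅f, g * h⁆ = ⁅f, g⁆ * ⁅f, h⁆ := by
  have h2 := hS.cent g hg _ (hS.comm_mem f hf h hh)
  calc ⁅f, g * h⁆ = ⁅f, g⁆ * (g * ⁅f, h⁆ * g⁻¹) := by simp only [commutatorElement_def]; group
    _ = ⁅f, g⁆ * ⁅f, h⁆ := by rw [h2, mul_inv_cancel_right]

theorem comm_pow (hS : Sys Z F) {f g : (AddMonoid.End V)ˣ} (hf : f ∈ F) (hg : g ∈ F) :
    ∀ n : ℕ, ⁅f, g ^ n⁆ = ⁅f, g⁆ ^ n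
  | 0 => by simp
  | n + 1 => by rw [pow_succ, hS.comm_mul hf (F.pow_mem hg n) hg, comm_pow hS hf hg n, pow_succ]

theorem swap_pow (hS : Sys Z F) {f g : (AddMonoid.End V)ˣ} (hf : f ∈ F) (hg : g ∈ F) (n : ℕ)
    (v : V) : f • g ^ n • v = ⁅f, g⁆ ^ n • g ^ n • f • v := by
  rw [swap, hS.comm_pow hf hg]

end Sys

section step

variable {Z F : Subgroup (AddMonoid.End V)ˣ} {W : AddSubgroup V} {r : ℕ} {a b : (AddMonoid.End V)ˣ}

/-- the data of one step -/
structure StepData (Z F : Subgroup (AddMonoid.End V)ˣ) (W : AddSubgroup V) (r : ℕ)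
    (a b : (AddMonoid.End V)ˣ) : Prop where
  sys : Sys Z F
  stable : ∀ f ∈ F, ∀ w ∈ W, f • w ∈ W
  prime : r.Prime
  a_mem : a ∈ F
  b_mem : b ∈ F
  a_pow : a ^ r = 1
  b_pow : b ^ r = 1
  ne : ⁅a, b⁆ ≠ 1
  cancel : ∀ v : V, r • v = 0 → v = 0

namespace StepData

theorem z_mem (h : StepData Z F W r a b) : ⁅a, b⁆ ∈ Z := h.sys.comm_mem a h.a_mem b h.b_mem

theorem z_pow (h : StepData Z F W r a b) : ⁅a, b⁆ ^ r = 1 := by
  rw [← h.sys.comm_pow h.a_mem h.b_mem, h.b_pow, commutatorElement_one_right]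

theorem z_order (h : StepData Z F W r a b) : orderOf ⁅a, b⁆ = r :=
  haveI := Fact.mk h.prime
  orderOf_eq_prime h.z_pow h.ne

theorem z_pow_inj (h : StepData Z F W r a b) {i j : ℕ} (hi : i < r) (hj : j < r)
    (he : ⁅a, b⁆ ^ i = ⁅a, b⁆ ^ j) : i = j :=
  pow_injOn_Iio_orderOf (by rw [Set.mem_Iio, h.z_order]; exact hi)
    (by rw [Set.mem_Iio, h.z_order]; exact hj) he

theorem exists_root (h : StepData Z F W r a b) {c : (AddMonoid.End V)ˣ} (hc : c ∈ Z) (hcr : c ^ r = 1) :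
    ∃ j < r, c = ⁅a, b⁆ ^ j := by
  classical
  haveI := h.sys.cyclic
  haveI := Fintype.ofFinite Z
  let ζ : Z := ⟨_, h.z_mem⟩
  have hord : orderOf ζ = r := by rw [← h.z_order, ← Subgroup.orderOf_coe]
  have hle := IsCyclic.card_pow_eq_one_le (α := Z) h.prime.pos
  have hsub : (Finset.range r).image (fun j => ζ ^ j) ⊆ Finset.univ.filter fun x : Z => x ^ r = 1 := by
    intro x hx
    obtain ⟨j, -, rfl⟩ := Finset.mem_image.1 hx
    rw [Finset.mem_filter, ← pow_mul, mul_comm, pow_mul]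
    exact ⟨Finset.mem_univ _, by rw [← hord, pow_orderOf_eq_one, one_pow]⟩
  have hcard : ((Finset.range r).image fun j => ζ ^ j).card = r := by
    rw [Finset.card_image_of_injOn, Finset.card_range]
    intro i hi j hj he
    exact pow_injOn_Iio_orderOf (by rw [Set.mem_Iio, hord]; exact Finset.mem_range.1 hi)
      (by rw [Set.mem_Iio, hord]; exact Finset.mem_range.1 hj) he
  have heq := Finset.eq_of_subset_of_card_le hsub (by rw [hcard]; exact hle)
  have : (⟨c, hc⟩ : Z) ∈ Finset.univ.filter fun x : Z => x ^ r = 1 :=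
    Finset.mem_filter.2 ⟨Finset.mem_univ _, Subtype.ext (by simpa using hcr)⟩
  rw [← heq] at this
  obtain ⟨j, hj, he⟩ := Finset.mem_image.1 this
  exact ⟨j, Finset.mem_range.1 hj, by simpa using (congrArg Subtype.val he).symm⟩

/-- the `i`-th eigenspace of `a` -/
def InV (W : AddSubgroup V) (a b : (AddMonoid.End V)ˣ) (i : ℕ) (u : V) : Prop :=
  u ∈ W ∧ a • u = ⁅a, b⁆ ^ i • u

/-- projection to the `i`-th eigenspace, times `r` -/
def proj (r : ℕ) (a b : (AddMonoid.End V)ˣ) (i : ℕ) (u : V) : V :=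
  ∑ j ∈ Finset.range r, ((⁅a, b⁆ ^ i)⁻¹ * a) ^ j • u

theorem proj_add (i : ℕ) (u v : V) : proj r a b i (u + v) = proj r a b i u + proj r a b i v := by
  simp only [proj, smul_add, Finset.sum_add_distrib]

theorem proj_zero (i : ℕ) : proj r a b i (0 : V) = 0 := by simp [proj]

theorem d_pow (h : StepData Z F W r a b) (i : ℕ) : ((⁅a, b⁆ ^ i)⁻¹ * a) ^ r = 1 := by
  have hc : Commute ((⁅a, b⁆ ^ i)⁻¹) a :=
    (h.sys.cent a h.a_mem _ (Z.inv_mem (Z.pow_mem h.z_mem i))).symm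
  rw [hc.mul_pow, h.a_pow, mul_one, inv_pow, ← pow_mul, mul_comm, pow_mul, h.z_pow, one_pow, inv_one]

theorem proj_mem (h : StepData Z F W r a b) (i : ℕ) {u : V} (hu : u ∈ W) :
    InV W a b i (proj r a b i u) := by
  refine ⟨W.sum_mem fun j _ => h.stable _ (F.pow_mem (F.mul_mem (h.sys.Z_le
    (Z.inv_mem (Z.pow_mem h.z_mem i))) h.a_mem) j) u hu, ?_⟩
  have := avg_fix (h.d_pow i) u
  rw [mul_smul, inv_smul_eq_iff] at this
  exact this

theorem proj_of (h : StepData Z F W r a b) {i k : ℕ} (hi : i < r) (hk : k < r) {u : V}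
    (hu : InV W a b i u) : proj r a b k u = if k = i then r • u else 0 := by
  set ζ := ⁅a, b⁆ with hζ
  let c := (ζ ^ k)⁻¹ * ζ ^ i
  have hc : c ∈ Z := Z.mul_mem (Z.inv_mem (Z.pow_mem h.z_mem k)) (Z.pow_mem h.z_mem i)
  have h1 : ∀ j : ℕ, ((ζ ^ k)⁻¹ * a) ^ j • u = c ^ j • u := by
    intro j
    induction j with
    | zero => simp
    | succ j ih =>
      have h2 : ((ζ ^ k)⁻¹ * a) • u = c • u := by rw [mul_smul, hu.2, ← mul_smul]
      rw [pow_succ, mul_smul, h2, h.sys.zc hc (F.pow_mem (F.mul_mem (h.sys.Z_le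
        (Z.inv_mem (Z.pow_mem h.z_mem k))) h.a_mem) j), ih, ← mul_smul, ← pow_succ']
  show ∑ j ∈ Finset.range r, ((ζ ^ k)⁻¹ * a) ^ j • u = _
  rw [Finset.sum_congr rfl fun j _ => h1 j]
  split_ifs with hki
  · have : c = 1 := by simp [c, hki]
    simp [this]
  · have hcr : c ^ r = 1 := by
      have hcom : Commute (ζ ^ k)⁻¹ (ζ ^ i) := ((Commute.refl ζ).pow_pow k i).inv_left
      rw [show c = (ζ ^ k)⁻¹ * ζ ^ i from rfl, hcom.mul_pow, inv_pow, ← pow_mul, ← pow_mul,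
        mul_comm k, mul_comm i, pow_mul, pow_mul, h.z_pow, one_pow, one_pow, inv_one, mul_one]
    by_contra hne
    have h2 := h.sys.eig c hc _ hne (avg_fix hcr u)
    exact hki (h.z_pow_inj hk hi (inv_mul_eq_one.1 h2))

theorem r_smul (h : StepData Z F W r a b) (u : V) :
    r • u = ∑ i ∈ Finset.range r, proj r a b i u := by
  simp only [proj]
  rw [Finset.sum_comm, Finset.sum_eq_single 0]
  · simp
  · intro j hj hj0
    set ζ := ⁅a, b⁆ with hζ
    have h1 : ∀ i : ℕ, ((ζ ^ i)⁻¹ * a) ^ j • u = ((ζ ^ j)⁻¹) ^ i • a ^ j • u := by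
      intro i
      rw [(show Commute ((ζ ^ i)⁻¹) a from
        (h.sys.cent a h.a_mem _ (Z.inv_mem (Z.pow_mem h.z_mem i))).symm).mul_pow, mul_smul,
        inv_pow, inv_pow, ← pow_mul, ← pow_mul, mul_comm]
    rw [Finset.sum_congr rfl fun i _ => h1 i]
    by_contra hne
    have hc : ((ζ ^ j)⁻¹) ∈ Z := Z.inv_mem (Z.pow_mem h.z_mem j)
    have hcr : ((ζ ^ j)⁻¹) ^ r = 1 := by
      rw [inv_pow, ← pow_mul, mul_comm, pow_mul, h.z_pow, one_pow, inv_one]
    have h2 := h.sys.eig _ hc _ hne (avg_fix hcr _)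
    exact hj0 (h.z_pow_inj (Finset.mem_range.1 hj) h.prime.pos (by rw [pow_zero]; exact inv_eq_one.1 h2))
  · intro h0
    exact absurd (Finset.mem_range.2 h.prime.pos) h0

theorem comp_eq (h : StepData Z F W r a b) {u v : V} (i : ℕ)
    (h1 : proj r a b i u = r • v) (u' v' : V) (h2 : proj r a b i u' = r • v') (he : u = u') :
    v = v' := by
  subst he
  rw [h1] at h2
  exact sub_eq_zero.1 (h.cancel _ (by rw [smul_sub, h2, sub_self]))

theorem b_pow_mem (h : StepData Z F W r a b) (i : ℕ) {w : V} (hw : w ∈ fixOn W a) :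
    InV W a b i (b ^ i • w) := by
  refine ⟨h.stable _ (F.pow_mem h.b_mem i) w hw.1, ?_⟩
  rw [h.sys.swap_pow h.a_mem h.b_mem, hw.2]

theorem exists_fix (h : StepData Z F W r a b) (i : ℕ) {u : V} (hu : InV W a b i u) :
    (b ^ i)⁻¹ • u ∈ fixOn W a := by
  refine ⟨h.stable _ (F.inv_mem (F.pow_mem h.b_mem i)) u hu.1, ?_⟩
  apply MulAction.injective (b ^ i)
  show b ^ i • a • _ = b ^ i • _
  rw [smul_inv_smul]
  have h1 := h.sys.swap_pow h.a_mem h.b_mem i ((b ^ i)⁻¹ • u)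
  rw [smul_inv_smul, hu.2] at h1
  exact (MulAction.injective (⁅a, b⁆ ^ i) h1).symm

theorem ext_W (h : StepData Z F W r a b) {f g : (AddMonoid.End V)ˣ}
    (he : ∀ i < r, ∀ w ∈ fixOn W a, f • b ^ i • w = g • b ^ i • w) {u : V} (hu : u ∈ W) :
    f • u = g • u := by
  have h1 : ∀ i ∈ Finset.range r, f • proj r a b i u = g • proj r a b i u := fun i hi => by
    have := he i (Finset.mem_range.1 hi) _ (h.exists_fix i (h.proj_mem i hu))
    rwa [smul_inv_smul] at this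
  have h2 : r • (f • u) = r • (g • u) := by
    rw [← smul_comm f r u, ← smul_comm g r u, h.r_smul, Finset.smul_sum, Finset.smul_sum,
      Finset.sum_congr rfl h1]
  exact sub_eq_zero.1 (h.cancel _ (by rw [smul_sub, h2, sub_self]))

theorem shift (h : StepData Z F W r a b) {f : (AddMonoid.End V)ˣ} (hf : f ∈ F) :
    ∃ k < r, ⁅a, f⁆ = ⁅a, b⁆ ^ k := by
  refine h.exists_root (h.sys.comm_mem a h.a_mem f hf) ?_
  have : ⁅f, a⁆ ^ r = 1 := by rw [← h.sys.comm_pow hf h.a_mem, h.a_pow, commutatorElement_one_right]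
  rw [← commutatorElement_inv, inv_pow, this, inv_one]

theorem shift_mem (h : StepData Z F W r a b) {f : (AddMonoid.End V)ˣ} (hf : f ∈ F) {k i : ℕ}
    (hk : ⁅a, f⁆ = ⁅a, b⁆ ^ k) {u : V} (hu : InV W a b i u) :
    InV W a b ((k + i) % r) (f • u) := by
  refine ⟨h.stable f hf u hu.1, ?_⟩
  rw [Sys.swap, hk, hu.2, h.sys.zc (Z.pow_mem h.z_mem i) hf, ← mul_smul, ← pow_add,
    pow_eq_pow_mod _ h.z_pow]

theorem kernel (h : StepData Z F W r a b) {f z : (AddMonoid.End V)ˣ} (hf : f ∈ cen F a) (hz : z ∈ Z)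
    (hfix : ∀ w ∈ fixOn W a, f • w = z • w) : ∃ j < r, ∀ u ∈ W, f • u = z • a ^ j • u := by
  obtain ⟨hfF, -⟩ := mem_cen.1 hf
  obtain ⟨j, hj, hc⟩ := h.exists_root (h.sys.comm_mem f hfF b h.b_mem)
    (by rw [← h.sys.comm_pow hfF h.b_mem, h.b_pow, commutatorElement_one_right])
  refine ⟨j, hj, fun u hu => ?_⟩
  rw [← mul_smul]
  refine h.ext_W (fun i _ w hw => ?_) hu
  rw [h.sys.swap_pow hfF h.b_mem, hc, hfix w hw, mul_smul z]
  have h2 : a ^ j • w = w := by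
    clear hc hj
    induction j with
    | zero => simp
    | succ j ih => rw [pow_succ, mul_smul, hw.2, ih]
  have h3 : a ^ j • b ^ i • w = (⁅a, b⁆ ^ i) ^ j • b ^ i • w := by
    clear hc hj h2
    induction j with
    | zero => simp
    | succ j ih =>
      rw [pow_succ, mul_smul, h.sys.swap_pow h.a_mem h.b_mem, hw.2,
        h.sys.zc (Z.pow_mem h.z_mem i) (F.pow_mem h.a_mem j), ih, ← mul_smul, ← pow_succ']
  rw [h3, h.sys.zc hz (F.pow_mem h.b_mem i), ← pow_mul, ← pow_mul, mul_comm j i,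
    h.sys.zc hz (h.sys.Z_le (Z.pow_mem h.z_mem (i * j)))]

end StepData

end step

end Cfsg.Agent.DP71
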