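import Cfsg.Agent.Lib.DolfiPair71.Step

/-!
# The step theorem
-/

set_option autoImplicit false
set_option linter.unusedSectionVars false

namespace Cfsg.Agent.DP71

open scoped commutatorElement

variable {V : Type} [AddCommGroup V] [Finite V]
variable {Z F : Subgroup (AddMonoid.End V)ˣ} {W : AddSubgroup V} {r : ℕ} {a b : (AddMonoid.End V)ˣ}

theorem neg_one_ne (hS : Sys Z F) {v : V} (hv : v ≠ 0) : (-1 : (AddMonoid.End V)ˣ) ≠ 1 := by
  intro e
  refine hv (hS.two v ?_)
  have h1 : (-1 : (AddMonoid.End V)ˣ) • v = v := by rw [e, one_smul]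
  rw [neg_one_smul'] at h1
  exact neg_eq_iff_add_eq_zero.1 h1

theorem key_three {M : Type*} [CommGroup M] (C S K W N : M) (hS1 : S = K⁻¹ * (W * N))
    (hS2 : C * S = W * K) (hS3 : C ^ 2 * S * N = W) (hN : N * N = 1) (hC : C ^ 3 = 1) : N = 1 := by
  subst hS1
  have a1 : C * N = K * K := by
    refine mul_right_cancel (b := W * K⁻¹) ?_
    calc C * N * (W * K⁻¹) = C * (K⁻¹ * (W * N)) := by ac_rfl
      _ = W * K := hS2
      _ = K * K * (W * K⁻¹) := by
        rw [show K * K * (W * K⁻¹) = (K * K⁻¹) * (W * K) by ac_rfl, mul_inv_cancel, one_mul]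
  have a2 : C * C = K := by
    refine mul_right_cancel (b := K⁻¹ * W) ?_
    calc C * C * (K⁻¹ * W) = C ^ 2 * (K⁻¹ * (W * N)) * N := by
          rw [pow_two, show C * C * (K⁻¹ * (W * N)) * N = C * C * (K⁻¹ * W) * (N * N) by ac_rfl, hN,
            mul_one]
      _ = W := hS3
      _ = K * (K⁻¹ * W) := by rw [mul_inv_cancel_left]
  rw [← a2, show C * C * (C * C) = C * (C * C * C) by ac_rfl,
    show C * C * C = C ^ 3 from (pow_three' C).symm, hC] at a1
  exact mul_left_cancel a1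

namespace StepData

variable (h : StepData Z F W r a b) {x0 y0 : V}
include h

theorem inV_zero {w : V} (hw : w ∈ fixOn W a) : InV W a b 0 w :=
  ⟨hw.1, by rw [pow_zero, one_smul, hw.2]⟩

theorem inV_one {w : V} (hw : w ∈ fixOn W a) : InV W a b 1 (b • w) := by
  have := h.b_pow_mem 1 hw
  rwa [pow_one] at this

/-- components of a sum of three eigenvectors -/
theorem comp3 {i0 i1 i2 k : ℕ} (h0 : i0 < r) (h1 : i1 < r) (h2 : i2 < r) (hk : k < r)
    {u0 u1 u2 : V} (hu0 : InV W a b i0 u0) (hu1 : InV W a b i1 u1) (hu2 : InV W a b i2 u2) :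
    proj r a b k (u0 + (u1 + u2)) =
      r • ((if k = i0 then u0 else 0) + ((if k = i1 then u1 else 0) + (if k = i2 then u2 else 0))) := by
  rw [proj_add, proj_add, h.proj_of h0 hk hu0, h.proj_of h1 hk hu1, h.proj_of h2 hk hu2]
  split_ifs <;> simp [smul_add]

theorem eq_zero_of_two {i : ℕ} (hi : i < r) {u : V} (hu : InV W a b i u) {j : ℕ} (hj : j < r)
    (hne : i ≠ j) (hu' : InV W a b j u) : u = 0 := by
  have h1 := h.proj_of hi hi hu
  have h2 := h.proj_of hj hi hu'
  rw [if_pos rfl] at h1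
  rw [if_neg hne, h1] at h2
  exact h.cancel u h2

/-- two decompositions agree componentwise -/
theorem match3 {i0 i1 i2 j0 j1 j2 k : ℕ} (h0 : i0 < r) (h1 : i1 < r) (h2 : i2 < r)
    (g0 : j0 < r) (g1 : j1 < r) (g2 : j2 < r) (hk : k < r)
    {u0 u1 u2 v0 v1 v2 : V} (hu0 : InV W a b i0 u0) (hu1 : InV W a b i1 u1) (hu2 : InV W a b i2 u2)
    (hv0 : InV W a b j0 v0) (hv1 : InV W a b j1 v1) (hv2 : InV W a b j2 v2)
    (he : u0 + (u1 + u2) = v0 + (v1 + v2)) :
    (if k = i0 then u0 else 0) + ((if k = i1 then u1 else 0) + (if k = i2 then u2 else 0)) =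
      (if k = j0 then v0 else 0) + ((if k = j1 then v1 else 0) + (if k = j2 then v2 else 0)) := by
  exact h.comp_eq k (h.comp3 h0 h1 h2 hk hu0 hu1 hu2) _ _ (h.comp3 g0 g1 g2 hk hv0 hv1 hv2) he

theorem inV_zero_vec (i : ℕ) : InV W a b i (0 : V) :=
  ⟨W.zero_mem, by rw [smul_zero, smul_zero]⟩

theorem inV_smul {i : ℕ} {u : V} {z : (AddMonoid.End V)ˣ} (hz : z ∈ Z) (hu : InV W a b i u) :
    InV W a b i (z • u) := by
  refine ⟨h.stable z (h.sys.Z_le hz) u hu.1, ?_⟩
  rw [h.sys.zc hz h.a_mem, hu.2, h.sys.zc hz (h.sys.Z_le (Z.pow_mem h.z_mem i))]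

theorem inV_neg {i : ℕ} {u : V} (hu : InV W a b i u) : InV W a b i (-u) := by
  have := h.inV_smul h.sys.neg_mem hu
  rwa [neg_one_smul'] at this

theorem mem_cen_div {f : (AddMonoid.End V)ˣ} (hf : f ∈ F) {k : ℕ}
    (hk : ⁅a, f⁆ = ⁅a, b⁆ ^ k) : (b ^ k)⁻¹ * f ∈ cen F a := by
  refine mem_cen.2 ⟨F.mul_mem (F.inv_mem (F.pow_mem h.b_mem k)) hf, ?_⟩
  have h1 : ⁅a, b ^ k * ((b ^ k)⁻¹ * f)⁆ = ⁅a, b⁆ ^ k := by rw [mul_inv_cancel_left, hk]
  rw [h.sys.comm_mul h.a_mem (F.pow_mem h.b_mem k) (F.mul_mem (F.inv_mem (F.pow_mem h.b_mem k)) hf),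
    h.sys.comm_pow h.a_mem h.b_mem] at h1
  exact mul_eq_left.1 h1

theorem a_pow_fix (j : ℕ) {w : V} (hw : w ∈ fixOn W a) : a ^ j • w = w := by
  induction j with
  | zero => simp
  | succ j ih => rw [pow_succ, mul_smul, hw.2, ih]

theorem a_pow_b (j : ℕ) {w : V} (hw : w ∈ fixOn W a) : a ^ j • b • w = ⁅a, b⁆ ^ j • b • w := by
  induction j with
  | zero => simp
  | succ j ih =>
    rw [pow_succ, mul_smul, (h.inV_one hw).2, pow_one, h.sys.zc h.z_mem (F.pow_mem h.a_mem j), ih,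
      ← mul_smul, ← pow_succ']

/-- the new first vector -/
noncomputable def newVec (_h : StepData Z F W r a b) (x0 y0 : V) : V :=
  y0 + (b • x0 + if r = 2 then 0 else -(b ^ 2 • x0))

omit h in
theorem third_mem (h : StepData Z F W r a b) (hx : x0 ∈ fixOn W a) :
    InV W a b (2 % r) (if r = 2 then 0 else -(b ^ 2 • x0)) := by
  split_ifs with h2
  · exact h.inV_zero_vec _
  · rw [Nat.mod_eq_of_lt (show 2 < r by have := h.prime.two_le; omega)]
    exact h.inV_neg (h.b_pow_mem 2 hx)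

theorem newVec_mem (hx : x0 ∈ fixOn W a) (hy : y0 ∈ fixOn W a) : newVec h x0 y0 ∈ W :=
  W.add_mem hy.1 (W.add_mem (h.inV_one hx).1 (h.third_mem hx).1)

/-- components of `f • newVec` -/
theorem smul_newVec {f : (AddMonoid.End V)ˣ} (hf : f ∈ F) {k : ℕ} (hk : ⁅a, f⁆ = ⁅a, b⁆ ^ k)
    (hx : x0 ∈ fixOn W a) (hy : y0 ∈ fixOn W a) :
    f • newVec h x0 y0 = f • y0 + (f • b • x0 + f • (if r = 2 then 0 else -(b ^ 2 • x0))) ∧
      InV W a b ((k + 0) % r) (f • y0) ∧ InV W a b ((k + 1) % r) (f • b • x0) ∧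
      InV W a b ((k + 2 % r) % r) (f • (if r = 2 then 0 else -(b ^ 2 • x0))) :=
  ⟨by rw [newVec, smul_add, smul_add], h.shift_mem hf hk (h.inV_zero hy),
    h.shift_mem hf hk (h.inV_one hx), h.shift_mem hf hk (h.third_mem hx)⟩

theorem eigFree (hx : x0 ∈ fixOn W a) (hy : y0 ∈ fixOn W a) (hx0 : x0 ≠ 0) (hy0 : y0 ≠ 0)
    (heig : EigFree Z (cen F a) (fixOn W a) x0) (hesc : Esc Z (cen F a) x0 y0) :
    EigFree Z F W (newVec h x0 y0) := by
  intro f hf z hz hfx
  obtain ⟨k, hkr, hk⟩ := h.shift hf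
  obtain ⟨hfn, hf0, hf1, hf2⟩ := h.smul_newVec hf hk hx hy
  have hr2 := h.prime.two_le
  have hzv : z • newVec h x0 y0 = z • y0 + (z • b • x0 + z • (if r = 2 then 0 else -(b ^ 2 • x0))) := by
    rw [newVec, smul_add, smul_add]
  rw [hfn, hzv] at hfx
  have hm := fun (j : ℕ) (hj : j < r) => h.match3 (k := j) (Nat.mod_lt _ h.prime.pos)
    (Nat.mod_lt _ h.prime.pos) (Nat.mod_lt _ h.prime.pos) h.prime.pos h.prime.one_lt
    (Nat.mod_lt _ h.prime.pos) hj hf0 hf1 hf2 (h.inV_smul hz (h.inV_zero hy))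
    (h.inV_smul hz (h.inV_one hx)) (h.inV_smul hz (h.third_mem hx)) hfx
  rw [add_zero, Nat.mod_eq_of_lt hkr] at hm
  rcases Nat.eq_zero_or_pos k with rfl | hk0
  · have hC : f ∈ cen F a := mem_cen.2 ⟨hf, by rw [hk, pow_zero]⟩
    simp only [zero_add, Nat.mod_eq_of_lt h.prime.one_lt, Nat.mod_mod] at hm
    have e1 : f • b • x0 = z • b • x0 := by
      have := hm 1 h.prime.one_lt
      rcases eq_or_ne r 2 with rfl | h3
      · simpa using this
      · simpa [h3, Nat.mod_eq_of_lt (show 2 < r by omega)] using this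
    have e0 : f • y0 = z • y0 := by
      have := hm 0 h.prime.pos
      rcases eq_or_ne r 2 with rfl | h3
      · simpa using this
      · simpa [h3, Nat.mod_eq_of_lt (show 2 < r by omega)] using this
    have e2 : f • x0 = (⁅f, b⁆⁻¹ * z) • x0 := by
      have hc := h.sys.comm_mem f hf b h.b_mem
      apply MulAction.injective b
      show b • f • x0 = b • _
      rw [mul_smul, h.sys.zc (Z.inv_mem hc) h.b_mem, h.sys.zc hz h.b_mem, ← e1,
        Sys.swap f b, inv_smul_smul]
    obtain ⟨z', hz', hw⟩ := heig f hC _ (Z.mul_mem (Z.inv_mem (h.sys.comm_mem f hf b h.b_mem)) hz) e2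
    obtain ⟨j, hj, hu⟩ := h.kernel hC hz' hw
    have ez : z' = z := h.sys.eq_of_smul_eq hz' hz hy0 (by
      rw [← e0, hu y0 hy.1, h.a_pow_fix j hy])
    subst ez
    have hbx : b • x0 ≠ 0 := fun e => hx0 ((smul_eq_zero_iff_eq _).1 e)
    have hj0 : j = 0 := by
      rw [hu _ (h.inV_one hx).1, h.a_pow_b j hx] at e1
      have := h.sys.eig _ (Z.pow_mem h.z_mem j) _ hbx (MulAction.injective z' e1)
      exact h.z_pow_inj hj h.prime.pos (by rw [this, pow_zero])
    exact ⟨z', hz, fun u hu' => by rw [hu u hu', hj0, pow_zero, one_smul]⟩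
  · exfalso
    obtain ⟨g, hgC, hfg⟩ : ∃ g ∈ cen F a, f = b ^ k * g :=
      ⟨_, h.mem_cen_div hf hk, (mul_inv_cancel_left _ _).symm⟩
    have hgF : g ∈ F := (mem_cen.1 hgC).1
    have hmk := hm k hkr
    -- the scalar times `x0`
    rcases eq_or_ne r 2 with rfl | hr3
    · obtain rfl : k = 1 := by omega
      have e1 : f • y0 = z • b • x0 := by simpa using hmk
      have e0 : f • b • x0 = z • y0 := by simpa using hm 0 (by omega)
      have g1 : g • y0 = z • x0 := by
        apply MulAction.injective b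
        show b • g • y0 = b • z • x0
        rw [h.sys.zc hz h.b_mem, ← e1, hfg, pow_one, mul_smul]
      rcases hesc with hI | ⟨κ, hκ, rfl, h4, -⟩
      · refine hI g⁻¹ ((cen F a).inv_mem hgC) z⁻¹ (Z.inv_mem hz) ?_
        rw [inv_smul_eq_iff, h.sys.zc (Z.inv_mem hz) hgF, g1, inv_smul_smul]
      · have g2 : g • x0 = (κ⁻¹ * z) • x0 := by
          rw [mul_smul, ← g1, h.sys.zc hκ hgF, inv_smul_smul]
        set c := ⁅g, b⁆ with hc
        have hcZ : c ∈ Z := h.sys.comm_mem g hgF b h.b_mem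
        have h5 : (c * (κ⁻¹ * z)) • x0 = (z * κ) • x0 := by
          rw [mul_smul z κ, ← e0, hfg, pow_one, mul_smul b g, Sys.swap g b, ← hc, g2,
            h.sys.zc hcZ h.b_mem, h.sys.zc (Z.mul_mem (Z.inv_mem hκ) hz) h.b_mem,
            h.sys.zc (Z.mul_mem (Z.inv_mem hκ) hz) h.b_mem, ← mul_smul b b, ← pow_two, h.b_pow,
            one_smul, ← mul_smul]
        have h6 := h.sys.eq_of_smul_eq (Z.mul_mem hcZ (Z.mul_mem (Z.inv_mem hκ) hz))
          (Z.mul_mem hz hκ) hx0 h5
        have hcom : Commute κ⁻¹ z := (h.sys.cent z (h.sys.Z_le hz) κ⁻¹ (Z.inv_mem hκ)).symm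
        have h7 : c * κ⁻¹ = κ := by
          have hzk : z * κ = κ * z := h.sys.cent z (h.sys.Z_le hz) κ hκ
          rw [hzk, ← mul_assoc] at h6
          exact mul_right_cancel h6
        have h8 : c ^ 2 = 1 := by rw [hc, ← h.sys.comm_pow hgF h.b_mem, h.b_pow, commutatorElement_one_right]
        refine h4 ?_
        have h9 : c = κ ^ 2 := by
          rw [pow_two]
          calc c = c * κ⁻¹ * κ := by rw [inv_mul_cancel_right]
            _ = κ * κ := by rw [h7]
        rw [show (4 : ℕ) = 2 * 2 from rfl, pow_mul, ← h9, h8]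
    · have hr : 2 < r := by omega
      simp only [hr3, if_false, Nat.mod_eq_of_lt hr] at hm hmk
      by_cases hk3 : 3 ≤ k
      · have h0 : f • y0 = 0 := by
          have n1 : k ≠ (k + 1) % r := by
            intro e
            rcases Nat.lt_or_ge (k + 1) r with hl | hl
            · rw [Nat.mod_eq_of_lt hl] at e; omega
            · rw [show k + 1 = r by omega, Nat.mod_self] at e; omega
          have n2 : k ≠ (k + 2) % r := by
            intro e
            rcases Nat.lt_or_ge (k + 2) r with hl | hl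
            · rw [Nat.mod_eq_of_lt hl] at e; omega
            · rw [Nat.mod_eq_sub_mod hl, Nat.mod_eq_of_lt (by omega)] at e; omega
          simpa [n1, n2, show k ≠ 0 by omega, show k ≠ 1 by omega, show k ≠ 2 by omega] using hmk
        exact hy0 ((smul_eq_zero_iff_eq _).1 h0)
      have hk12 : k = 1 ∨ k = 2 := by omega
      by_cases hr5 : 5 ≤ r
      · -- a component outside the support
        rcases hk12 with rfl | rfl
        · have h0 : f • -(b ^ 2 • x0) = 0 := by
            have := hm 3 (by omega)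
            simpa [Nat.mod_eq_of_lt (show 1 + 2 < r by omega), Nat.mod_eq_of_lt (show 1 + 1 < r by omega)]
              using this
          rw [smul_eq_zero_iff_eq, neg_eq_zero, smul_eq_zero_iff_eq] at h0
          exact hx0 h0
        · have h0 : f • b • x0 = 0 := by
            have := hm 3 (by omega)
            simpa [Nat.mod_eq_of_lt (show 2 + 1 < r by omega), Nat.mod_eq_of_lt (show 2 + 2 < r by omega)]
              using this
          rw [smul_eq_zero_iff_eq, smul_eq_zero_iff_eq] at h0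
          exact hx0 h0
      have hr33 : r = 3 := by
        rcases Nat.lt_or_ge r 4 with h4' | h4'
        · omega
        · exfalso
          have : r = 4 := by omega
          exact absurd (this ▸ h.prime) (by norm_num)
      subst hr33
      set c := ⁅g, b⁆ with hc
      have hcZ : c ∈ Z := h.sys.comm_mem g hgF b h.b_mem
      have hc3 : c ^ 3 = 1 := by rw [hc, ← h.sys.comm_pow hgF h.b_mem, h.b_pow, commutatorElement_one_right]
      have hneg := h.sys.neg_mem
      rcases hk12 with rfl | rfl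
      · have e1 : f • y0 = z • b • x0 := by simpa using hm 1 (by omega)
        have e2 : f • b • x0 = z • -(b ^ 2 • x0) := by simpa using hm 2 (by omega)
        have g1 : g • y0 = z • x0 := by
          apply MulAction.injective b
          show b • g • y0 = b • z • x0
          rw [h.sys.zc hz h.b_mem, ← e1, hfg, pow_one, mul_smul]
        rcases hesc with hI | ⟨κ, hκ, rfl, -, h3⟩
        · refine hI g⁻¹ ((cen F a).inv_mem hgC) z⁻¹ (Z.inv_mem hz) ?_
          rw [inv_smul_eq_iff, h.sys.zc (Z.inv_mem hz) hgF, g1, inv_smul_smul]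
        · have hs := Z.mul_mem (Z.inv_mem hκ) hz
          have g2 : g • x0 = (κ⁻¹ * z) • x0 := by
            rw [mul_smul, ← g1, h.sys.zc hκ hgF, inv_smul_smul]
          have h5 : (c * (κ⁻¹ * z)) • x0 = (z * -1) • x0 := by
            apply MulAction.injective (b ^ 2)
            show b ^ 2 • _ = b ^ 2 • _
            rw [mul_smul z, h.sys.zc hz (F.pow_mem h.b_mem 2), neg_one_smul', smul_neg, ← e2, hfg,
              pow_one, mul_smul b g, Sys.swap g b, ← hc, g2, h.sys.zc hcZ h.b_mem,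
              h.sys.zc hs h.b_mem, h.sys.zc hs h.b_mem, ← mul_smul b b, ← pow_two,
              mul_smul c, h.sys.zc hcZ (F.pow_mem h.b_mem 2), h.sys.zc hs (F.pow_mem h.b_mem 2)]
          have h6 := h.sys.eq_of_smul_eq (Z.mul_mem hcZ hs) (Z.mul_mem hz hneg) hx0 h5
          refine h3 ?_
          have hzk : z * -1 = -1 * z := h.sys.cent z (h.sys.Z_le hz) _ hneg
          rw [hzk, ← mul_assoc] at h6
          have h7 : c = -κ := by
            have := mul_right_cancel h6
            calc c = c * κ⁻¹ * κ := by rw [inv_mul_cancel_right]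
              _ = -κ := by rw [this, neg_one_mul]
          have h8 : (-κ) ^ 3 = 1 := h7 ▸ hc3
          rw [Odd.neg_pow (by decide)] at h8
          rw [← neg_neg (κ ^ 3), h8]
      · have e1 : f • y0 = z • -(b ^ 2 • x0) := by simpa using hm 2 (by omega)
        have e0 : f • b • x0 = z • y0 := by simpa using hm 0 (by omega)
        have e2 : f • -(b ^ 2 • x0) = z • b • x0 := by simpa using hm 1 (by omega)
        have hzn := Z.mul_mem hz hneg
        have g1 : g • y0 = (z * -1) • x0 := by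
          apply MulAction.injective (b ^ 2)
          show b ^ 2 • g • y0 = b ^ 2 • _
          rw [h.sys.zc hzn (F.pow_mem h.b_mem 2), mul_smul z, neg_one_smul', ← e1, hfg, mul_smul]
        rcases hesc with hI | ⟨κ, hκ, rfl, -, h3⟩
        · refine hI g⁻¹ ((cen F a).inv_mem hgC) (z * -1)⁻¹ (Z.inv_mem hzn) ?_
          rw [inv_smul_eq_iff, h.sys.zc (Z.inv_mem hzn) hgF, g1, inv_smul_smul]
        · have hs := Z.mul_mem (Z.inv_mem hκ) hzn
          set s := κ⁻¹ * (z * -1) with hsdef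
          have g2 : g • x0 = s • x0 := by
            rw [hsdef, mul_smul, ← g1, h.sys.zc hκ hgF, inv_smul_smul]
          have hb3 : ∀ v : V, b ^ 2 • b • v = v := fun v => by
            rw [← mul_smul, ← pow_succ, h.b_pow, one_smul]
          have h5 : (c * s) • x0 = (z * κ) • x0 := by
            rw [mul_smul z κ, ← e0, hfg, mul_smul (b ^ 2) g, Sys.swap g b, ← hc, g2,
              h.sys.zc hcZ (F.pow_mem h.b_mem 2), h.sys.zc hs h.b_mem,
              h.sys.zc hs (F.pow_mem h.b_mem 2), hb3, mul_smul]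
          have h6 := h.sys.eq_of_smul_eq (Z.mul_mem hcZ hs) (Z.mul_mem hz hκ) hx0 h5
          have h9 : (c ^ 2 * s * -1) • x0 = z • x0 := by
            apply MulAction.injective b
            show b • _ = b • _
            rw [h.sys.zc hz h.b_mem, ← e2, hfg, mul_smul (b ^ 2) g, smul_neg g, smul_neg,
              h.sys.swap_pow hgF h.b_mem 2, ← hc, g2, h.sys.zc (Z.pow_mem hcZ 2) (F.pow_mem h.b_mem 2),
              h.sys.zc hs (F.pow_mem h.b_mem 2), h.sys.zc hs (F.pow_mem h.b_mem 2),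
              mul_smul (c ^ 2 * s), neg_one_smul', smul_neg, smul_neg, mul_smul (c ^ 2)]
            rw [h.sys.zc (Z.pow_mem hcZ 2) h.b_mem, h.sys.zc hs h.b_mem]
            congr 3
            rw [← mul_smul (b ^ 2), ← pow_add, show 2 + 2 = 3 + 1 from rfl, pow_add, h.b_pow, one_mul,
              pow_one]
          have h10 := h.sys.eq_of_smul_eq (Z.mul_mem (Z.mul_mem (Z.pow_mem hcZ 2) hs) hneg) hz hx0 h9
          -- scalars commute
          have hN : (⟨-1, hneg⟩ : Z) = 1 :=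
            @key_three Z (@IsCyclic.commGroup Z _ h.sys.cyclic) ⟨c, hcZ⟩ ⟨s, hs⟩ ⟨κ, hκ⟩ ⟨z, hz⟩ ⟨-1, hneg⟩ (Subtype.ext hsdef) (Subtype.ext h6)
              (Subtype.ext h10) (Subtype.ext (by simp)) (Subtype.ext (by simpa using hc3))
          exact neg_one_ne h.sys hx0 (congrArg Subtype.val hN)

theorem indep (hx : x0 ∈ fixOn W a) (hy : y0 ∈ fixOn W a) (hx0 : x0 ≠ 0) (hy0 : y0 ≠ 0) :
    ∀ f ∈ F, ∀ z ∈ Z, f • newVec h x0 y0 ≠ z • x0 := by
  intro f hf z hz he
  obtain ⟨k, hkr, hk⟩ := h.shift hf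
  obtain ⟨hfn, hf0, hf1, hf2⟩ := h.smul_newVec hf hk hx hy
  have hr2 := h.prime.two_le
  have hz0 : InV W a b 0 (z • x0) := h.inV_smul hz (h.inV_zero hx)
  rw [hfn] at he
  have he' : f • y0 + (f • b • x0 + f • (if r = 2 then 0 else -(b ^ 2 • x0))) =
      z • x0 + ((0 : V) + 0) := by rw [add_zero, add_zero]; exact he
  have hm := fun (j : ℕ) (hj : j < r) => h.match3 (k := j) (Nat.mod_lt _ h.prime.pos)
    (Nat.mod_lt _ h.prime.pos) (Nat.mod_lt _ h.prime.pos) h.prime.pos h.prime.pos h.prime.pos hj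
    hf0 hf1 hf2 hz0 (h.inV_zero_vec 0) (h.inV_zero_vec 0) he'
  rw [add_zero, Nat.mod_eq_of_lt hkr] at hm
  rcases Nat.eq_zero_or_pos k with rfl | hk0
  · have h1 : f • b • x0 = 0 := by
      have := hm 1 h.prime.one_lt
      rcases eq_or_ne r 2 with rfl | h3
      · simpa using this
      · simpa [h3, Nat.mod_eq_of_lt h.prime.one_lt, Nat.mod_eq_of_lt (show 2 < r by omega)] using this
    rw [smul_eq_zero_iff_eq, smul_eq_zero_iff_eq] at h1
    exact hx0 h1
  · have hmk := hm k hkr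
    have n1 : k ≠ (k + 1) % r := by
      intro e
      rcases Nat.lt_or_ge (k + 1) r with hl | hl
      · rw [Nat.mod_eq_of_lt hl] at e; omega
      · rw [show k + 1 = r by omega, Nat.mod_self] at e; omega
    have n2 : r ≠ 2 → k ≠ (k + 2 % r) % r := by
      intro h3 e
      rw [Nat.mod_eq_of_lt (show 2 < r by omega)] at e
      rcases Nat.lt_or_ge (k + 2) r with hl | hl
      · rw [Nat.mod_eq_of_lt hl] at e; omega
      · rw [Nat.mod_eq_sub_mod hl, Nat.mod_eq_of_lt (by omega)] at e; omega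
    have h1 : f • y0 = 0 := by
      rcases eq_or_ne r 2 with rfl | h3
      · simpa [n1, show k ≠ 0 by omega] using hmk
      · have n2' := n2 h3
        rw [Nat.mod_eq_of_lt (show 2 < r by omega)] at n2' hmk
        simpa [n1, n2', h3, show k ≠ 0 by omega] using hmk
    exact hy0 ((smul_eq_zero_iff_eq _).1 h1)

theorem conj_a_fix (hx : x0 ∈ fixOn W a) (hx0 : x0 ≠ 0) (heig : EigFree Z (cen F a) (fixOn W a) x0)
    {g : (AddMonoid.End V)ˣ} (hgF : ∀ f ∈ F, g * f * g⁻¹ ∈ F) (hgW : ∀ w ∈ W, g • w ∈ W)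
    (hgx : g • x0 = x0) :
    g * a * g⁻¹ ∈ cen F a ∧ ∃ k, k < r ∧ k ≠ 0 ∧ ∀ u ∈ W, (g * a * g⁻¹) • u = a ^ k • u := by
  have hfix : (g * a * g⁻¹) • x0 = x0 := by
    rw [← hgx, conj_smul, hx.2]
  obtain ⟨s, hs, hsh⟩ := h.shift (hgF a h.a_mem)
  have hs0 : s = 0 := by
    by_contra hne
    have h1 := h.shift_mem (hgF a h.a_mem) hsh (h.inV_zero hx)
    rw [hfix, add_zero, Nat.mod_eq_of_lt hs] at h1
    exact hx0 (h.eq_zero_of_two hs h1 h.prime.pos hne (h.inV_zero hx))
  have hC : g * a * g⁻¹ ∈ cen F a := mem_cen.2 ⟨hgF a h.a_mem, by rw [hsh, hs0, pow_zero]⟩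
  obtain ⟨z', hz', hw⟩ := heig _ hC 1 Z.one_mem (by rw [hfix, one_smul])
  have hz1 : z' = 1 := h.sys.eig z' hz' x0 hx0 (by rw [← hw x0 hx, hfix])
  obtain ⟨k, hk, hu⟩ := h.kernel hC hz' hw
  refine ⟨hC, k, hk, fun hk0 => ?_, fun u hu' => by rw [hu u hu', hz1, one_smul]⟩
  -- otherwise `a` would be trivial on `W`
  have h1 : ∀ u ∈ W, a • u = u := by
    intro u hu'
    apply MulAction.injective g
    show g • a • u = g • u
    rw [← conj_smul, hu _ (hgW u hu'), hk0, pow_zero, one_smul, hz1, one_smul]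
  have h2 := h1 _ (h.inV_one hx).1
  rw [(h.inV_one hx).2, pow_one] at h2
  exact h.ne (h.sys.eig _ h.z_mem _ (fun e => hx0 ((smul_eq_zero_iff_eq _).1 e)) h2)

theorem rigid (hx : x0 ∈ fixOn W a) (hy : y0 ∈ fixOn W a) (hx0 : x0 ≠ 0)
    (heig : EigFree Z (cen F a) (fixOn W a) x0) (hrig : Rigid Z (cen F a) (fixOn W a) x0 y0) :
    Rigid Z F W (newVec h x0 y0) x0 := by
  intro g hgZ hgF hgW hgn hgx
  obtain ⟨hC, k, hkr, hk0, hu⟩ := h.conj_a_fix hx hx0 heig hgF hgW hgx
  have hcop : k.Coprime r := (Nat.coprime_of_lt_prime hk0 hkr h.prime).symm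
  have hbx : b • x0 ≠ 0 := fun e => hx0 ((smul_eq_zero_iff_eq _).1 e)
  -- `g` preserves the fixed space of `a`
  have hgfix : ∀ w ∈ fixOn W a, g • w ∈ fixOn W a := by
    intro w hw
    refine ⟨hgW w hw.1, ?_⟩
    have h1 : a ^ k • g • w = g • w := by rw [← hu _ (hgW w hw.1), conj_smul, hw.2]
    obtain ⟨m, -, hm⟩ := Nat.exists_mul_mod_eq_one_of_coprime hcop h.prime.one_lt
    have h2 : ∀ n : ℕ, (a ^ k) ^ n • g • w = g • w := fun n => by
      induction n with
      | zero => simp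
      | succ n ih => rw [pow_succ, mul_smul, h1, ih]
    have h3 : (a ^ k) ^ m = a := by
      rw [← pow_mul, pow_eq_pow_mod _ h.a_pow, hm, pow_one]
    have := h2 m
    rwa [h3] at this
  -- `g` normalises the centraliser of `a`
  have hgC : ∀ f ∈ cen F a, g * f * g⁻¹ ∈ cen F a := by
    intro f hf
    obtain ⟨hfF, hfa⟩ := mem_cen.1 hf
    refine mem_cen.2 ⟨hgF f hfF, ?_⟩
    obtain ⟨t, ht, hts⟩ := h.shift (hgF f hfF)
    have hwW := (h.inV_one hx).1
    have e2 : (g * a * g⁻¹) • (g * f * g⁻¹) • g • b • x0 = (g * f * g⁻¹) • (g * a * g⁻¹) • g • b • x0 := by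
      rw [← mul_smul (g * a * g⁻¹) (g * f * g⁻¹), ← mul_smul (g * f * g⁻¹) (g * a * g⁻¹)]
      congr 1
      rw [show g * a * g⁻¹ * (g * f * g⁻¹) = g * (a * f) * g⁻¹ by group,
        show g * f * g⁻¹ * (g * a * g⁻¹) = g * (f * a) * g⁻¹ by group,
        commutatorElement_eq_one_iff_mul_comm.1 hfa]
    rw [hu _ (h.stable _ (hgF f hfF) _ (hgW _ hwW)), hu _ (hgW _ hwW),
      Sys.swap (a ^ k), ← commutatorElement_inv (g * f * g⁻¹), h.sys.comm_pow (hgF f hfF) h.a_mem,
      ← inv_pow, commutatorElement_inv, hts] at e2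
    have h3 := h.sys.eig _ (Z.pow_mem (Z.pow_mem h.z_mem t) k) _
      (fun e => hx0 (by
        rwa [smul_eq_zero_iff_eq, smul_eq_zero_iff_eq, smul_eq_zero_iff_eq, smul_eq_zero_iff_eq] at e))
      e2
    rw [← pow_mul, ← orderOf_dvd_iff_pow_eq_one, h.z_order] at h3
    rcases (h.prime.dvd_mul).1 h3 with h4 | h4
    · rw [hts, Nat.eq_zero_of_dvd_of_lt h4 ht, pow_zero]
    · exact absurd (Nat.eq_zero_of_dvd_of_lt h4 hkr) hk0
  -- the shift of the conjugate of `b`
  set b' := g * b * g⁻¹ with hb'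
  have hb'F : b' ∈ F := hgF b h.b_mem
  obtain ⟨s, hsr, hs⟩ := h.shift hb'F
  have hs0 : s ≠ 0 := by
    intro e
    rw [e, pow_zero, commutatorElement_eq_one_iff_mul_comm] at hs
    have e2 : (g * a * g⁻¹) • b' • g • b • x0 = b' • (g * a * g⁻¹) • g • b • x0 := by
      rw [hu _ (h.stable _ hb'F _ (hgW _ (h.inV_one hx).1)), hu _ (hgW _ (h.inV_one hx).1),
        ← mul_smul (a ^ k) b', ← mul_smul b' (a ^ k), (Commute.pow_left (show Commute a b' from hs) k).eq]
    rw [hb', conj_smul, conj_smul, conj_smul, conj_smul, smul_left_cancel_iff,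
      Sys.swap a b] at e2
    exact h.ne (h.sys.eig _ h.z_mem _ (fun e => hx0 (by
      rwa [smul_eq_zero_iff_eq, smul_eq_zero_iff_eq, smul_eq_zero_iff_eq] at e)) e2)
  have hb'r : b' ^ r = 1 := by
    rw [hb', conj_pow, h.b_pow, mul_one, mul_inv_cancel]
  -- images of the summands
  have hr2 := h.prime.two_le
  have hgb : ∀ v : V, g • b • v = b' • g • v := fun v => by rw [hb', conj_smul]
  have hgy0 : InV W a b 0 (g • y0) := h.inV_zero (hgfix _ hy)
  have hgbx : InV W a b s (b' • x0) := by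
    have := h.shift_mem hb'F hs (h.inV_zero hx)
    rwa [add_zero, Nat.mod_eq_of_lt hsr] at this
  have hgb2 : InV W a b ((s + s) % r) (if r = 2 then (0 : V) else -(b' • b' • x0)) := by
    split_ifs
    · exact h.inV_zero_vec _
    · exact h.inV_neg (h.shift_mem hb'F hs hgbx)
  have hgn' : g • newVec h x0 y0 = g • y0 + (b' • x0 + if r = 2 then (0 : V) else -(b' • b' • x0)) := by
    rw [newVec, smul_add, smul_add, hgb, hgx]
    congr 2
    split_ifs
    · rw [smul_zero]
    · rw [smul_neg, pow_two b, mul_smul, hgb, hgb, hgx]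
  rw [hgn', newVec] at hgn
  have hm := fun (j : ℕ) (hj : j < r) => h.match3 (k := j) h.prime.pos hsr (Nat.mod_lt _ h.prime.pos)
    h.prime.pos h.prime.one_lt (Nat.mod_lt _ h.prime.pos) hj hgy0 hgbx hgb2 (h.inV_zero hy)
    (h.inV_one hx) (h.third_mem hx) hgn
  have hss : (s + s) % r ≠ s := by
    intro e
    rcases Nat.lt_or_ge (s + s) r with hl | hl
    · rw [Nat.mod_eq_of_lt hl] at e; omega
    · rw [Nat.mod_eq_sub_mod hl, Nat.mod_eq_of_lt (by omega)] at e; omega
  have hgy : g • y0 = y0 := by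
    have h0 := hm 0 h.prime.pos
    rcases eq_or_ne r 2 with rfl | h3
    · simpa [Ne.symm hs0] using h0
    · have h5 : (s + s) % r ≠ 0 := by
        intro e
        rcases Nat.lt_or_ge (s + s) r with hl | hl
        · rw [Nat.mod_eq_of_lt hl] at e; omega
        · rw [Nat.mod_eq_sub_mod hl, Nat.mod_eq_of_lt (by omega)] at e
          have : Even r := ⟨s, by omega⟩
          rw [h.prime.even_iff] at this
          exact h3 this
      simpa [Ne.symm hs0, Ne.symm h5, h3, Nat.mod_eq_of_lt (show 2 < r by omega)] using h0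
  have hW' := hrig g hgZ hgC hgfix hgx hgy
  -- scalars commute with `g`
  have hgz : ∀ z ∈ Z, ∀ v : V, g • z • v = z • g • v := by
    intro z hz v
    have h1 := hW' z (mem_cen.2 ⟨h.sys.Z_le hz, commutatorElement_eq_one_iff_mul_comm.2
      (h.sys.cent a h.a_mem z hz)⟩) x0 hx
    rw [hgx, ← conj_smul, hgx] at h1
    have h2 := h.sys.eq_of_smul_eq (hgZ z hz) hz hx0 h1
    rw [← conj_smul, h2]
  -- the conjugate of `b` agrees with `b`
  obtain ⟨hs1, hb1⟩ : s = 1 ∧ b' • x0 = b • x0 := by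
    have hms := hm s hsr
    rcases eq_or_ne r 2 with rfl | h3
    · obtain rfl : s = 1 := by omega
      exact ⟨rfl, by simpa using hms⟩
    have hr : 2 < r := by omega
    simp only [h3, if_false, Nat.mod_eq_of_lt hr, Ne.symm hss, if_true, hs0, zero_add, add_zero]
      at hms
    rcases eq_or_ne s 1 with rfl | hs1
    · exact ⟨rfl, by simpa using hms⟩
    exfalso
    rcases eq_or_ne s 2 with rfl | hs2
    swap
    · simp [hs1, hs2, smul_eq_zero_iff_eq, hx0] at hms
    have hm1 := hm 1 h.prime.one_lt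
    by_cases h4 : (2 + 2) % r = 1
    swap
    · simp [h3, Nat.mod_eq_of_lt hr, Ne.symm h4] at hm1
      exact hbx hm1.symm
    obtain rfl : r = 3 := by
      rcases Nat.lt_or_ge 4 r with hl | hl
      · rw [Nat.mod_eq_of_lt (by omega)] at h4; omega
      · rcases Nat.lt_or_ge r 4 with h5 | h5
        · omega
        · obtain rfl : r = 4 := by omega
          exact absurd h.prime (by norm_num)
    have e1 : b' • x0 = -(b ^ 2 • x0) := by simpa using hms
    have e2 : -(b' • b' • x0) = b • x0 := by simpa using hm1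
    have hc := h.sys.comm_mem b' hb'F b h.b_mem
    have e3 : b' • b • x0 = -(⁅b', b⁆ • x0) := by
      rw [Sys.swap, e1, smul_neg, ← mul_smul b, ← pow_succ', h.b_pow, one_smul, smul_neg]
    have e4 : b' • b' • b' • x0 = x0 := by
      rw [← mul_smul, ← mul_smul, ← pow_two, ← pow_succ, hb'r, one_smul]
    have e5 : b' • b' • b' • x0 = ⁅b', b⁆ • x0 := by
      rw [show b' • b' • x0 = -(b • x0) by rw [← e2, neg_neg], smul_neg, e3, neg_neg]
    have e6 : ⁅b', b⁆ = 1 := h.sys.eig _ hc x0 hx0 (e5.symm.trans e4)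
    -- then `b' • b • x0 = -x0`, but also `b' • b' • x0 = b ^ 4 • x0`
    rw [e6, one_smul] at e3
    have e7 : b' • b' • x0 = b • x0 := by
      have hc2 : ⁅b', b ^ 2⁆ = 1 := by rw [h.sys.comm_pow hb'F h.b_mem, e6, one_pow]
      conv_lhs => rw [e1, smul_neg, Sys.swap, hc2, one_smul, e1, smul_neg, neg_neg, ← mul_smul,
        ← pow_add, show 2 + 2 = 3 + 1 from rfl, pow_add, h.b_pow, one_mul, pow_one]
    rw [e7] at e2
    exact hbx (h.sys.two _ (neg_eq_iff_add_eq_zero.1 e2))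
  subst hs1
  have hd : (b ^ 1)⁻¹ * b' ∈ cen F a := h.mem_cen_div hb'F hs
  rw [pow_one] at hd
  have hdx : (b⁻¹ * b') • x0 = x0 := by rw [mul_smul, hb1, inv_smul_smul]
  obtain ⟨zd, hzd, hwd⟩ := heig _ hd 1 Z.one_mem (by rw [hdx, one_smul])
  have hzd1 : zd = 1 := h.sys.eig zd hzd x0 hx0 (by rw [← hwd x0 hx, hdx])
  obtain ⟨e, her, hue⟩ := h.kernel hd hzd hwd
  have he0 : e = 0 := by
    have h2 : b' • b' • x0 = ⁅a, b⁆ ^ e • b • b • x0 := by
      have := hue _ (h.inV_one hx).1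
      rw [hzd1, one_smul, h.a_pow_b e hx, mul_smul, inv_smul_eq_iff,
        h.sys.zc (Z.pow_mem h.z_mem e) h.b_mem] at this
      rw [hb1, this]
    have hne : b • b • x0 ≠ 0 := fun e' => hbx ((smul_eq_zero_iff_eq _).1 e')
    refine h.z_pow_inj her h.prime.pos ?_
    rw [pow_zero]
    refine h.sys.eig _ (Z.pow_mem h.z_mem e) _ hne ?_
    rcases eq_or_ne r 2 with rfl | h3
    · rw [← h2, ← mul_smul, ← pow_two, hb'r, ← mul_smul b b, ← pow_two, h.b_pow]
    · have hm2 := hm 2 (by omega)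
      simp [h3, Nat.mod_eq_of_lt (show 1 + 1 < r by omega), Nat.mod_eq_of_lt (show 2 < r by omega)]
        at hm2
      rw [← h2, hm2, pow_two, mul_smul]
  have hbW : ∀ u ∈ W, b' • u = b • u := by
    intro u hu'
    have := hue u hu'
    rwa [he0, pow_zero, hzd1, one_smul, one_smul, mul_smul, inv_smul_eq_iff] at this
  have hgbW : ∀ u ∈ W, g • b • u = b • g • u := fun u hu' => by rw [hgb, hbW _ (hgW u hu')]
  have hgbk : ∀ (i : ℕ), ∀ u ∈ W, g • b ^ i • u = b ^ i • g • u := by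
    intro i
    induction i with
    | zero => simp
    | succ i ih =>
      intro u hu'
      rw [pow_succ, mul_smul, mul_smul, ih _ (h.stable b h.b_mem u hu'), hgbW u hu']
  -- elements commuting with `a`
  have hcomm : ∀ f ∈ cen F a, ∀ u ∈ W, g • f • u = f • g • u := by
    intro f hf u hu'
    obtain ⟨hfF, -⟩ := mem_cen.1 hf
    apply MulAction.injective g⁻¹
    show g⁻¹ • g • f • u = g⁻¹ • f • g • u
    rw [inv_smul_smul, ← mul_smul, ← mul_smul]
    refine h.ext_W (fun i _ w hw => ?_) hu'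
    rw [mul_smul, mul_smul, eq_inv_smul_iff, h.sys.swap_pow hfF h.b_mem,
      hgz _ (Z.pow_mem (h.sys.comm_mem f hfF b h.b_mem) i),
      hgbk i _ (h.stable f hfF w hw.1), hgbk i w hw.1, hW' f hf w hw, h.sys.swap_pow hfF h.b_mem]
  intro f hf u hu'
  obtain ⟨t, -, ht⟩ := h.shift hf
  have hq := h.mem_cen_div hf ht
  have hfq : f = b ^ t * ((b ^ t)⁻¹ * f) := (mul_inv_cancel_left _ _).symm
  conv_lhs => rw [hfq, mul_smul]
  conv_rhs => rw [hfq, mul_smul]
  rw [hgbk t _ (h.stable _ (mem_cen.1 hq).1 u hu'), hcomm _ hq u hu']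

/-- the step -/
theorem good (hx : x0 ∈ fixOn W a) (hy : y0 ∈ fixOn W a) (hx0 : x0 ≠ 0) (hy0 : y0 ≠ 0)
    (heig : EigFree Z (cen F a) (fixOn W a) x0) (hesc : Esc Z (cen F a) x0 y0)
    (hrig : Rigid Z (cen F a) (fixOn W a) x0 y0) : GoodOn Z F W := by
  refine ⟨newVec h x0 y0, x0, h.newVec_mem hx hy, hx.1, ?_, hx0, h.eigFree hx hy hx0 hy0 heig hesc,
    Or.inl (h.indep hx hy hx0 hy0), h.rigid hx hy hx0 heig hrig⟩
  intro e
  have h1 := h.match3 (k := 1) h.prime.pos h.prime.one_lt (Nat.mod_lt _ h.prime.pos) h.prime.pos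
    h.prime.pos h.prime.pos h.prime.one_lt (h.inV_zero hy) (h.inV_one hx) (h.third_mem hx)
    (h.inV_zero_vec 0) (h.inV_zero_vec 0) (h.inV_zero_vec 0)
    (show newVec h x0 y0 = (0 : V) + ((0 : V) + 0) by rw [e, add_zero, add_zero])
  rcases eq_or_ne r 2 with rfl | h3
  · simp [smul_eq_zero_iff_eq, hx0] at h1
  · have : 2 < r := by have := h.prime.two_le; omega
    simp [Nat.mod_eq_of_lt this, smul_eq_zero_iff_eq, hx0] at h1

end StepData

theorem goodOn_step (h : StepData Z F W r a b) (hg : GoodOn Z (cen F a) (fixOn W a)) :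
    GoodOn Z F W := by
  obtain ⟨x, y, hx, hy, hx0, hy0, he, hs, hr⟩ := hg
  exact h.good hx hy hx0 hy0 he hs hr

end Cfsg.Agent.DP71
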