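import Cfsg.Agent.Lib.DolfiPair71.ThreeTwo

/-!
# Pairs in the frame case over the field with three elements
-/

set_option autoImplicit false
set_option linter.unusedSectionVars false
set_option linter.style.haveILetI false

namespace Cfsg.Agent.DP71

open Cfsg.Agent.Lib.BaseThree
open Three
open Cfsg.Agent.OP71 (fx fixSub mem_fixSub)

namespace Three

theorem four_sq_le : ∀ m, 6 ≤ m → 2 ^ (16 * m + 2) ≤ 3 ^ 2 ^ m := by
  intro m hm
  induction m, hm using Nat.le_induction with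
  | base => norm_num
  | succ m hm ih =>
    calc 2 ^ (16 * (m + 1) + 2) ≤ 2 ^ (2 * (16 * m + 2)) :=
          Nat.pow_le_pow_right (by norm_num) (by omega)
      _ = (2 ^ (16 * m + 2)) ^ 2 := by rw [← pow_mul, mul_comm]
      _ ≤ (3 ^ 2 ^ m) ^ 2 := Nat.pow_le_pow_left ih 2
      _ = 3 ^ 2 ^ (m + 1) := by rw [← pow_mul, pow_succ]

variable {V : Type} [AddCommGroup V] [Finite V] [Nontrivial V]
  {G Z F : Subgroup (AddMonoid.End V)ˣ} {K : Subring (AddMonoid.End V)}
  {W : Type} [AddCommGroup W] [Finite W]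

/-- The coarse count with all elements other than the scalars exceptional. -/
theorem pair_coarse (c : Ctx G Z F K) (Q : Quo G Z F c.hF.norm W) (k V0 : ℕ)
    (hG : Nat.card G ≤ 2 * k) (hV0 : V0 ≤ Nat.card V) (hLV : 3 * k < V0)
    (hnum : k ^ 2 * V0 < (V0 - 3 * k) ^ 2) : HasPair G := by
  refine pair_of_count c
    (fun g => (g : (AddMonoid.End V)ˣ) ≠ 1 ∧ (g : (AddMonoid.End V)ˣ) ≠ -1) k (3 * k) V0 ?_ ?_ ?_ ?_
    (by omega) hV0 hLV hnum
  · intro g hg1 hg
    have h1 : (g : (AddMonoid.End V)ˣ) ≠ 1 := fun h => hg1 (Subtype.ext h)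
    push Not at hg
    rw [hg h1, c.fx_neg_one, one_pow]
    exact Nat.card_pos
  · exact fun g hg => Q.fx_pow_four c hg.1 hg.2
  · intro g hg
    rw [coe_negG]
    exact ⟨fun h => hg.2 (by rw [← neg_neg (g : (AddMonoid.End V)ˣ), h]),
      fun h => hg.1 (neg_injective h)⟩
  · exact (Nat.card_le_card_of_injective _ Subtype.val_injective).trans hG

theorem pair_three (c : Ctx G Z F K) (Q : Quo G Z F c.hF.norm W) (hW : Nat.card W = 64)
    (hV : 3 ^ 8 ≤ Nat.card V) : HasPair G := by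
  obtain ⟨h14, hsp⟩ := (Q.good c).rankThree hW
  have hG : Nat.card G ≤ 1792 := by
    rw [Q.card_G c, hW]
    omega
  refine pair_of_count c (fun _ => False) 0 1792 (3 ^ 8) (fun g hg1 _ => ?_) (fun _ h => h.elim)
    (fun _ h => h) (by simp) (by omega) hV (by norm_num) (by norm_num)
  exact Q.fx_sq c (fun h => hg1 (Subtype.ext h)) fun h =>
    h.1 ((Q.ρ_eq_one_iff c g).1 (hsp _ ⟨g, rfl⟩ h.2.2))

theorem pair_four (c : Ctx G Z F K) (Q : Quo G Z F c.hF.norm W) (hW : Nat.card W = 256)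
    (hV : 3 ^ 16 ≤ Nat.card V) : HasPair G := by
  obtain ⟨h1360, hsq⟩ := (Q.good c).rankFour hW
  have hG : Nat.card G ≤ 696320 := by
    rw [Q.card_G c, hW]
    omega
  refine pair_of_count c Q.Spec 5440 701760 (3 ^ 16)
    (fun g hg1 hg => Q.fx_sq c (fun h => hg1 (Subtype.ext h)) hg) (fun g hg => ?_) (fun g hg => ?_)
    ?_ (by omega) hV (by norm_num) (by norm_num)
  · exact Q.fx_pow_four c (fun h => hg.1 (h ▸ F.one_mem)) (fun h => hg.1 (h ▸ c.neg_one_mem_F))
  · refine ⟨fun h => hg.1 ?_, ?_, fun x => ?_⟩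
    · have := F.mul_mem c.neg_one_mem_F h
      rwa [coe_negG, neg_one_mul, neg_neg] at this
    · rw [coe_negG, neg_sq]
      exact hg.2.1
    · rw [Q.ρ_negG c]
      exact hg.2.2 x
  · refine (Q.card_spec_le c (a := 85) (b := 128) hsq fun g hg => ?_).trans (by norm_num)
    obtain ⟨k, -, hmul, -, hk0⟩ := special_facts ((Q.good c).pres _ ⟨g, rfl⟩) hg.2.2
    have hk : 0 < k := Nat.pos_of_ne_zero fun h => hg.1 ((Q.ρ_eq_one_iff c g).1 (hk0 h))
    have h4 : 4 ≤ 4 ^ k := Nat.le_self_pow hk.ne' 4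
    rw [hW] at hmul
    have := Nat.mul_le_mul_right (Nat.card (fixSub (V := W) (Q.ρ g))) h4
    omega

theorem pair_five (c : Ctx G Z F K) (Q : Quo G Z F c.hF.norm W) (hW : Nat.card W = 1024)
    (hV : 3 ^ 32 ≤ Nat.card V) : HasPair G := by
  have h := (Q.good c).rankFive hW
  refine pair_coarse c Q 34918400 (3 ^ 32) ?_ hV (by norm_num) (by norm_num)
  rw [Q.card_G c, hW]
  omega

theorem pair_big (c : Ctx G Z F K) (Q : Quo G Z F c.hF.norm W) {m : ℕ} (hm : 6 ≤ m)
    (hW : Nat.card W = 4 ^ m) (hV : 3 ^ 2 ^ m ≤ Nat.card V) : HasPair G := by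
  have hG : Nat.card G ≤ 2 * 4 ^ (4 * m) := by
    rw [Q.card_G c, mul_assoc]
    refine Nat.mul_le_mul_left 2 ?_
    calc Nat.card W * Nat.card Q.ρ.range ≤ Nat.card W * Nat.card W ^ 3 :=
          Nat.mul_le_mul_left _ (Q.good c).card_le_cube
      _ = 4 ^ (4 * m) := by rw [hW, ← pow_mul, ← pow_add]; congr 1; ring
  have h4 := four_sq_le m hm
  have hsq : 2 ^ (16 * m + 2) = 4 * (4 ^ (4 * m)) ^ 2 := by
    rw [show (4 : ℕ) = 2 ^ 2 from rfl, ← pow_mul, ← pow_mul, ← pow_add]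
    congr 1
    ring
  rw [hsq] at h4
  have hk : 2 ≤ 4 ^ (4 * m) :=
    le_trans (by norm_num : 2 ≤ 4 ^ 1) (Nat.pow_le_pow_right (by norm_num) (by omega))
  generalize 4 ^ (4 * m) = k at h4 hG hk
  generalize 3 ^ 2 ^ m = V0 at h4 hV
  have h6 : 6 * k < 4 * k ^ 2 := by nlinarith
  obtain ⟨a, ha⟩ : ∃ a, V0 = 3 * k + a := ⟨V0 - 3 * k, by omega⟩
  refine pair_coarse c Q k V0 hG hV (by omega) ?_
  rw [show V0 - 3 * k = a by omega]
  have h2a : V0 + 1 ≤ 2 * a := by omega
  have hpos : 0 < V0 := by omega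
  have := Nat.mul_le_mul_right V0 h4
  nlinarith [Nat.mul_le_mul h2a h2a]

end Three

/-- The frame case over the field with three elements has pairs. -/
theorem threeOK : ThreeOK := by
  intro V _ _ _ G Z F K hsolv h3 hirr hS hF hC hK
  have c : Three.Ctx G Z F K := ⟨hsolv, h3, hirr, hS, hF, hC, hK⟩
  obtain ⟨W, _, _, ⟨Q⟩⟩ := c.exists_quo
  have hgood := Q.good c
  obtain ⟨m, hm⟩ := Q.Φ.toBForm.exists_card
  have hV := Q.pow_le_card c hm
  have htop : Three.Inv Q.ρ.range (⊤ : AddSubgroup W) := fun _ _ _ _ => AddSubgroup.mem_top _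
  match m, hm, hV with
  | 0, hm, _ =>
    -- the group consists of scalars
    obtain ⟨v, hv⟩ := exists_ne (0 : V)
    haveI := (Nat.card_eq_one_iff_unique.1 (hm.trans (pow_zero 4))).1
    refine ⟨v, v, fun g hg h _ => ?_⟩
    refine hS.eq_one_of_fix (hC g hg fun f hf => ?_) hv h
    exact c.central_Z ((Q.eq_zero ⟨f, hf⟩).1 (Subsingleton.elim _ _)) g
  | 1, hm, _ =>
    exact absurd (by rw [AddSubgroup.card_top, hm, pow_one]) (hgood.card_ne_four htop)
  | 2, hm, _ => exact Three.pair_two c Q (by rw [hm]; norm_num)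
  | 3, hm, hV => exact Three.pair_three c Q (by rw [hm]; norm_num) (le_trans (by norm_num) hV)
  | 4, hm, hV => exact Three.pair_four c Q (by rw [hm]; norm_num) (le_trans (by norm_num) hV)
  | 5, hm, hV => exact Three.pair_five c Q (by rw [hm]; norm_num) (le_trans (by norm_num) hV)
  | m + 6, hm, hV => exact Three.pair_big c Q (m := m + 6) (by omega) hm hV

end Cfsg.Agent.DP71
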