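import Cfsg.Agent.Lib.DolfiPair71.ThreeForm
import Cfsg.Agent.Lib.OddPair71.FixBound
import Cfsg.Agent.Lib.OddPair71.Basic
import Cfsg.Agent.Lib.BaseThree.Field
import Cfsg.Agent.Lib.Core.Fitting

/-!
# Solvable groups preserving a quadratic form on a group of exponent two: generalities
-/

set_option autoImplicit false
set_option linter.unusedSectionVars false
set_option linter.style.haveILetI false

namespace Cfsg.Agent.DP71.Three

open Cfsg.Agent.OP71 (fixSub mem_fixSub)
open Cfsg.Agent.Lib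

variable {W : Type} [AddCommGroup W] [Finite W]

/-- `U` is invariant under `S`. -/
def Inv (S : Subgroup (AddMonoid.End W)ˣ) (U : AddSubgroup W) : Prop :=
  ∀ s ∈ S, ∀ u ∈ U, s • u ∈ U

/-- A solvable group of order prime to three preserving the form, without invariant isotropic
subgroups. -/
structure GoodS (S : Subgroup (AddMonoid.End W)ˣ) (Φ : QForm W) : Prop where
  solv : Group.IsSolvable S
  three : ¬ 3 ∣ Nat.card S
  pres : ∀ s ∈ S, ∀ x, Φ.q (s • x) = Φ.q x
  noIso : ∀ U : AddSubgroup W, Inv S U → (∀ x ∈ U, ∀ y ∈ U, Φ.B x y = 0) → U = ⊥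

theorem B_smul_of_pres {Φ : QForm W} {s : (AddMonoid.End W)ˣ} (h : ∀ x, Φ.q (s • x) = Φ.q x)
    (x y : W) : Φ.B (s • x) (s • y) = Φ.B x y := by
  have h1 := Φ.q_add (s • x) (s • y)
  rw [← smul_add, h, h, h, Φ.q_add] at h1
  exact (add_left_cancel h1).symm

/-- The common fixed points of a subgroup. -/
def fixAll {H : Type*} [Group H] [DistribMulAction H W] (R : Subgroup H) : AddSubgroup W where
  carrier := {w | ∀ t ∈ R, t • w = w}
  zero_mem' := fun t _ => smul_zero t
  add_mem' := fun ha hb t ht => by rw [smul_add, ha t ht, hb t ht]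
  neg_mem' := fun ha t ht => by rw [smul_neg, ha t ht]

theorem smul_def' {S : Subgroup (AddMonoid.End W)ˣ} (s : S) (w : W) :
    s • w = (s : (AddMonoid.End W)ˣ) • w := rfl

theorem eq_one_of_fix_all {S : Subgroup (AddMonoid.End W)ˣ} {s : S} (h : ∀ w : W, s • w = w) :
    s = 1 :=
  FaithfulSMul.eq_of_smul_eq_smul fun w : W => by rw [h, one_smul]

/-- Subgroups have order a power of two. -/
theorem card_pow_two {U : AddSubgroup W} (hexp : ∀ x : W, x + x = 0) :
    ∃ d : ℕ, Nat.card U = 2 ^ d :=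
  OP71.card_natPrime_pow_eq Nat.prime_two fun u => Subtype.ext (by
    rw [two_nsmul]; exact hexp u)

/-- The action restricted to an invariant subgroup. -/
def resHom (N : Subgroup (AddMonoid.End W)ˣ) (U : AddSubgroup W) (hU : Inv N U) :
    N →* (AddMonoid.End U)ˣ :=
  letI : DistribMulAction N U :=
    { smul := fun g u => ⟨g • (u : W), hU g g.2 u u.2⟩
      one_smul := fun u => Subtype.ext (one_smul N (u : W))
      mul_smul := fun g h u => Subtype.ext (mul_smul g h (u : W))
      smul_zero := fun g => Subtype.ext (smul_zero g)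
      smul_add := fun g a b => Subtype.ext (smul_add g (a : W) (b : W)) }
  MonoidHom.toHomUnits (DistribMulAction.toAddMonoidEnd N U)

theorem resHom_apply {N : Subgroup (AddMonoid.End W)ˣ} {U : AddSubgroup W} (hU : Inv N U) (g : N)
    (u : U) : ((resHom N U hU g • u : U) : W) = (g : (AddMonoid.End W)ˣ) • (u : W) := rfl

theorem good_res {N : Subgroup (AddMonoid.End W)ˣ} (hs : Group.IsSolvable N)
    (h3 : ¬ 3 ∣ Nat.card N) {Φ : QForm W} (hp : ∀ s ∈ N, ∀ x, Φ.q (s • x) = Φ.q x)
    {U : AddSubgroup W} (hU : Inv N U) (hnd : U ⊓ Φ.perp U = ⊥)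
    (hiso : ∀ X ≤ U, Inv N X → (∀ x ∈ X, ∀ y ∈ X, Φ.B x y = 0) → X = ⊥) :
    GoodS (resHom N U hU).range (Φ.restrict U hnd) where
  solv := Group.isSolvable_of_surjective (resHom N U hU).rangeRestrict_surjective
  three h := h3 (h.trans (Subgroup.card_range_dvd _))
  pres := by
    rintro _ ⟨g, rfl⟩ x
    exact hp g g.2 (x : W)
  noIso X hX hXi := by
    have h := hiso (X.map U.subtype) (by rintro _ ⟨x, -, rfl⟩; exact x.2)
      (by
        rintro g hg _ ⟨x, hx, rfl⟩
        exact ⟨resHom N U hU ⟨g, hg⟩ • x, hX _ ⟨_, rfl⟩ x hx, rfl⟩)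
      (by
        rintro _ ⟨x, hx, rfl⟩ _ ⟨y, hy, rfl⟩
        exact hXi x hx y hy)
    exact (AddSubgroup.map_eq_bot_iff_of_injective _ U.subtype_injective).1 h

/-- The number of elements with square one. -/
noncomputable def sqCount {H : Type*} [Group H] (S : Subgroup H) : ℕ :=
  Nat.card {s : S // s * s = 1}

theorem split_bound {N : Subgroup (AddMonoid.End W)ˣ} {Φ : QForm W} {U : AddSubgroup W}
    (hnd : U ⊓ Φ.perp U = ⊥) (hU : Inv N U) (hU' : Inv N (Φ.perp U)) {a b c d : ℕ}
    (ha : Nat.card (resHom N U hU).range ≤ a) (hb : Nat.card (resHom N _ hU').range ≤ b)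
    (hc : sqCount (resHom N U hU).range ≤ c) (hd : sqCount (resHom N _ hU').range ≤ d) :
    Nat.card N ≤ a * b ∧ sqCount N ≤ c * d := by
  let f : N → (resHom N U hU).range × (resHom N _ hU').range := fun g =>
    (⟨_, g, rfl⟩, ⟨_, g, rfl⟩)
  have hf : Function.Injective f := by
    intro g h hgh
    refine Subtype.ext (FaithfulSMul.eq_of_smul_eq_smul fun w : W => ?_)
    have hw : w ∈ U ⊔ Φ.perp U := (Φ.toBForm.sup_perp hnd).symm ▸ AddSubgroup.mem_top w
    obtain ⟨u, hu, v, hv, rfl⟩ := AddSubgroup.mem_sup.1 hw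
    have h1 := congrArg (fun p : (resHom N U hU).range × (resHom N _ hU').range =>
      ((p.1.1 • (⟨u, hu⟩ : U) : U) : W)) hgh
    have h2 := congrArg (fun p : (resHom N U hU).range × (resHom N _ hU').range =>
      ((p.2.1 • (⟨v, hv⟩ : Φ.perp U) : Φ.perp U) : W)) hgh
    rw [smul_add, smul_add]
    exact congrArg₂ (· + ·) h1 h2
  refine ⟨(Nat.card_le_card_of_injective f hf).trans ?_, ?_⟩
  · rw [Nat.card_prod]; exact Nat.mul_le_mul ha hb
  · let f' : {s : N // s * s = 1} →
        {s : (resHom N U hU).range // s * s = 1} × {s : (resHom N _ hU').range // s * s = 1} :=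
      fun g => (⟨(f g.1).1, Subtype.ext (by
          show resHom N U hU g.1 * resHom N U hU g.1 = 1
          rw [← map_mul, g.2, map_one])⟩,
        ⟨(f g.1).2, Subtype.ext (by
          show resHom N _ hU' g.1 * resHom N _ hU' g.1 = 1
          rw [← map_mul, g.2, map_one])⟩)
    have hf' : Function.Injective f' := fun g h hgh => Subtype.ext (hf (Prod.ext
      (congrArg Subtype.val (Prod.ext_iff.1 hgh).1) (congrArg Subtype.val (Prod.ext_iff.1 hgh).2)))
    refine (Nat.card_le_card_of_injective f' hf').trans ?_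
    rw [Nat.card_prod]
    exact Nat.mul_le_mul hc hd

namespace GoodS

variable {S : Subgroup (AddMonoid.End W)ˣ} {Φ : QForm W} (hS : GoodS S Φ)
include hS

theorem B_smul {s : (AddMonoid.End W)ˣ} (hs : s ∈ S) (x y : W) :
    Φ.B (s • x) (s • y) = Φ.B x y := B_smul_of_pres (hS.pres s hs) x y

theorem inv_perp {U : AddSubgroup W} (hU : Inv S U) : Inv S (Φ.perp U) := by
  intro s hs x hx u hu
  have h1 := hx _ (hU s⁻¹ (S.inv_mem hs) u hu)
  rwa [← hS.B_smul hs, smul_inv_smul] at h1

theorem nondeg {U : AddSubgroup W} (hU : Inv S U) : U ⊓ Φ.perp U = ⊥ :=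
  hS.noIso _ (fun s hs u hu => ⟨hU s hs u hu.1, hS.inv_perp hU s hs u hu.2⟩)
    fun x hx _ hy => hx.2 _ hy.1

theorem good_sub {U : AddSubgroup W} (hU : Inv S U) :
    GoodS (resHom S U hU).range (Φ.restrict U (hS.nondeg hU)) :=
  good_res hS.solv hS.three hS.pres hU _ fun X _ hX hXi => hS.noIso X hX hXi

theorem card_ne_four {U : AddSubgroup W} (hU : Inv S U) : Nat.card U ≠ 4 := by
  classical
  intro h4
  haveI := Fintype.ofFinite W
  -- an invariant subgroup of order two is isotropic
  have hfix : ∀ u ∈ U, (∀ s ∈ S, s • u = u) → u = 0 := by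
    intro u _ hu
    have h := hS.noIso (AddSubgroup.zmultiples u) (fun s hs v hv => by
      obtain ⟨k, rfl⟩ := AddSubgroup.mem_zmultiples_iff.1 hv
      show DistribMulAction.toAddMonoidHom W s (k • u) ∈ _
      rw [map_zsmul]
      show k • (s • u) ∈ _
      rw [hu s hs]
      exact hv) (by
      intro v hv w hw
      obtain ⟨k, rfl⟩ := AddSubgroup.mem_zmultiples_iff.1 hv
      obtain ⟨l, rfl⟩ := AddSubgroup.mem_zmultiples_iff.1 hw
      have h0 : Φ.fn u u = 0 := Φ.alt u
      rw [← Φ.fn_apply, map_zsmul, Φ.fn_apply, Φ.symm, ← Φ.fn_apply, map_zsmul, h0, smul_zero,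
        smul_zero])
    rwa [AddSubgroup.zmultiples_eq_bot] at h
  letI : MulAction S {u : U // u ≠ 0} :=
    { smul := fun s u => ⟨⟨(s : (AddMonoid.End W)ˣ) • (u.1 : W), hU s s.2 _ u.1.2⟩, fun h =>
        u.2 (Subtype.ext ((smul_eq_zero_iff_eq _).1 (congrArg Subtype.val h)))⟩
      one_smul := fun u => Subtype.ext (Subtype.ext (one_smul _ (u.1 : W)))
      mul_smul := fun a b u => Subtype.ext (Subtype.ext (mul_smul a b (u.1 : W))) }
  have hcard : Nat.card {u : U // u ≠ 0} = 3 := by
    rw [Nat.card_eq_fintype_card, Fintype.card_subtype_compl, ← Nat.card_eq_fintype_card, h4,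
      Fintype.card_subtype_eq]
  by_cases hall : ∀ a : {u : U // u ≠ 0}, Nat.card (MulAction.orbit S a) = 2
  · -- three is not a sum of twos
    have h := (MulAction.selfEquivSigmaOrbits S {u : U // u ≠ 0})
    have h2 := Nat.card_congr h
    rw [hcard, Nat.card_sigma, Finset.sum_congr rfl (g := fun _ => 2) fun ω _ => hall _,
      Finset.sum_const, smul_eq_mul] at h2
    omega
  push Not at hall
  obtain ⟨a, ha⟩ := hall
  have hle : Nat.card (MulAction.orbit S a) ≤ 3 :=
    hcard ▸ Nat.card_le_card_of_injective _ Subtype.val_injective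
  have hdvd : Nat.card (MulAction.orbit S a) ∣ Nat.card S := by
    rw [Nat.card_congr (MulAction.orbitEquivQuotientStabilizer S a)]
    exact Subgroup.card_quotient_dvd_card _
  have h3 : Nat.card (MulAction.orbit S a) ≠ 3 := fun h => hS.three (h ▸ hdvd)
  haveI : Nonempty (MulAction.orbit S a) := ⟨⟨a, MulAction.mem_orbit_self a⟩⟩
  have hpos : 0 < Nat.card (MulAction.orbit S a) := Nat.card_pos
  have h1 : Nat.card (MulAction.orbit S a) = 1 := by omega
  refine a.2 (Subtype.ext (hfix _ a.1.2 fun s hs => ?_))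
  have := (Nat.card_eq_one_iff_unique.1 h1).1.elim
    (⟨_, MulAction.mem_orbit a (⟨s, hs⟩ : S)⟩ : MulAction.orbit S a)
    ⟨a, MulAction.mem_orbit_self a⟩
  exact congrArg (fun z : MulAction.orbit S a => ((z.1.1 : U) : W)) this

theorem card_inv {U : AddSubgroup W} (hU : Inv S U) : ∃ k, Nat.card U = 4 ^ k ∧ k ≠ 1 := by
  obtain ⟨k, hk⟩ := (Φ.toBForm.restrict U (hS.nondeg hU)).exists_card
  exact ⟨k, hk, fun h => hS.card_ne_four hU (by rw [hk, h, pow_one])⟩

theorem card_split {U : AddSubgroup W} (hU : Inv S U) {m : ℕ} (hm : Nat.card W = 4 ^ m) :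
    ∃ k l, Nat.card U = 4 ^ k ∧ Nat.card (Φ.perp U) = 4 ^ l ∧ k ≠ 1 ∧ l ≠ 1 ∧ k + l = m := by
  obtain ⟨k, hk, hk1⟩ := hS.card_inv hU
  obtain ⟨l, hl, hl1⟩ := hS.card_inv (hS.inv_perp hU)
  have h := Φ.toBForm.card_mul_perp (hS.nondeg hU)
  rw [hk, hl, hm, ← pow_add] at h
  exact ⟨k, l, hk, hl, hk1, hl1, Nat.pow_right_injective (by norm_num) h⟩

theorem eq_bot_or_top {U : AddSubgroup W} {k l : ℕ} (hk : Nat.card U = 4 ^ k)
    (hl : Nat.card (Φ.perp U) = 4 ^ l) (hU : Inv S U) (h : k = 0 ∨ l = 0) : U = ⊥ ∨ U = ⊤ := by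
  rcases h with rfl | rfl
  · exact Or.inl (AddSubgroup.eq_bot_of_card_eq _ (by rw [hk, pow_zero]))
  · refine Or.inr ?_
    have h1 := Φ.toBForm.sup_perp (hS.nondeg hU)
    rwa [AddSubgroup.eq_bot_of_card_eq (Φ.perp U) (by rw [hl, pow_zero]), sup_bot_eq] at h1

theorem irr_of_le_three {m : ℕ} (hm : Nat.card W = 4 ^ m) (h3 : m ≤ 3) :
    ∀ U : AddSubgroup W, Inv S U → U = ⊥ ∨ U = ⊤ := by
  intro U hU
  obtain ⟨k, l, hk, hl, hk1, hl1, hkl⟩ := hS.card_split hU hm
  exact hS.eq_bot_or_top hk hl hU (by omega)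

end GoodS

/-- A group of order prime to the fixed points count. -/
theorem card_modEq_one {H : Type*} [Group H] [DistribMulAction H W] {r : ℕ}
    [Fact r.Prime] {R : Subgroup H} (hR : IsPGroup r R) {U : AddSubgroup W}
    (hU : ∀ t ∈ R, ∀ u ∈ U, t • u ∈ U) (hfix : ∀ u ∈ U, (∀ t ∈ R, t • u = u) → u = 0) :
    Nat.card U % r = 1 := by
  letI : MulAction R U :=
    { smul := fun t u => ⟨(t : H) • (u : W), hU t t.2 u u.2⟩
      one_smul := fun u => Subtype.ext (one_smul H (u : W))
      mul_smul := fun a b u => Subtype.ext (mul_smul (a : H) (b : H) (u : W)) }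
  have h := hR.card_modEq_card_fixedPoints U
  have h1 : Nat.card (MulAction.fixedPoints R U) = 1 := by
    rw [Nat.card_eq_one_iff_unique]
    refine ⟨⟨fun a b => ?_⟩, ⟨⟨0, fun t => Subtype.ext (smul_zero (t : H))⟩⟩⟩
    have key : ∀ c : MulAction.fixedPoints R U, (c.1 : W) = 0 := fun c =>
      hfix _ c.1.2 fun t ht => congrArg Subtype.val (c.2 ⟨t, ht⟩)
    exact Subtype.ext (Subtype.ext ((key a).trans (key b).symm))
  rw [h1] at h
  rw [h]
  exact Nat.mod_eq_of_lt (Fact.out : r.Prime).one_lt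

/-- The order of a semiregular group divides the number of nonzero vectors. -/
theorem card_dvd_of_semireg {H : Type*} [Group H] [Finite H] [DistribMulAction H W]
    (C : Subgroup H) (h : ∀ c ∈ C, ∀ w : W, w ≠ 0 → c • w = w → c = 1) :
    Nat.card C ∣ Nat.card W - 1 := by
  classical
  haveI := Fintype.ofFinite W
  letI : MulAction C {w : W // w ≠ 0} :=
    { smul := fun c w => ⟨(c : H) • w.1, fun h0 => w.2 ((smul_eq_zero_iff_eq _).1 h0)⟩
      one_smul := fun w => Subtype.ext (one_smul H w.1)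
      mul_smul := fun a b w => Subtype.ext (mul_smul (a : H) (b : H) w.1) }
  have h1 := Nat.card_congr (MulAction.selfEquivOrbitsQuotientProd
    (G := C) (X := {w : W // w ≠ 0}) fun w => (Subgroup.eq_bot_iff_forall _).2 fun c hc =>
      Subtype.ext (h c c.2 w.1 w.2 (congrArg Subtype.val hc)))
  rw [Nat.card_prod] at h1
  have h2 : Nat.card {w : W // w ≠ 0} = Nat.card W - 1 := by
    rw [Nat.card_eq_fintype_card, Fintype.card_subtype_compl, Fintype.card_subtype_eq,
      Nat.card_eq_fintype_card]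
  rw [← h2, h1]
  exact Dvd.intro_left _ rfl

/-- The fixed space of an element of odd order is nondegenerate. -/
theorem fix_nondeg {Φ : QForm W} {e : (AddMonoid.End W)ˣ} (he : ∀ x, Φ.q (e • x) = Φ.q x)
    {r : ℕ} (hodd : Odd r) (her : e ^ r = 1) :
    fixSub (V := W) e ⊓ Φ.perp (fixSub (V := W) e) = ⊥ := by
  let d : W →+ W :=
    { toFun := fun w => w + e • w
      map_zero' := by simp
      map_add' := fun a b => by rw [smul_add]; abel }
  have hker : d.ker = fixSub (V := W) e := by
    ext w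
    show w + e • w = 0 ↔ e • w = w
    rw [add_eq_zero_iff_eq_neg, Φ.toBForm.neg_eq]
    exact eq_comm
  have hinter : fixSub (V := W) e ⊓ d.range = ⊥ := by
    rw [eq_bot_iff]
    rintro _ ⟨hx, w, rfl⟩
    rw [AddSubgroup.mem_bot]
    show w + e • w = 0
    have hx' : ∀ i : ℕ, e ^ i • (w + e • w) = w + e • w := by
      intro i
      induction i with
      | zero => rw [pow_zero, one_smul]
      | succ i ih =>
        rw [pow_succ, mul_smul, show e • (w + e • w) = w + e • w from hx, ih]
    have hsum : ∑ i ∈ Finset.range r, e ^ i • (w + e • w) = 0 := by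
      have h2 : ∀ n : ℕ, ∑ i ∈ Finset.range n, e ^ i • (w + e • w) = w + e ^ n • w := by
        intro n
        induction n with
        | zero => rw [Finset.sum_range_zero, pow_zero, one_smul, Φ.toBForm.exp]
        | succ n ih =>
          rw [Finset.sum_range_succ, ih, smul_add, ← mul_smul, ← pow_succ,
            show w + e ^ n • w + (e ^ n • w + e ^ (n + 1) • w) =
              w + (e ^ n • w + e ^ n • w) + e ^ (n + 1) • w by abel,
            Φ.toBForm.exp, add_zero]
      rw [h2, her, one_smul, Φ.toBForm.exp]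
    rw [Finset.sum_congr rfl fun i _ => hx' i, Finset.sum_const, Finset.card_range] at hsum
    obtain ⟨j, rfl⟩ := hodd
    rwa [succ_nsmul, mul_comm, mul_nsmul, two_nsmul, Φ.toBForm.exp, zero_add] at hsum
  have hperp : d.range ≤ Φ.perp (fixSub (V := W) e) := by
    rintro _ ⟨w, rfl⟩ u hu
    show Φ.B (w + e • w) u = 0
    rw [Φ.add_left]
    nth_rewrite 2 [← show e • u = u from hu]
    rw [B_smul_of_pres he, zmod_two_add_self]
  rw [eq_bot_iff]
  rintro x ⟨hx, hxp⟩
  rw [AddSubgroup.mem_bot]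
  have hsurj : Function.Surjective (fun p : fixSub (V := W) e × d.range => (p.1 : W) + p.2) := by
    refine ((Nat.bijective_iff_injective_and_card _).2 ⟨?_, ?_⟩).2
    · rintro ⟨a, b⟩ ⟨a', b'⟩ h
      simp only at h
      have h1 : (a : W) - a' = b' - b := by rw [sub_eq_sub_iff_add_eq_add, h, add_comm]
      have h2 : (a : W) - a' ∈ fixSub (V := W) e ⊓ d.range :=
        ⟨(fixSub e).sub_mem a.2 a'.2, h1 ▸ d.range.sub_mem b'.2 b.2⟩
      rw [hinter, AddSubgroup.mem_bot] at h2
      rw [h2] at h1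
      exact Prod.ext (Subtype.ext (sub_eq_zero.1 h2)) (Subtype.ext (sub_eq_zero.1 h1.symm).symm)
    · rw [Nat.card_prod, ← hker, ← AddSubgroup.index_ker, AddSubgroup.card_mul_index]
  refine Φ.nondeg x fun y => ?_
  obtain ⟨⟨a, b⟩, rfl⟩ := hsurj y
  show Φ.B x (a + b) = 0
  rw [Φ.toBForm.add_right, hxp a a.2, Φ.symm x, hperp b.2 x hx, add_zero]

section GroupFacts

variable {H : Type*} [Group H] [Finite H]

theorem centralizer_pCore_le [Group.IsSolvable H] {r : ℕ} [Fact r.Prime]
    (h : ∀ p : ℕ, p.Prime → p ≠ r → pCore p H = ⊥) :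
    Subgroup.centralizer (pCore r H : Set H) ≤ pCore r H := by
  have hF : fittingSubgroup H = pCore r H := by
    rw [Fitting.fittingSubgroup_eq_iSup_pCore]
    refine le_antisymm (iSup_le fun p => ?_) ?_
    · by_cases hp : (p : ℕ) = r
      · rw [hp]
      · rw [h p p.2 hp]; exact bot_le
    · exact le_iSup (fun p : Nat.Primes => pCore (p : ℕ) H) ⟨r, Fact.out⟩
  have := Fitting.centralizer_fittingSubgroup_le (G := H)
  rwa [hF] at this

theorem exists_pCore_ne_bot [Group.IsSolvable H] [Nontrivial H] :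
    ∃ p : ℕ, p.Prime ∧ pCore p H ≠ ⊥ := by
  by_contra hne
  push Not at hne
  have hF : fittingSubgroup H = ⊥ := by
    rw [Fitting.fittingSubgroup_eq_iSup_pCore]
    exact le_antisymm (iSup_le fun p => (hne p p.2).le) bot_le
  have := Fitting.centralizer_fittingSubgroup_le (G := H)
  rw [hF, Subgroup.coe_bot, le_bot_iff] at this
  obtain ⟨x, hx⟩ := exists_ne (1 : H)
  have hxc : x ∈ Subgroup.centralizer ({1} : Set H) := Subgroup.mem_centralizer_iff.2 fun y hy => by
    rw [Set.mem_singleton_iff.1 hy, one_mul, mul_one]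
  rw [this, Subgroup.mem_bot] at hxc
  exact hx hxc

/-- A normal subgroup of prime order: bound by its centraliser and cyclicity. -/
theorem conj_facts {r : ℕ} (hr : r.Prime) (R : Subgroup H) [R.Normal] (hR : Nat.card R = r) :
    IsCyclic (MulAut R) ∧ (MulAut.conjNormal : H →* MulAut R).ker = Subgroup.centralizer (R : Set H)
      ∧ Nat.card H ≤ Nat.card (Subgroup.centralizer (R : Set H)) * (r - 1) := by
  haveI := Fact.mk hr
  haveI : IsCyclic R := isCyclic_of_prime_card hR
  haveI : IsCyclic (MulAut R) := by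
    haveI : IsCyclic (ZMod (Nat.card R))ˣ := by rw [hR]; infer_instance
    exact isCyclic_of_surjective _ (IsCyclic.mulAutMulEquiv R).symm.surjective
  have hker : (MulAut.conjNormal : H →* MulAut R).ker = Subgroup.centralizer (R : Set H) := by
    ext x
    rw [MonoidHom.mem_ker, Subgroup.mem_centralizer_iff]
    constructor
    · intro hx y hy
      have h1 := congrArg (fun φ : MulAut R => ((φ ⟨y, hy⟩ : R) : H)) hx
      simp only [MulAut.conjNormal_apply, MulAut.one_apply] at h1
      rw [mul_inv_eq_iff_eq_mul] at h1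
      exact h1.symm
    · intro hx
      refine MulEquiv.ext fun y => Subtype.ext ?_
      rw [MulAut.conjNormal_apply, MulAut.one_apply, mul_inv_eq_iff_eq_mul]
      exact (hx y y.2).symm
  refine ⟨inferInstance, hker, ?_⟩
  rw [← hker]
  calc Nat.card H = Nat.card (MulAut.conjNormal : H →* MulAut R).ker *
        (MulAut.conjNormal : H →* MulAut R).ker.index := (Subgroup.card_mul_index _).symm
    _ ≤ _ := by
      rw [Subgroup.index_ker]
      refine Nat.mul_le_mul_left _ ((Subgroup.card_le_card_group _).trans ?_)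
      rw [IsCyclic.card_mulAut, hR, Nat.totient_prime hr]

/-- Elements with square one, given a hom to a cyclic group with kernel of odd order. -/
theorem sqCount_le {C : Type*} [Group C] [Finite C] [IsCyclic C] (f : H →* C)
    (hodd : Odd (Nat.card f.ker)) :
    Nat.card {s : H // s * s = 1} ≤ Nat.card f.ker + 1 := by
  classical
  haveI := Fintype.ofFinite C
  haveI := Fintype.ofFinite H
  have hker1 : ∀ s : H, s * s = 1 → s ∈ f.ker → s = 1 := by
    intro s hs hk
    have h1 : orderOf (⟨s, hk⟩ : f.ker) ∣ 2 :=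
      orderOf_dvd_of_pow_eq_one (Subtype.ext (by rw [SubmonoidClass.coe_pow, pow_two]; exact hs))
    have h2 := orderOf_dvd_natCard (⟨s, hk⟩ : f.ker)
    rcases (Nat.dvd_prime Nat.prime_two).1 h1 with h | h
    · exact congrArg Subtype.val (orderOf_eq_one_iff.1 h)
    · rw [h] at h2
      exact absurd h2 (Nat.two_dvd_ne_zero.2 (Nat.odd_iff.1 hodd))
  by_cases hex : ∃ s₀ : H, s₀ * s₀ = 1 ∧ s₀ ∉ f.ker
  swap
  · push Not at hex
    haveI : Subsingleton {s : H // s * s = 1} :=
      ⟨fun a b => Subtype.ext ((hker1 _ a.2 (hex _ a.2)).trans (hker1 _ b.2 (hex _ b.2)).symm)⟩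
    have h := Finite.card_le_one_iff_subsingleton.2 (inferInstance : Subsingleton {s : H // s * s = 1})
    omega
  obtain ⟨s₀, hs₀, hs₀k⟩ := hex
  have hkey : ∀ s : H, s * s = 1 → s ∉ f.ker → s₀⁻¹ * s ∈ f.ker := by
    intro s hs hk
    rw [MonoidHom.mem_ker, map_mul, map_inv, inv_mul_eq_one]
    by_contra hne
    have h3 : ({1, f s₀, f s} : Finset C) ⊆ Finset.univ.filter (fun c : C => c ^ 2 = 1) := by
      intro c hc
      simp only [Finset.mem_insert, Finset.mem_singleton] at hc
      rw [Finset.mem_filter]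
      refine ⟨Finset.mem_univ _, ?_⟩
      rcases hc with rfl | rfl | rfl
      · exact one_pow 2
      · rw [pow_two, ← map_mul, hs₀, map_one]
      · rw [pow_two, ← map_mul, hs, map_one]
    have h4 := (Finset.card_le_card h3).trans (IsCyclic.card_pow_eq_one_le (α := C) (n := 2) two_pos)
    rw [Finset.card_insert_of_notMem (by
      simp only [Finset.mem_insert, Finset.mem_singleton, not_or]
      exact ⟨fun h => hs₀k h.symm, fun h => hk h.symm⟩),
      Finset.card_pair hne] at h4
    omega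
  calc Nat.card {s : H // s * s = 1} ≤ Nat.card (Option f.ker) := by
        refine Nat.card_le_card_of_injective (fun s =>
          if h : s.1 ∈ f.ker then none else some ⟨_, hkey _ s.2 h⟩) ?_
        intro a b hab
        simp only at hab
        by_cases ha : a.1 ∈ f.ker <;> by_cases hb : b.1 ∈ f.ker
        · exact Subtype.ext ((hker1 _ a.2 ha).trans (hker1 _ b.2 hb).symm)
        · rw [dif_pos ha, dif_neg hb] at hab; exact absurd hab (by simp)
        · rw [dif_neg ha, dif_pos hb] at hab; exact absurd hab (by simp)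
        · rw [dif_neg ha, dif_neg hb, Option.some_inj] at hab
          exact Subtype.ext (mul_left_cancel (congrArg Subtype.val hab))
    _ = _ := Finite.card_option

end GroupFacts

end Cfsg.Agent.DP71.Three
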