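import Cfsg.Agent.Lib.DolfiPair71.ThreeQuot

/-!
# Solvable groups preserving a quadratic form: rank four and five
-/

set_option autoImplicit false
set_option linter.unusedSectionVars false
set_option linter.style.haveILetI false

namespace Cfsg.Agent.DP71.Three

open Cfsg.Agent.OP71 (fixSub mem_fixSub)

variable {W : Type} [AddCommGroup W] [Finite W]

/-- An element of an abelian group fixes nothing or everything of an irreducible summand. -/
theorem exists_fpf_kernel {S : Subgroup (AddMonoid.End W)ˣ} {R : Subgroup S}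
    (hab : ∀ x ∈ R, ∀ y ∈ R, x * y = y * x) {U : AddSubgroup W}
    (hirr : ∀ X ≤ U, (∀ t ∈ R, ∀ u ∈ X, t • u ∈ X) → X = ⊥ ∨ X = U)
    (hU : ∀ t ∈ R, ∀ u ∈ U, t • u ∈ U) {x : S} (hx : x ∈ R) :
    U ⊓ fixSub (V := W) x = ⊥ ∨ U ⊓ fixSub (V := W) x = U :=
  hirr _ inf_le_left fun t ht u hu => ⟨hU t ht u hu.1, by
    show x • t • u = t • u
    rw [← mul_smul, hab x hx t ht, mul_smul, show x • u = u from hu.2]⟩

namespace GoodS

variable {S : Subgroup (AddMonoid.End W)ˣ} {Φ : QForm W} (hS : GoodS S Φ)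
include hS

theorem rankFour_twentyfive (hW : Nat.card W = 256) {R : Subgroup S} [hRn : R.Normal]
    (hR : Nat.card R = 25) (hfix : ∀ u : W, (∀ t ∈ R, t • u = u) → u = 0) :
    Nat.card S ≤ 800 ∧ sqCount S ≤ 56 := by
  classical
  haveI : Fact (Nat.Prime 5) := ⟨by norm_num⟩
  have hpg : IsPGroup 5 R := IsPGroup.of_card (n := 2) (by rw [hR]; norm_num)
  obtain ⟨e, he, hne, hcomm, hnd, k, hk, hk0, hk4, hkmod⟩ := hS.sq_case (r := 5) (m := 4)
    (by norm_num) (R := R) (by rw [hR]; norm_num) (by rw [hW]; norm_num) (by rw [hW]; norm_num) hfix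
  obtain rfl : k = 2 := by interval_cases k <;> simp_all
  have hab : ∀ x ∈ R, ∀ y ∈ R, x * y = y * x := fun x hx y hy => congrArg Subtype.val
    ((IsPGroup.isMulCommutative_of_card_eq_prime_sq (p := 5)
      (by rw [hR]; norm_num : Nat.card R = 5 ^ 2)).is_comm.comm (⟨x, hx⟩ : R) ⟨y, hy⟩)
  set W1 := fixSub (V := W) e with hW1def
  set W2 := Φ.perp W1 with hW2def
  have hc1 : Nat.card W1 = 16 := hk
  have hc2 : Nat.card W2 = 16 := by
    have h : Nat.card W1 * Nat.card W2 = Nat.card W := Φ.toBForm.card_mul_perp hnd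
    rw [hc1, hW] at h
    omega
  have hR1 : ∀ t ∈ R, ∀ u ∈ W1, t • u ∈ W1 := fun t ht u (hu : e • u = u) => by
    show e • t • u = t • u
    rw [← mul_smul, ← hcomm t ht, mul_smul, hu]
  have hR2 : ∀ t ∈ R, ∀ u ∈ W2, t • u ∈ W2 := fun t ht u hu v hv => by
    have h1 := hu _ (hR1 t⁻¹ (R.inv_mem ht) v hv)
    rw [← hS.B_smul t.2] at h1
    rwa [show ((t : (AddMonoid.End W)ˣ)) • (t⁻¹ • v) = v from smul_inv_smul t v] at h1
  have hirr : ∀ U : AddSubgroup W, Nat.card U = 16 → ∀ X ≤ U,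
      (∀ t ∈ R, ∀ u ∈ X, t • u ∈ X) → X = ⊥ ∨ X = U := by
    intro U hU X hXU hX
    obtain ⟨j, hj⟩ := card_pow_two (U := X) Φ.toBForm.exp
    have h1 := card_modEq_one hpg hX fun u _ => hfix u
    rw [hj] at h1
    have hle := AddSubgroup.card_le_of_le hXU
    rw [hj, hU, show 16 = 2 ^ 4 from rfl, Nat.pow_le_pow_iff_right Nat.one_lt_two] at hle
    interval_cases j
    · exact Or.inl (AddSubgroup.eq_bot_of_card_eq _ (by rw [hj, pow_zero]))
    · simp at h1
    · simp at h1
    · simp at h1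
    · exact Or.inr (AddSubgroup.eq_of_le_of_card_ge hXU (by rw [hj, hU]; norm_num))
  have hnd2 : W2 ⊓ Φ.perp W2 = ⊥ := Φ.toBForm.perp_inf_perp hnd
  -- fixed spaces of elements of `R`
  have hfx : ∀ x ∈ R, x ≠ 1 → ∀ w : W, w ≠ 0 → x • w = w →
      fixSub (V := W) x = W1 ∨ fixSub (V := W) x = W2 := by
    intro x hx hx1 w hw hxw
    have hor : ∀ U : AddSubgroup W, Nat.card U = 16 → (∀ t ∈ R, ∀ u ∈ U, t • u ∈ U) →
        U ⊓ fixSub (V := W) x = ⊥ ∨ U ≤ fixSub (V := W) x := fun U hU hRU => by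
      rcases exists_fpf_kernel hab (hirr U hU) hRU hx with h | h
      · exact Or.inl h
      · exact Or.inr (h ▸ inf_le_right)
    rcases hor W1 hc1 hR1 with h1 | h1 <;> rcases hor W2 hc2 hR2 with h2 | h2
    · exfalso
      have hmem : w ∈ W1 ⊔ W2 := (Φ.toBForm.sup_perp hnd).symm ▸ AddSubgroup.mem_top w
      obtain ⟨u, hu, v, hv, rfl⟩ := AddSubgroup.mem_sup.1 hmem
      have h : x • u - u = v - x • v := by
        rw [smul_add] at hxw
        rw [sub_eq_sub_iff_add_eq_add, hxw, add_comm]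
      have h0 : x • u - u ∈ W1 ⊓ W2 :=
        ⟨W1.sub_mem (hR1 x hx u hu) hu, h ▸ W2.sub_mem hv (hR2 x hx v hv)⟩
      rw [hnd, AddSubgroup.mem_bot] at h0
      have hu0 : u ∈ W1 ⊓ fixSub (V := W) x := ⟨hu, sub_eq_zero.1 h0⟩
      rw [h1, AddSubgroup.mem_bot] at hu0
      have hv0 : v ∈ W2 ⊓ fixSub (V := W) x := ⟨hv, by
        rw [h0] at h; exact (sub_eq_zero.1 h.symm).symm⟩
      rw [h2, AddSubgroup.mem_bot] at hv0
      exact hw (by rw [hu0, hv0, add_zero])
    · refine Or.inr (le_antisymm (fun z hz => ?_) h2)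
      have hmem : z ∈ W1 ⊔ W2 := (Φ.toBForm.sup_perp hnd).symm ▸ AddSubgroup.mem_top z
      obtain ⟨u, hu, v, hv, rfl⟩ := AddSubgroup.mem_sup.1 hmem
      have hu0 : u ∈ W1 ⊓ fixSub (V := W) x := ⟨hu, by
        have := (fixSub (V := W) x).sub_mem hz (h2 hv)
        rwa [add_sub_cancel_right] at this⟩
      rw [h1, AddSubgroup.mem_bot] at hu0
      rw [hu0, zero_add]
      exact hv
    · refine Or.inl (le_antisymm (fun z hz => ?_) h1)
      have hmem : z ∈ W1 ⊔ W2 := (Φ.toBForm.sup_perp hnd).symm ▸ AddSubgroup.mem_top z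
      obtain ⟨u, hu, v, hv, rfl⟩ := AddSubgroup.mem_sup.1 hmem
      have hv0 : v ∈ W2 ⊓ fixSub (V := W) x := ⟨hv, by
        have := (fixSub (V := W) x).sub_mem hz (h1 hu)
        rwa [add_sub_cancel_left] at this⟩
      rw [h2, AddSubgroup.mem_bot] at hv0
      rw [hv0, add_zero]
      exact hu
    · exfalso
      refine hx1 (eq_one_of_fix_all fun z => ?_)
      have hmem : z ∈ W1 ⊔ W2 := (Φ.toBForm.sup_perp hnd).symm ▸ AddSubgroup.mem_top z
      exact sup_le h1 h2 hmem
  -- every element stabilises or exchanges the two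
  let N : Subgroup (AddMonoid.End W)ˣ :=
    { carrier := {s | s ∈ S ∧ ∀ u, s • u ∈ W1 ↔ u ∈ W1}
      one_mem' := ⟨S.one_mem, fun u => by rw [one_smul]⟩
      mul_mem' := fun {a b} ha hb => ⟨S.mul_mem ha.1 hb.1, fun u => by
        rw [mul_smul, ha.2, hb.2]⟩
      inv_mem' := fun {a} ha => ⟨S.inv_mem ha.1, fun u => by
        rw [← ha.2, smul_inv_smul]⟩ }
  have hNS : N ≤ S := fun s hs => hs.1
  haveI := hS.solv
  have hNsolv : Group.IsSolvable N :=
    Group.isSolvable_of_isSolvable_injective (Subgroup.inclusion_injective hNS)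
  have hN3 : ¬ 3 ∣ Nat.card N := fun h => hS.three (h.trans (Subgroup.card_dvd_of_le hNS))
  have hNp : ∀ s ∈ N, ∀ x, Φ.q (s • x) = Φ.q x := fun s hs => hS.pres s (hNS hs)
  have hN1 : Inv N W1 := fun s hs u hu => (hs.2 u).2 hu
  have hN2 : Inv N W2 := fun s hs u hu v hv => by
    have h1 := hu _ (hN1 s⁻¹ (N.inv_mem hs) v hv)
    rwa [← hS.B_smul (hNS hs), smul_inv_smul] at h1
  have hRN : ∀ t ∈ R, (t : (AddMonoid.End W)ˣ) ∈ N := fun t ht => ⟨t.2, fun u =>
    ⟨fun h => by
      have := hR1 t⁻¹ (R.inv_mem ht) _ h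
      rwa [show t⁻¹ • (((t : (AddMonoid.End W)ˣ)) • u) = u from inv_smul_smul t u] at this,
     fun h => hR1 t ht u h⟩⟩
  have hgood : ∀ U : AddSubgroup W, Nat.card U = 16 → ∀ (hU : Inv N U)
      (hnU : U ⊓ Φ.perp U = ⊥),
      Nat.card (resHom N U hU).range ≤ 20 ∧ sqCount (resHom N U hU).range ≤ 6 := by
    intro U hU16 hU hnU
    have hg := good_res hNsolv hN3 hNp hU hnU fun X hXU hX hXi => by
      rcases hirr U hU16 X hXU (fun t ht u hu => hX _ (hRN t ht) u hu) with h | h
      · exact h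
      · subst h
        rw [← hnU]
        exact le_antisymm (le_inf le_rfl fun u hu v hv => hXi u hu v hv) inf_le_left
    obtain ⟨-, -, -, -, -, h1, h2⟩ := hg.rankTwo hU16
    exact ⟨h1, h2⟩
  obtain ⟨ha, hc⟩ := hgood W1 hc1 hN1 hnd
  obtain ⟨hb, hd⟩ := hgood W2 hc2 hN2 hnd2
  obtain ⟨hN400, hN36⟩ := split_bound hnd hN1 hN2 ha hb hc hd
  have hswap : ∀ s : S, (s : (AddMonoid.End W)ˣ) ∉ N → ∀ u, s • u ∈ W2 ↔ u ∈ W1 := by
    intro s hs
    have hx : s * e * s⁻¹ ∈ R := hRn.conj_mem e he s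
    have hx1 : s * e * s⁻¹ ≠ 1 := fun h => hne (conj_eq_one_iff.1 h)
    have hiff : ∀ u, s • u ∈ fixSub (V := W) (s * e * s⁻¹) ↔ u ∈ W1 := fun u => by
      show (s * e * s⁻¹) • s • u = s • u ↔ e • u = u
      rw [← mul_smul, inv_mul_cancel_right, mul_smul, smul_left_cancel_iff]
    obtain ⟨w, hw1, hw0⟩ : ∃ w ∈ W1, w ≠ 0 := by
      by_contra hcon
      push Not at hcon
      rw [(AddSubgroup.eq_bot_iff_forall _).2 hcon, AddSubgroup.card_bot] at hc1
      norm_num at hc1
    rcases hfx _ hx hx1 (s • w) (fun h => hw0 ((smul_eq_zero_iff_eq s).1 h)) ((hiff w).2 hw1)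
      with h | h
    · refine absurd ⟨s.2, fun u => ?_⟩ hs
      rw [← hiff u, h]
      rfl
    · intro u
      rw [← hiff u, h]
  by_cases hex : ∃ s₀ : S, (s₀ : (AddMonoid.End W)ˣ) ∉ N
  swap
  · push Not at hex
    have hle : S ≤ N := fun s hs => hex ⟨s, hs⟩
    have heq : S = N := le_antisymm hle hNS
    refine ⟨?_, ?_⟩
    · rw [heq]; omega
    · rw [heq]; omega
  obtain ⟨s₀, hs₀⟩ := hex
  have hquot : ∀ s : S, (s : (AddMonoid.End W)ˣ) ∉ N → ((s₀⁻¹ * s : S) : (AddMonoid.End W)ˣ) ∈ N := by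
    intro s hs
    refine ⟨(s₀⁻¹ * s).2, fun u => ?_⟩
    have h1 := hswap s₀ hs₀ ((s₀⁻¹ * s) • u)
    rw [← mul_smul, mul_inv_cancel_left] at h1
    exact h1.symm.trans (hswap s hs u)
  constructor
  · calc Nat.card S ≤ Nat.card (N ⊕ N) := by
          refine Nat.card_le_card_of_injective (fun s : S =>
            if h : (s : (AddMonoid.End W)ˣ) ∈ N then Sum.inl ⟨_, h⟩
            else Sum.inr ⟨_, hquot s h⟩) ?_
          intro a b hab
          simp only at hab
          by_cases ha : (a : (AddMonoid.End W)ˣ) ∈ N <;> by_cases hb : (b : (AddMonoid.End W)ˣ) ∈ N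
          · rw [dif_pos ha, dif_pos hb, Sum.inl.injEq] at hab
            exact Subtype.ext (congrArg (fun z : N => z.1) hab)
          · rw [dif_pos ha, dif_neg hb] at hab; exact absurd hab (by simp)
          · rw [dif_neg ha, dif_pos hb] at hab; exact absurd hab (by simp)
          · rw [dif_neg ha, dif_neg hb, Sum.inr.injEq] at hab
            exact mul_left_cancel (Subtype.ext (congrArg (fun z : N => z.1) hab) :
              s₀⁻¹ * a = s₀⁻¹ * b)
      _ = Nat.card N + Nat.card N := Nat.card_sum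
      _ ≤ 800 := by omega
  · calc sqCount S ≤ Nat.card ({n : N // n * n = 1} ⊕ (resHom N W1 hN1).range) := by
          refine Nat.card_le_card_of_injective (fun s : {s : S // s * s = 1} =>
            if h : (s.1 : (AddMonoid.End W)ˣ) ∈ N then Sum.inl ⟨⟨_, h⟩, Subtype.ext (by
              have := congrArg Subtype.val s.2; exact this)⟩
            else Sum.inr ⟨_, ⟨_, hquot s.1 h⟩, rfl⟩) ?_
          intro a b hab
          simp only at hab
          by_cases ha : (a.1 : (AddMonoid.End W)ˣ) ∈ N <;>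
            by_cases hb : (b.1 : (AddMonoid.End W)ˣ) ∈ N
          · rw [dif_pos ha, dif_pos hb, Sum.inl.injEq] at hab
            exact Subtype.ext (Subtype.ext (congrArg (fun z : {n : N // n * n = 1} => z.1.1) hab))
          · rw [dif_pos ha, dif_neg hb] at hab; exact absurd hab (by simp)
          · rw [dif_neg ha, dif_pos hb] at hab; exact absurd hab (by simp)
          · rw [dif_neg ha, dif_neg hb, Sum.inr.injEq] at hab
            have h1 : ∀ u ∈ W1, a.1 • u = b.1 • u := by
              intro u hu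
              have := congrArg (fun z : (resHom N W1 hN1).range =>
                ((z.1 • (⟨u, hu⟩ : W1) : W1) : W)) hab
              have h3 : (s₀⁻¹ * a.1) • u = (s₀⁻¹ * b.1) • u := this
              rwa [mul_smul, mul_smul, smul_left_cancel_iff] at h3
            refine Subtype.ext (FaithfulSMul.eq_of_smul_eq_smul fun w : W => ?_)
            have hmem : w ∈ W1 ⊔ W2 := (Φ.toBForm.sup_perp hnd).symm ▸ AddSubgroup.mem_top w
            obtain ⟨u, hu, v, hv, rfl⟩ := AddSubgroup.mem_sup.1 hmem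
            obtain ⟨u', hu', rfl⟩ : ∃ u' ∈ W1, a.1 • u' = v := by
              refine ⟨a.1⁻¹ • v, ?_, smul_inv_smul _ _⟩
              rw [← hswap a.1 ha, smul_inv_smul]
              exact hv
            rw [smul_add, smul_add, h1 u hu]
            congr 1
            conv_rhs => rw [h1 u' hu']
            rw [← mul_smul, ← mul_smul, a.2, b.2]
      _ = sqCount N + Nat.card (resHom N W1 hN1).range := Nat.card_sum
      _ ≤ 56 := by omega

/-- Rank four. -/
theorem rankFour (hW : Nat.card W = 256) : Nat.card S ≤ 1360 ∧ sqCount S ≤ 86 := by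
  haveI := nontrivial_of_card hW (by norm_num)
  haveI := hS.solv
  haveI := hS.nontrivial
  by_cases hirr : ∀ U : AddSubgroup W, Inv S U → U = ⊥ ∨ U = ⊤
  swap
  · push Not at hirr
    obtain ⟨U, hU, hb, ht⟩ := hirr
    obtain ⟨k, l, hk, hl, hk1, hl1, hkl⟩ := hS.card_split hU (m := 4) (by rw [hW]; norm_num)
    have hkl0 : ¬ (k = 0 ∨ l = 0) := fun h => by
      rcases hS.eq_bot_or_top hk hl hU h with h | h
      · exact hb h
      · exact ht h
    have := hS.split_two hW hU (by rw [hk, show k = 2 by omega]; norm_num)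
    omega
  have honly : ∀ p : ℕ, p.Prime → Cfsg.pCore p S ≠ ⊥ → p = 5 ∨ p = 17 := by
    intro p hp hne
    obtain ⟨-, h3, hdvd⟩ := hS.core_facts hirr hp hne
    rw [hW, show 256 - 1 = 3 * 5 * 17 from rfl] at hdvd
    rcases hp.dvd_mul.1 hdvd with h | h
    · rcases hp.dvd_mul.1 h with h | h
      · exact absurd ((Nat.prime_dvd_prime_iff_eq hp Nat.prime_three).1 h) h3
      · exact Or.inl ((Nat.prime_dvd_prime_iff_eq hp (by norm_num)).1 h)
    · exact Or.inr ((Nat.prime_dvd_prime_iff_eq hp (by norm_num)).1 h)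
  by_cases h17 : Cfsg.pCore 17 S ≠ ⊥
  · -- Singer case
    have hp : Nat.Prime 17 := by norm_num
    haveI := Fact.mk hp
    haveI : (Cfsg.pCore 17 S).Normal := inferInstance
    have hpg := Lib.PSolvable.pCore_isPGroup (p := 17) (G := S)
    obtain ⟨-, -, hfix, -⟩ := hS.pgroup_facts hirr hpg h17
    obtain ⟨a, ha, hdv⟩ := pow_dvd_gl Φ.toBForm.exp (d := 8) (by rw [hW]; norm_num) hpg
    have hR : Nat.card (Cfsg.pCore 17 S) = 17 := by
      rcases a with _ | _ | a
      · exact absurd (Subgroup.eq_bot_of_card_eq _ (by rw [ha, pow_zero])) h17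
      · rw [ha, zero_add, pow_one]
      · exfalso
        have := (pow_dvd_pow 17 (show 2 ≤ a + 1 + 1 by omega)).trans hdv
        norm_num [Fin.prod_univ_succ] at this
    obtain ⟨hcyc, hker, hle⟩ := conj_facts hp (Cfsg.pCore 17 S) hR
    have hC : Nat.card (Subgroup.centralizer (Cfsg.pCore 17 S : Set S)) ∣ 85 := by
      have h := card_centralizer_dvd (R := Cfsg.pCore 17 S) fun U hU =>
        irr_of_mod hpg Φ.toBForm.exp (d := 8) (by rw [hW]; norm_num) hfix (by decide) hU
      rw [hW, show 256 - 1 = 3 * 85 from rfl] at h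
      refine Nat.Coprime.dvd_of_dvd_mul_left ?_ h
      exact ((Nat.prime_three.coprime_iff_not_dvd).2 fun h' =>
        hS.three (h'.trans (Subgroup.card_subgroup_dvd_card _))).symm
    have hC85 := Nat.le_of_dvd (by norm_num) hC
    refine ⟨hle.trans ?_, ?_⟩
    · have := Nat.mul_le_mul_right 16 hC85
      simpa using this
    · haveI := hcyc
      have h := sqCount_le (MulAut.conjNormal : S →* MulAut (Cfsg.pCore 17 S))
        (by rw [hker]; exact (show Odd 85 by decide).of_dvd_nat hC)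
      rw [hker] at h
      refine le_trans h ?_
      omega
  push Not at h17
  obtain ⟨p, hp, hne⟩ := exists_pCore_ne_bot (H := S)
  obtain rfl : p = 5 := by
    rcases honly p hp hne with h | h
    · exact h
    · subst h; exact absurd h17 hne
  haveI := Fact.mk hp
  haveI : (Cfsg.pCore 5 S).Normal := inferInstance
  have hpg := Lib.PSolvable.pCore_isPGroup (p := 5) (G := S)
  obtain ⟨-, -, hfix, -⟩ := hS.pgroup_facts hirr hpg hne
  have hCle := centralizer_pCore_le (H := S) (r := 5) fun q hq hq5 => by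
    by_contra h
    rcases honly q hq h with e | e
    · exact hq5 e
    · subst e; exact h h17
  obtain ⟨a, ha, hdv⟩ := pow_dvd_gl Φ.toBForm.exp (d := 8) (by rw [hW]; norm_num) hpg
  rcases a with _ | _ | _ | a
  · exact absurd (Subgroup.eq_bot_of_card_eq _ (by rw [ha, pow_zero])) hne
  · obtain ⟨-, -, hle⟩ := conj_facts hp (Cfsg.pCore 5 S) (by rw [ha, zero_add, pow_one])
    have hC5 : Nat.card (Subgroup.centralizer (Cfsg.pCore 5 S : Set S)) ≤ 5 := by
      refine (Subgroup.card_le_of_le hCle).trans ?_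
      rw [ha, zero_add, pow_one]
    have h20 : Nat.card S ≤ 20 := hle.trans (Nat.mul_le_mul_right _ hC5)
    have hsq : sqCount S ≤ Nat.card S := Nat.card_le_card_of_injective _ Subtype.val_injective
    omega
  · obtain ⟨h1, h2⟩ := hS.rankFour_twentyfive hW (R := Cfsg.pCore 5 S) (by rw [ha]; norm_num) hfix
    omega
  · exfalso
    have := (pow_dvd_pow 5 (show 3 ≤ a + 1 + 1 + 1 by omega)).trans hdv
    norm_num [Fin.prod_univ_succ] at this

/-- Rank five. -/
theorem rankFive (hW : Nat.card W = 1024) : Nat.card S ≤ 34100 := by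
  haveI := nontrivial_of_card hW (by norm_num)
  haveI := hS.solv
  haveI := hS.nontrivial
  by_cases hirr : ∀ U : AddSubgroup W, Inv S U → U = ⊥ ∨ U = ⊤
  swap
  · push Not at hirr
    obtain ⟨U, hU, hb, ht⟩ := hirr
    obtain ⟨k, l, hk, hl, hk1, hl1, hkl⟩ := hS.card_split hU (m := 5) (by rw [hW]; norm_num)
    have hkl0 : ¬ (k = 0 ∨ l = 0) := fun h => by
      rcases hS.eq_bot_or_top hk hl hU h with h | h
      · exact hb h
      · exact ht h
    have hnd := hS.nondeg hU
    have hU' := hS.inv_perp hU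
    have hsq : ∀ T : AddSubgroup W, ∀ hT : Inv S T, sqCount (resHom S T hT).range ≤
        Nat.card (resHom S T hT).range := fun T hT =>
      Nat.card_le_card_of_injective _ Subtype.val_injective
    rcases (show k = 2 ∧ l = 3 ∨ k = 3 ∧ l = 2 by omega) with ⟨rfl, rfl⟩ | ⟨rfl, rfl⟩
    · obtain ⟨-, -, -, -, -, h1, -⟩ := (hS.good_sub hU).rankTwo (by rw [hk]; norm_num)
      obtain ⟨h2, -⟩ := (hS.good_sub hU').rankThree (by rw [hl]; norm_num)
      obtain ⟨h, -⟩ := split_bound hnd hU hU' h1 h2 (hsq U hU) (hsq _ hU')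
      omega
    · obtain ⟨h1, -⟩ := (hS.good_sub hU).rankThree (by rw [hk]; norm_num)
      obtain ⟨-, -, -, -, -, h2, -⟩ := (hS.good_sub hU').rankTwo (by rw [hl]; norm_num)
      obtain ⟨h, -⟩ := split_bound hnd hU hU' h1 h2 (hsq U hU) (hsq _ hU')
      omega
  have honly : ∀ p : ℕ, p.Prime → Cfsg.pCore p S ≠ ⊥ → p = 11 ∨ p = 31 := by
    intro p hp hne
    obtain ⟨-, h3, hdvd⟩ := hS.core_facts hirr hp hne
    rw [hW, show 1024 - 1 = 3 * 11 * 31 from rfl] at hdvd
    rcases hp.dvd_mul.1 hdvd with h | h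
    · rcases hp.dvd_mul.1 h with h | h
      · exact absurd ((Nat.prime_dvd_prime_iff_eq hp Nat.prime_three).1 h) h3
      · exact Or.inl ((Nat.prime_dvd_prime_iff_eq hp (by norm_num)).1 h)
    · exact Or.inr ((Nat.prime_dvd_prime_iff_eq hp (by norm_num)).1 h)
  by_cases h11 : Cfsg.pCore 11 S ≠ ⊥
  · have hp : Nat.Prime 11 := by norm_num
    haveI := Fact.mk hp
    haveI : (Cfsg.pCore 11 S).Normal := inferInstance
    have hpg := Lib.PSolvable.pCore_isPGroup (p := 11) (G := S)
    obtain ⟨-, -, hfix, -⟩ := hS.pgroup_facts hirr hpg h11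
    obtain ⟨a, ha, hdv⟩ := pow_dvd_gl Φ.toBForm.exp (d := 10) (by rw [hW]; norm_num) hpg
    have hR : Nat.card (Cfsg.pCore 11 S) = 11 := by
      rcases a with _ | _ | a
      · exact absurd (Subgroup.eq_bot_of_card_eq _ (by rw [ha, pow_zero])) h11
      · rw [ha, zero_add, pow_one]
      · exfalso
        have := (pow_dvd_pow 11 (show 2 ≤ a + 1 + 1 by omega)).trans hdv
        norm_num [Fin.prod_univ_succ] at this
    obtain ⟨-, -, hle⟩ := conj_facts hp (Cfsg.pCore 11 S) hR
    have hC : Nat.card (Subgroup.centralizer (Cfsg.pCore 11 S : Set S)) ≤ 1023 := by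
      have h := card_centralizer_dvd (R := Cfsg.pCore 11 S) fun U hU =>
        irr_of_mod hpg Φ.toBForm.exp (d := 10) (by rw [hW]; norm_num) hfix (by decide) hU
      rw [hW] at h
      exact Nat.le_of_dvd (by norm_num) h
    have := hle.trans (Nat.mul_le_mul_right _ hC)
    omega
  push Not at h11
  obtain ⟨p, hp, hne⟩ := exists_pCore_ne_bot (H := S)
  obtain rfl : p = 31 := by
    rcases honly p hp hne with h | h
    · subst h; exact absurd h11 hne
    · exact h
  haveI := Fact.mk hp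
  haveI : (Cfsg.pCore 31 S).Normal := inferInstance
  have hpg := Lib.PSolvable.pCore_isPGroup (p := 31) (G := S)
  obtain ⟨-, -, hfix, -⟩ := hS.pgroup_facts hirr hpg hne
  have hCle := centralizer_pCore_le (H := S) (r := 31) fun q hq hq5 => by
    by_contra h
    rcases honly q hq h with e | e
    · subst e; exact h h11
    · exact hq5 e
  obtain ⟨a, ha, hdv⟩ := pow_dvd_gl Φ.toBForm.exp (d := 10) (by rw [hW]; norm_num) hpg
  rcases a with _ | _ | _ | a
  · exact absurd (Subgroup.eq_bot_of_card_eq _ (by rw [ha, pow_zero])) hne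
  · obtain ⟨-, -, hle⟩ := conj_facts hp (Cfsg.pCore 31 S) (by rw [ha, zero_add, pow_one])
    have hC : Nat.card (Subgroup.centralizer (Cfsg.pCore 31 S : Set S)) ≤ 31 := by
      refine (Subgroup.card_le_of_le hCle).trans ?_
      rw [ha, zero_add, pow_one]
    have := hle.trans (Nat.mul_le_mul_right _ hC)
    omega
  · exfalso
    obtain ⟨e, -, -, -, -, k, -, hk0, hk5, hkmod⟩ := hS.sq_case (r := 31) (m := 5) (by norm_num)
      (R := Cfsg.pCore 31 S) (by rw [ha]) (by rw [hW]; norm_num) (by rw [hW]; norm_num) hfix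
    interval_cases k <;> simp at hkmod
  · exfalso
    have := (pow_dvd_pow 31 (show 3 ≤ a + 1 + 1 + 1 by omega)).trans hdv
    norm_num [Fin.prod_univ_succ] at this

end GoodS

end Cfsg.Agent.DP71.Three
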