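import Cfsg.Agent.Lib.DolfiPair71.ThreeSetup
import Cfsg.Agent.Lib.DolfiPair71.ThreeQuotBig

/-!
# The frame over the field with three elements: counting
-/

set_option autoImplicit false
set_option linter.unusedSectionVars false
set_option linter.style.haveILetI false

namespace Cfsg.Agent.DP71.Three

open Cfsg.Agent.Lib.BaseThree
open Cfsg.Agent.OP71 (fx fixSub mem_fixSub)

variable {V : Type} [AddCommGroup V] [Finite V] [Nontrivial V]
  {G Z F : Subgroup (AddMonoid.End V)ˣ} {K : Subring (AddMonoid.End V)}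

/-- The negative of an element. -/
def negG (c : Ctx G Z F K) (g : G) : G :=
  ⟨-(g : (AddMonoid.End V)ˣ), by
    rw [← neg_one_mul]
    exact G.mul_mem (c.hF.le c.neg_one_mem_F) g.2⟩

theorem coe_negG (c : Ctx G Z F K) (g : G) :
    (negG c g : (AddMonoid.End V)ˣ) = -(g : (AddMonoid.End V)ˣ) := rfl

theorem negG_negG (c : Ctx G Z F K) (g : G) : negG c (negG c g) = g :=
  Subtype.ext (neg_neg _)

/-- Without a pair the fixed point counts are large. -/
theorem le_sum_of_no_pair [Fintype G] [DecidableEq G] (h : ¬ HasPair G) :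
    Nat.card V ^ 2 ≤
      ∑ g ∈ Finset.univ.filter (fun g : G => g ≠ 1), fx V (g : (AddMonoid.End V)ˣ) ^ 2 := by
  let ι := {g : G // g ≠ 1}
  have h1 : Nat.card (V × V) ≤ Nat.card ((g : ι) ×
      (fixSub (V := V) (g.1 : (AddMonoid.End V)ˣ) × fixSub (V := V) (g.1 : (AddMonoid.End V)ˣ))) := by
    refine Nat.card_le_card_of_surjective (fun p => (p.2.1.1, p.2.2.1)) fun p => ?_
    by_contra hcon
    refine h ⟨p.1, p.2, fun g hg hx hy => ?_⟩
    by_contra hg1
    exact hcon ⟨⟨⟨⟨g, hg⟩, fun e => hg1 (congrArg Subtype.val e)⟩, ⟨p.1, hx⟩, ⟨p.2, hy⟩⟩, rfl⟩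
  rw [Nat.card_prod, ← sq, Nat.card_sigma] at h1
  refine h1.trans (le_of_eq ?_)
  rw [Finset.sum_subtype (Finset.univ.filter (fun g : G => g ≠ 1)) (p := fun g : G => g ≠ 1)
    (fun g => by simp)]
  refine Finset.sum_congr rfl fun g _ => ?_
  rw [Nat.card_prod, sq]
  rfl

/-- The master count. -/
theorem pair_of_count (c : Ctx G Z F K) (P : G → Prop) (k L V0 : ℕ)
    (hlo : ∀ g : G, g ≠ 1 → ¬ P g → fx V (g : (AddMonoid.End V)ˣ) ^ 2 ≤ Nat.card V)
    (hhi : ∀ g : G, P g → fx V (g : (AddMonoid.End V)ˣ) ^ 4 ≤ Nat.card V ^ 3)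
    (hneg : ∀ g : G, P g → P (negG c g)) (hk : Nat.card {g : G // P g} ≤ 2 * k)
    (hL : Nat.card G + k ≤ L) (hV0 : V0 ≤ Nat.card V) (hLV : L < V0)
    (hnum : k ^ 2 * V0 < (V0 - L) ^ 2) : HasPair G := by
  classical
  haveI : Fintype G := Fintype.ofFinite G
  by_contra hcon
  have hsum := le_sum_of_no_pair hcon
  set Vc := Nat.card V with hVdef
  set X := Nat.sqrt (Vc ^ 3) with hX
  let f : G → ℕ := fun g => fx V (g : (AddMonoid.End V)ˣ) ^ 2
  -- the elements with large fixed spaces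
  have hpair : ∀ g : G, P g → f g + f (negG c g) ≤ X + Vc := by
    intro g hg
    have ha : f g ≤ X := Nat.le_sqrt'.2 (by
      show (fx V (g : (AddMonoid.End V)ˣ) ^ 2) ^ 2 ≤ _
      rw [← pow_mul]; exact hhi g hg)
    have hb : f (negG c g) ≤ X := Nat.le_sqrt'.2 (by
      show (fx V ((negG c g : G) : (AddMonoid.End V)ˣ) ^ 2) ^ 2 ≤ _
      rw [← pow_mul]; exact hhi _ (hneg g hg))
    have hab := c.fx_pair (g : (AddMonoid.End V)ˣ)
    rcases Nat.le_total (fx V (g : (AddMonoid.End V)ˣ)) (fx V (-(g : (AddMonoid.End V)ˣ))) with h | h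
    · have h1 : f g ≤ Vc := by
        show fx V _ ^ 2 ≤ _
        rw [sq]
        exact (Nat.mul_le_mul_left _ h).trans hab
      omega
    · have h1 : f (negG c g) ≤ Vc := by
        show fx V (-(g : (AddMonoid.End V)ˣ)) ^ 2 ≤ _
        rw [sq]
        exact (Nat.mul_le_mul_right _ h).trans hab
      omega
  let T := Finset.univ.filter P
  have hT : 2 * ∑ g ∈ T, f g ≤ 2 * k * (X + Vc) := by
    have hswap : ∑ g ∈ T, f g = ∑ g ∈ T, f (negG c g) := by
      refine Finset.sum_nbij' (negG c) (negG c) ?_ ?_ ?_ ?_ ?_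
      · intro g hg
        exact Finset.mem_filter.2 ⟨Finset.mem_univ _, hneg g (Finset.mem_filter.1 hg).2⟩
      · intro g hg
        exact Finset.mem_filter.2 ⟨Finset.mem_univ _, hneg g (Finset.mem_filter.1 hg).2⟩
      · exact fun g _ => negG_negG c g
      · exact fun g _ => negG_negG c g
      · intro g _
        rw [negG_negG]
    calc 2 * ∑ g ∈ T, f g = ∑ g ∈ T, (f g + f (negG c g)) := by
          rw [Finset.sum_add_distrib, ← hswap, two_mul]
      _ ≤ ∑ _g ∈ T, (X + Vc) := Finset.sum_le_sum fun g hg => hpair g (Finset.mem_filter.1 hg).2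
      _ ≤ 2 * k * (X + Vc) := by
          rw [Finset.sum_const, smul_eq_mul]
          refine Nat.mul_le_mul_right _ ?_
          rw [Nat.card_eq_fintype_card, Fintype.card_subtype] at hk
          exact hk
  have hrest : ∑ g ∈ (Finset.univ.filter (fun g : G => g ≠ 1)).filter (fun g => ¬ P g), f g ≤
      Nat.card G * Vc := by
    refine (Finset.sum_le_sum (g := fun _ => Vc) fun g hg => ?_).trans ?_
    · rw [Finset.mem_filter, Finset.mem_filter] at hg
      exact hlo g hg.1.2 hg.2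
    · rw [Finset.sum_const, smul_eq_mul, Nat.card_eq_fintype_card]
      exact Nat.mul_le_mul_right _ (Finset.card_le_univ _)
  have hsplit := Finset.sum_filter_add_sum_filter_not (Finset.univ.filter (fun g : G => g ≠ 1)) P f
  have hTle : ∑ g ∈ (Finset.univ.filter (fun g : G => g ≠ 1)).filter P, f g ≤ ∑ g ∈ T, f g :=
    Finset.sum_le_sum_of_subset_of_nonneg (fun g hg => by
      rw [Finset.mem_filter] at hg
      exact Finset.mem_filter.2 ⟨Finset.mem_univ _, hg.2⟩) fun _ _ _ => Nat.zero_le _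
  have htot : Vc ^ 2 ≤ k * X + L * Vc := by
    have h2 : Vc ^ 2 ≤ ∑ g ∈ T, f g + Nat.card G * Vc := by
      refine hsum.trans (le_of_eq_of_le hsplit.symm ?_)
      exact Nat.add_le_add hTle hrest
    have h3 : ∑ g ∈ T, f g ≤ k * (X + Vc) := by
      rw [mul_assoc] at hT
      omega
    have h4 := Nat.mul_le_mul_right Vc hL
    rw [Nat.mul_add] at h3
    rw [Nat.add_mul] at h4
    omega
  -- `k X < Vc (Vc - L)`
  have hVL : L ≤ Vc := by omega
  have hmono : Vc * (V0 - L) ≤ (Vc - L) * V0 := by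
    obtain ⟨d, hd⟩ : ∃ d, V0 = L + d := ⟨V0 - L, by omega⟩
    obtain ⟨e, he⟩ : ∃ e, Vc = V0 + e := ⟨Vc - V0, by omega⟩
    rw [show V0 - L = d by omega, show Vc - L = d + e by omega, he, hd]
    nlinarith
  have hkV : k ^ 2 * Vc < (Vc - L) ^ 2 := by
    have hpos : 0 < Vc := Nat.card_pos
    have h1 : Vc ^ 2 * (k ^ 2 * V0) < Vc ^ 2 * (V0 - L) ^ 2 :=
      Nat.mul_lt_mul_of_pos_left hnum (pow_pos hpos 2)
    have h2 : Vc ^ 2 * (V0 - L) ^ 2 ≤ ((Vc - L) * V0) ^ 2 := by
      rw [← mul_pow]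
      exact Nat.pow_le_pow_left hmono 2
    have h3 : k ^ 2 * Vc * V0 ^ 2 ≤ Vc ^ 2 * (k ^ 2 * V0) := by
      calc k ^ 2 * Vc * V0 ^ 2 = (k ^ 2 * Vc * V0) * V0 := by ring
        _ ≤ (k ^ 2 * Vc * V0) * Vc := Nat.mul_le_mul_left _ hV0
        _ = _ := by ring
    have h4 : k ^ 2 * Vc * V0 ^ 2 < (Vc - L) ^ 2 * V0 ^ 2 := by
      rw [← mul_pow]
      omega
    exact Nat.lt_of_mul_lt_mul_right h4
  have hX2 : X ^ 2 ≤ Vc ^ 3 := Nat.sqrt_le' _
  have hkX : k * X < Vc * (Vc - L) := by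
    refine lt_of_pow_lt_pow_left₀ 2 (Nat.zero_le _) ?_
    calc (k * X) ^ 2 = k ^ 2 * X ^ 2 := by ring
      _ ≤ k ^ 2 * Vc ^ 3 := Nat.mul_le_mul_left _ hX2
      _ = Vc ^ 2 * (k ^ 2 * Vc) := by ring
      _ < Vc ^ 2 * (Vc - L) ^ 2 := Nat.mul_lt_mul_of_pos_left hkV (pow_pos Nat.card_pos 2)
      _ = _ := by ring
  rw [Nat.mul_sub, ← sq, mul_comm Vc L] at hkX
  omega

theorem card_Z_le (c : Ctx G Z F K) : Nat.card Z ≤ 2 := by
  classical
  have h := Nat.card_le_card_of_injective (fun z : Z => decide ((z : (AddMonoid.End V)ˣ) = 1))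
    fun a b hab => by
      simp only [decide_eq_decide] at hab
      refine Subtype.ext ?_
      rcases c.mem_Z a.2 with h | h <;> rcases c.mem_Z b.2 with h' | h'
      · rw [h, h']
      · exact absurd (h'.symm.trans (hab.1 h)) c.neg_one_ne_one
      · exact absurd (h.symm.trans (hab.2 h')) c.neg_one_ne_one
      · rw [h, h']
  simpa using h

namespace Quo

variable {W : Type} [AddCommGroup W] [Finite W] {hn : ∀ g ∈ G, ∀ f ∈ F, g * f * g⁻¹ ∈ F}
  (Q : Quo G Z F hn W) (c : Ctx G Z F K)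
include c

theorem ρ_negG (g : G) : Q.ρ (negG c g) = Q.ρ g := by
  have h1 : negG c g = ⟨-1, c.hF.le c.neg_one_mem_F⟩ * g := Subtype.ext (neg_one_mul _).symm
  rw [h1, map_mul, (Q.ρ_eq_one_iff c _).2 c.neg_one_mem_F, one_mul]

theorem card_preimage_le (U : AddSubgroup W) :
    Nat.card {a : F // Q.π a ∈ U} ≤ 2 * Nat.card U := by
  classical
  choose σ hσ using Q.surj
  have hz : ∀ a : F, (((σ (Q.π a))⁻¹ * a : F) : (AddMonoid.End V)ˣ) ∈ Z := fun a => (Q.eq_zero _).1
    (by rw [Q.π_mul, Q.π_inv, hσ, Q.Φ.toBForm.exp])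
  have h := Nat.card_le_card_of_injective
    (fun a : {a : F // Q.π a ∈ U} => ((⟨Q.π a.1, a.2⟩ : U), (⟨_, hz a.1⟩ : Z))) fun a b hab => by
      simp only [Prod.mk.injEq, Subtype.mk.injEq] at hab
      obtain ⟨h1, h2⟩ := hab
      rw [h1] at h2
      exact Subtype.ext (Subtype.ext (mul_left_cancel h2))
  rw [Nat.card_prod, mul_comm] at h
  exact h.trans (Nat.mul_le_mul_right _ (card_Z_le c))

theorem card_spec_le {a b : ℕ} (hsq : sqCount Q.ρ.range ≤ a + 1)
    (hfix : ∀ g : G, Q.Spec g → 2 * Nat.card (fixSub (V := W) (Q.ρ g)) ≤ b) :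
    Nat.card {g : G // Q.Spec g} ≤ b * a := by
  classical
  haveI : Fintype {g : G // Q.Spec g} := Fintype.ofFinite _
  let S := Q.ρ.range
  haveI : Fintype S := Fintype.ofFinite S
  let φ : {g : G // Q.Spec g} → S := fun g => ⟨_, g.1, rfl⟩
  rw [Nat.card_eq_fintype_card, ← Finset.card_univ]
  refine (Finset.card_le_mul_card_image (f := φ) Finset.univ b ?_).trans (Nat.mul_le_mul_left _ ?_)
  · intro s hs
    obtain ⟨g₀, -, rfl⟩ := Finset.mem_image.1 hs
    refine le_trans ?_ (hfix g₀.1 g₀.2)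
    refine le_trans ?_ (Q.card_preimage_le c (fixSub (V := W) (Q.ρ g₀.1)))
    rw [← Fintype.card_subtype, ← Nat.card_eq_fintype_card]
    have hmem : ∀ g : {g : {g : G // Q.Spec g} // φ g = φ g₀},
        ((g₀.1⁻¹ * g.1.1 : G) : (AddMonoid.End V)ˣ) ∈ F := fun g => by
      rw [← Q.ρ_eq_one_iff c, map_mul, map_inv, inv_mul_eq_one]
      exact (congrArg Subtype.val g.2).symm
    refine Nat.card_le_card_of_injective (fun g => ⟨⟨_, hmem g⟩, ?_⟩) ?_
    · -- two involutions with the same image differ by a fixed vector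
      let f : F := ⟨_, hmem g⟩
      show Q.ρ g₀.1 • Q.π f = Q.π f
      rw [Q.act, ← Q.π_inv f]
      refine congrArg Q.π (Subtype.ext ?_)
      have e0 : (g₀.1 : (AddMonoid.End V)ˣ) * g₀.1 = 1 := by rw [← pow_two]; exact g₀.2.2.1
      have e1 : (g.1.1 : (AddMonoid.End V)ˣ) * g.1.1 = 1 := by rw [← pow_two]; exact g.1.2.2.1
      simp only [f, Subgroup.coe_mul, Subgroup.coe_inv, mul_inv_rev,
        inv_eq_of_mul_eq_one_right e0, inv_eq_of_mul_eq_one_right e1]
      rw [← mul_assoc (g₀.1 : (AddMonoid.End V)ˣ) (g₀.1 : (AddMonoid.End V)ˣ), e0, one_mul]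
    · intro g g' h
      simp only [Subtype.mk.injEq, Subgroup.coe_mul, mul_right_inj] at h
      exact Subtype.ext (Subtype.ext (Subtype.ext h))
  · have hsub : Finset.univ.image φ ⊆
        (Finset.univ.filter fun s : S => s * s = 1).erase 1 := by
      intro s hs
      obtain ⟨g, -, rfl⟩ := Finset.mem_image.1 hs
      rw [Finset.mem_erase, Finset.mem_filter]
      refine ⟨fun h => g.2.1 ((Q.ρ_eq_one_iff c _).1 (congrArg Subtype.val h)), Finset.mem_univ _,
        Subtype.ext ?_⟩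
      exact mul_self_of_special ((Q.good c).pres _ ⟨g.1, rfl⟩) g.2.2.2
    refine (Finset.card_le_card hsub).trans ?_
    rw [Finset.card_erase_of_mem (by simp), ← Fintype.card_subtype, ← Nat.card_eq_fintype_card]
    exact Nat.sub_le_of_le_add hsq

end Quo

end Cfsg.Agent.DP71.Three
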