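import Mathlib

/-!
# Symplectic forms with squaring forms on groups of exponent two
-/

set_option autoImplicit false
set_option linter.unusedSectionVars false
set_option linter.style.haveILetI false

namespace Cfsg.Agent.DP71.Three

/-- A nondegenerate alternating symmetric biadditive form with values in two elements. -/
structure BForm (W : Type) [AddCommGroup W] where
  B : W → W → ZMod 2
  add_left : ∀ x y z, B (x + y) z = B x z + B y z
  symm : ∀ x y, B x y = B y x
  alt : ∀ x, B x x = 0
  nondeg : ∀ x, (∀ y, B x y = 0) → x = 0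

/-- A form with a quadratic form polarising to it. -/
structure QForm (W : Type) [AddCommGroup W] extends BForm W where
  q : W → ZMod 2
  q_add : ∀ x y, q (x + y) = q x + q y + B x y

theorem zmod_two_add_self (a : ZMod 2) : a + a = 0 := by
  revert a; decide

theorem zmod_two_cases (a : ZMod 2) : a = 0 ∨ a = 1 := by
  revert a; decide

theorem zmod_two_eq_one {a : ZMod 2} (h : a ≠ 0) : a = 1 := by
  revert a; decide

/-- There are at most as many functionals as elements. -/
theorem card_hom_le {Q : Type} [AddCommGroup Q] [Finite Q] (hexp : ∀ x : Q, x + x = 0) :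
    Nat.card (Q →+ ZMod 2) ≤ Nat.card Q := by
  letI : Module (ZMod 2) Q := AddCommGroup.zmodModule (n := 2) fun x => by rw [two_nsmul, hexp]
  haveI : Module.Finite (ZMod 2) Q := Module.Finite.of_finite
  haveI : Finite (Q →ₗ[ZMod 2] ZMod 2) :=
    Finite.of_injective (fun f : Q →ₗ[ZMod 2] ZMod 2 => (f : Q → ZMod 2)) DFunLike.coe_injective
  have h1 : Nat.card (Q →+ ZMod 2) ≤ Nat.card (Q →ₗ[ZMod 2] ZMod 2) :=
    Nat.card_le_card_of_injective (fun f => f.toZModLinearMap 2) (AddMonoidHom.toZModLinearMap_injective 2)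
  refine h1.trans (le_of_eq ?_)
  rw [Module.natCard_eq_pow_finrank (K := ZMod 2) (V := Q →ₗ[ZMod 2] ZMod 2),
    Module.natCard_eq_pow_finrank (K := ZMod 2) (V := Q)]
  exact congrArg _ Subspace.dual_finrank_eq

namespace BForm

variable {W : Type} [AddCommGroup W] (Φ : BForm W)

theorem add_right (x y z : W) : Φ.B x (y + z) = Φ.B x y + Φ.B x z := by
  rw [Φ.symm, Φ.add_left, Φ.symm y, Φ.symm z]

theorem zero_left (x : W) : Φ.B 0 x = 0 := by
  have h := Φ.add_left 0 0 x
  rw [add_zero] at h
  exact left_eq_add.1 h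

theorem zero_right (x : W) : Φ.B x 0 = 0 := by rw [Φ.symm, Φ.zero_left]

/-- `B x` as a functional. -/
def fn (x : W) : W →+ ZMod 2 where
  toFun := Φ.B x
  map_zero' := Φ.zero_right x
  map_add' := Φ.add_right x

@[simp] theorem fn_apply (x y : W) : Φ.fn x y = Φ.B x y := rfl

include Φ in
theorem exp (x : W) : x + x = 0 :=
  Φ.nondeg _ fun y => by rw [Φ.add_left, zmod_two_add_self]

include Φ in
theorem neg_eq (x : W) : -x = x := neg_eq_of_add_eq_zero_right (Φ.exp x)

include Φ in
theorem sub_eq (x y : W) : x - y = x + y := by rw [sub_eq_add_neg, Φ.neg_eq]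

theorem fn_injective : Function.Injective Φ.fn := by
  intro x y h
  have h1 : x + y = 0 := Φ.nondeg _ fun z => by
    have := DFunLike.congr_fun h z
    rw [fn_apply, fn_apply] at this
    rw [Φ.add_left, this, zmod_two_add_self]
  rw [add_eq_zero_iff_eq_neg, Φ.neg_eq] at h1
  exact h1

variable [Finite W]

theorem fn_surjective : Function.Surjective Φ.fn := by
  haveI : Finite (W →+ ZMod 2) :=
    Finite.of_injective (fun f : W →+ ZMod 2 => (f : W → ZMod 2)) DFunLike.coe_injective
  exact (Nat.bijective_iff_injective_and_card Φ.fn).2 ⟨Φ.fn_injective,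
    le_antisymm (Nat.card_le_card_of_injective _ Φ.fn_injective) (card_hom_le Φ.exp)⟩ |>.2

theorem exists_rep (φ : W →+ ZMod 2) : ∃ u, ∀ x, φ x = Φ.B u x := by
  obtain ⟨u, hu⟩ := Φ.fn_surjective φ
  exact ⟨u, fun x => by rw [← hu]; rfl⟩

/-- The orthogonal of a subgroup. -/
def perp (U : AddSubgroup W) : AddSubgroup W where
  carrier := {x | ∀ u ∈ U, Φ.B x u = 0}
  zero_mem' := fun u _ => Φ.zero_left u
  add_mem' := fun hx hy u hu => by rw [Φ.add_left, hx u hu, hy u hu, add_zero]
  neg_mem' := fun {x} hx => by rw [Φ.neg_eq]; exact hx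

theorem mem_perp {U : AddSubgroup W} {x : W} : x ∈ Φ.perp U ↔ ∀ u ∈ U, Φ.B x u = 0 := Iff.rfl

theorem card_mul_perp_le (U : AddSubgroup W) :
    Nat.card U * Nat.card (Φ.perp U) ≤ Nat.card W := by
  let ψ : U → (W ⧸ Φ.perp U →+ ZMod 2) := fun u => QuotientAddGroup.lift (Φ.perp U) (Φ.fn u)
    fun x hx => by
      show Φ.B u x = 0
      rw [Φ.symm]
      exact hx u u.2
  have hψ : Function.Injective ψ := by
    intro u v h
    refine Subtype.ext (Φ.fn_injective (AddMonoidHom.ext fun x => ?_))
    exact DFunLike.congr_fun h (QuotientAddGroup.mk x)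
  haveI : Finite (W ⧸ Φ.perp U →+ ZMod 2) :=
    Finite.of_injective (fun f : W ⧸ Φ.perp U →+ ZMod 2 => (f : W ⧸ Φ.perp U → ZMod 2))
      DFunLike.coe_injective
  have h1 := (Nat.card_le_card_of_injective ψ hψ).trans (card_hom_le (Q := W ⧸ Φ.perp U) fun x => by
    induction x using QuotientAddGroup.induction_on with
    | _ x => rw [← QuotientAddGroup.mk_add, Φ.exp, QuotientAddGroup.mk_zero])
  rw [AddSubgroup.card_eq_card_quotient_mul_card_addSubgroup (Φ.perp U)]
  exact Nat.mul_le_mul_right _ h1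

/-- The form on a subgroup meeting its orthogonal trivially. -/
def restrict (U : AddSubgroup W) (hU : U ⊓ Φ.perp U = ⊥) : BForm U where
  B x y := Φ.B x y
  add_left x y z := Φ.add_left x y z
  symm x y := Φ.symm x y
  alt x := Φ.alt x
  nondeg x h := by
    have h1 : (x : W) ∈ U ⊓ Φ.perp U := ⟨x.2, fun u hu => h ⟨u, hu⟩⟩
    rw [hU, AddSubgroup.mem_bot] at h1
    exact Subtype.ext h1

theorem sup_perp {U : AddSubgroup W} (hU : U ⊓ Φ.perp U = ⊥) : U ⊔ Φ.perp U = ⊤ := by
  rw [eq_top_iff]
  intro x _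
  obtain ⟨u, hu⟩ := (Φ.restrict U hU).exists_rep ((Φ.fn x).comp U.subtype)
  refine AddSubgroup.mem_sup.2 ⟨u, u.2, x - u, fun v hv => ?_, add_sub_cancel _ _⟩
  have h1 : Φ.B x v = Φ.B u v := hu ⟨v, hv⟩
  rw [Φ.sub_eq, Φ.add_left, h1, zmod_two_add_self]

theorem perp_inf_perp {U : AddSubgroup W} (hU : U ⊓ Φ.perp U = ⊥) :
    Φ.perp U ⊓ Φ.perp (Φ.perp U) = ⊥ := by
  rw [eq_bot_iff]
  intro x ⟨hx1, hx2⟩
  refine AddSubgroup.mem_bot.2 (Φ.nondeg x fun y => ?_)
  have hy : y ∈ U ⊔ Φ.perp U := (Φ.sup_perp hU).symm ▸ AddSubgroup.mem_top y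
  obtain ⟨u, hu, v, hv, rfl⟩ := AddSubgroup.mem_sup.1 hy
  rw [Φ.add_right, hx1 u hu, hx2 v hv, add_zero]

theorem exists_unique_split {U : AddSubgroup W} (hU : U ⊓ Φ.perp U = ⊥) :
    Function.Bijective (fun p : U × Φ.perp U => (p.1 : W) + p.2) := by
  constructor
  · rintro ⟨a, b⟩ ⟨c, d⟩ h
    simp only at h
    have h1 : (a : W) - c = d - b := by
      rw [sub_eq_sub_iff_add_eq_add, h, add_comm]
    have h2 : (a : W) - c ∈ U ⊓ Φ.perp U :=
      ⟨U.sub_mem a.2 c.2, h1 ▸ (Φ.perp U).sub_mem d.2 b.2⟩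
    rw [hU, AddSubgroup.mem_bot] at h2
    rw [h2] at h1
    exact Prod.ext (Subtype.ext (sub_eq_zero.1 h2)) (Subtype.ext (sub_eq_zero.1 h1.symm).symm)
  · intro x
    have hx : x ∈ U ⊔ Φ.perp U := (Φ.sup_perp hU).symm ▸ AddSubgroup.mem_top x
    obtain ⟨u, hu, v, hv, rfl⟩ := AddSubgroup.mem_sup.1 hx
    exact ⟨(⟨u, hu⟩, ⟨v, hv⟩), rfl⟩

theorem card_mul_perp {U : AddSubgroup W} (hU : U ⊓ Φ.perp U = ⊥) :
    Nat.card U * Nat.card (Φ.perp U) = Nat.card W := by
  rw [← Nat.card_prod]
  exact Nat.card_congr (Equiv.ofBijective _ (Φ.exists_unique_split hU))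

theorem exists_partner {x : W} (hx : x ≠ 0) : ∃ y, Φ.B x y = 1 := by
  by_contra h
  push Not at h
  exact hx (Φ.nondeg x fun y => by
    by_contra h1
    exact h y (zmod_two_eq_one h1))

end BForm

/-- A symplectic group of exponent two has order a power of four. -/
theorem card_eq_four_pow : ∀ (n : ℕ) (W : Type) [AddCommGroup W] [Finite W] (_Φ : BForm W),
    Nat.card W ≤ n → ∃ k : ℕ, Nat.card W = 4 ^ k := by
  intro n
  induction n with
  | zero => intro W _ _ _ h; exact absurd (Nat.card_pos (α := W)) (by omega)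
  | succ n ih =>
    intro W _ _ Φ hn
    rcases subsingleton_or_nontrivial W with h | h
    · exact ⟨0, by rw [pow_zero, Nat.card_unique]⟩
    obtain ⟨x, hx⟩ := exists_ne (0 : W)
    obtain ⟨y, hxy⟩ := Φ.exists_partner hx
    have hyx : Φ.B y x = 1 := by rw [Φ.symm, hxy]
    let f : ZMod 2 × ZMod 2 →+ W :=
      { toFun := fun p => (if p.1 = 0 then 0 else x) + (if p.2 = 0 then 0 else y)
        map_zero' := by simp
        map_add' := by
          have key : ∀ (z : W) (a b : ZMod 2), (if a + b = 0 then 0 else z) =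
              (if a = 0 then 0 else z) + (if b = 0 then 0 else z) := by
            intro z a b
            obtain rfl | rfl := zmod_two_cases a <;> obtain rfl | rfl := zmod_two_cases b <;>
              simp [Φ.exp, show (1 : ZMod 2) + 1 = 0 from rfl]
          rintro ⟨a, b⟩ ⟨c, d⟩
          show (if a + c = 0 then 0 else x) + (if b + d = 0 then 0 else y) = _
          rw [key x, key y]
          abel }
    have hf : ∀ p, Φ.B x (f p) = p.2 ∧ Φ.B y (f p) = p.1 := by
      rintro ⟨a, b⟩
      show Φ.B x (_ + _) = _ ∧ Φ.B y (_ + _) = _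
      obtain rfl | rfl := zmod_two_cases a <;> obtain rfl | rfl := zmod_two_cases b <;>
        simp [Φ.add_right, Φ.zero_right, Φ.alt, hxy, hyx]
    have hU : f.range ⊓ Φ.perp f.range = ⊥ := by
      rw [eq_bot_iff]
      rintro _ ⟨⟨p, rfl⟩, hp⟩
      have h1 := hp (f (1, 0)) ⟨_, rfl⟩
      have h2 := hp (f (0, 1)) ⟨_, rfl⟩
      rw [show f (1, 0) = x by show x + 0 = x; rw [add_zero], Φ.symm, (hf p).1] at h1
      rw [show f (0, 1) = y by show (0 : W) + y = y; rw [zero_add], Φ.symm, (hf p).2] at h2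
      rw [AddSubgroup.mem_bot, show p = (0, 0) from Prod.ext h2 h1]
      exact map_zero f
    have hcard : Nat.card f.range = 4 := by
      rw [← Nat.card_congr (AddMonoidHom.ofInjective (f := f) (fun p p' h => Prod.ext
        (by rw [← (hf p).2, ← (hf p').2, h]) (by rw [← (hf p).1, ← (hf p').1, h]))).toEquiv,
        Nat.card_prod, Nat.card_zmod]
    have hm := Φ.card_mul_perp hU
    rw [hcard] at hm
    have hpos : 0 < Nat.card (Φ.perp f.range) := Nat.card_pos
    obtain ⟨k, hk⟩ := ih _ (Φ.restrict (Φ.perp f.range) (Φ.perp_inf_perp hU)) (by omega)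
    exact ⟨k + 1, by rw [← hm, hk, pow_succ, mul_comm]⟩

theorem BForm.exists_card {W : Type} [AddCommGroup W] [Finite W] (Φ : BForm W) :
    ∃ k : ℕ, Nat.card W = 4 ^ k :=
  card_eq_four_pow _ W Φ le_rfl

namespace QForm

variable {W : Type} [AddCommGroup W] (Φ : QForm W)

theorem q_zero : Φ.q 0 = 0 := by
  have h := Φ.q_add 0 0
  rw [add_zero, Φ.alt, add_zero] at h
  exact left_eq_add.1 h

/-- Totally singular subgroups are isotropic. -/
theorem iso_of_singular {U : AddSubgroup W} (h : ∀ u ∈ U, Φ.q u = 0) :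
    ∀ u ∈ U, ∀ v ∈ U, Φ.B u v = 0 := fun u hu v hv => by
  have := Φ.q_add u v
  rw [h _ (U.add_mem hu hv), h u hu, h v hv, zero_add, zero_add] at this
  exact this.symm

variable [Finite W]

/-- The form on a subgroup meeting its orthogonal trivially. -/
def restrict (U : AddSubgroup W) (hU : U ⊓ Φ.perp U = ⊥) : QForm U where
  toBForm := Φ.toBForm.restrict U hU
  q x := Φ.q x
  q_add x y := Φ.q_add x y

/-- A nonzero singular vector exists in rank four and more. -/
theorem exists_singular (h16 : 8 < Nat.card W) : ∃ w, w ≠ 0 ∧ Φ.q w = 0 := by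
  classical
  by_contra hne
  push Not at hne
  haveI : Nontrivial W := Finite.one_lt_card_iff_nontrivial.1 (by omega)
  obtain ⟨x, hx⟩ := exists_ne (0 : W)
  obtain ⟨z, hzx, hz⟩ : ∃ z, (z ≠ 0 ∧ z ≠ x) ∧ Φ.B x z = 0 := by
    by_contra hcon
    push Not at hcon
    have hsub : ((Φ.fn x).ker : Set W) ⊆ {0, x} := by
      intro z hz
      by_contra hz'
      simp only [Set.mem_insert_iff, Set.mem_singleton_iff, not_or] at hz'
      exact hcon z ⟨hz'.1, hz'.2⟩ hz
    have h1 : Nat.card (Φ.fn x).ker ≤ 2 := by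
      have := Nat.card_mono (Set.toFinite _) hsub
      refine this.trans ?_
      rw [Nat.card_eq_card_toFinset]
      simp only [Set.toFinset_insert, Set.toFinset_singleton]
      exact Finset.card_le_two
    have h2 : Nat.card (Φ.fn x).range ≤ 2 :=
      (Nat.card_le_card_of_injective _ Subtype.val_injective).trans (Nat.card_zmod 2).le
    have h3 := AddSubgroup.card_mul_index (Φ.fn x).ker
    rw [AddSubgroup.index_ker] at h3
    have := Nat.mul_le_mul h1 h2
    omega
  refine hne (x + z) (fun h => hzx.2 ?_) ?_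
  · rw [add_eq_zero_iff_eq_neg, Φ.toBForm.neg_eq] at h
    exact h.symm
  · rw [Φ.q_add, zmod_two_eq_one (hne x hx), zmod_two_eq_one (hne z hzx.1), hz]
    rfl

/-- A totally singular subgroup of order four in rank four leaves ten singular vectors. -/
theorem card_singular {E : AddSubgroup W} (hE : ∀ u ∈ E, Φ.q u = 0) (h4 : Nat.card E = 4)
    (h16 : Nat.card W = 16) : Nat.card {w : W // Φ.q w = 0} = 10 := by
  classical
  have := Fintype.ofFinite W
  have hEperp : E ≤ Φ.perp E := fun x hx u hu => Φ.iso_of_singular hE x hx u hu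
  have hperp : Φ.perp E = E := by
    refine (AddSubgroup.eq_of_le_of_card_ge hEperp ?_).symm
    have := Φ.card_mul_perp_le E
    rw [h4, h16] at this
    omega
  have hfib : ∀ w : W, (Finset.univ.filter fun e : E => Φ.q (w + e) = 0).card =
      if w ∈ E then 4 else 2 := by
    intro w
    have hval : ∀ e : E, Φ.q (w + e) = Φ.q w + Φ.B w e := fun e => by
      rw [Φ.q_add, hE e e.2, add_zero]
    split_ifs with hw
    · have hall : ∀ e : E, Φ.q (w + e) = 0 := fun e => hE _ (E.add_mem hw e.2)
      rw [Finset.filter_true_of_mem (fun e _ => hall e), Finset.card_univ,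
        ← Nat.card_eq_fintype_card, h4]
    · obtain ⟨e₀, he₀, hne⟩ : ∃ e ∈ E, Φ.B w e ≠ 0 := by
        by_contra hcon
        push Not at hcon
        exact hw (hperp ▸ (fun u hu => hcon u hu : w ∈ Φ.perp E))
      have h1 := zmod_two_eq_one hne
      let σ : E ≃ E := Equiv.addRight ⟨e₀, he₀⟩
      have hσ : ∀ e : E, Φ.q (w + (σ e : W)) = Φ.q (w + e) + 1 := fun e => by
        rw [hval, hval, show ((σ e : E) : W) = (e : W) + e₀ from rfl, Φ.add_right, h1, add_assoc]
      let P := Finset.univ.filter fun e : E => Φ.q (w + e) = 0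
      let Pc := Finset.univ.filter fun e : E => ¬ Φ.q (w + e) = 0
      have hPP : P.card = Pc.card := by
        refine Finset.card_equiv σ fun e => ?_
        simp only [P, Pc, Finset.mem_filter, Finset.mem_univ, true_and, hσ]
        generalize Φ.q (w + e) = a
        revert a; decide
      have hsum : P.card + Pc.card = 4 := by
        rw [Finset.card_filter_add_card_filter_not, Finset.card_univ, ← Nat.card_eq_fintype_card,
          h4]
      show P.card = 2
      omega
  let N := (Finset.univ.filter fun w : W => Φ.q w = 0).card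
  have hswap : ∑ w : W, (Finset.univ.filter fun e : E => Φ.q (w + e) = 0).card = 4 * N := by
    simp only [Finset.card_filter]
    rw [Finset.sum_comm]
    have : ∀ e : E, ∑ w : W, (if Φ.q (w + e) = 0 then 1 else 0) = N := fun e => by
      simp only [N, Finset.card_filter]
      exact Equiv.sum_comp (Equiv.addRight (e : W)) fun w => if Φ.q w = 0 then 1 else 0
    rw [Finset.sum_congr rfl fun e _ => this e, Finset.sum_const, Finset.card_univ,
      ← Nat.card_eq_fintype_card, h4, smul_eq_mul]
  have hE4 : (Finset.univ.filter fun w : W => w ∈ E).card = 4 := by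
    rw [← Fintype.card_subtype, ← Nat.card_eq_fintype_card]
    exact h4
  have hW : (Finset.univ.filter fun w : W => w ∈ E).card +
      (Finset.univ.filter fun w : W => w ∉ E).card = 16 := by
    rw [Finset.card_filter_add_card_filter_not, Finset.card_univ, ← Nat.card_eq_fintype_card, h16]
  rw [Finset.sum_congr rfl fun w _ => hfib w, Finset.sum_ite, Finset.sum_const, Finset.sum_const,
    smul_eq_mul, smul_eq_mul] at hswap
  rw [Nat.card_eq_fintype_card, Fintype.card_subtype]
  show N = 10
  omega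

end QForm

end Cfsg.Agent.DP71.Three
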