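import Cfsg.Agent.Lib.DolfiPair71.ThreeAct
import Cfsg.Agent.Lib.BaseThree.Induction

/-!
# Solvable groups preserving a quadratic form: bounds in small rank
-/

set_option autoImplicit false
set_option linter.unusedSectionVars false
set_option linter.style.haveILetI false

namespace Cfsg.Agent.DP71.Three

open Cfsg.Agent.OP71 (fixSub mem_fixSub)

variable {W : Type} [AddCommGroup W] [Finite W]

theorem nontrivial_of_card {n : ℕ} (h : Nat.card W = n) (hn : 1 < n) : Nontrivial W :=
  Finite.one_lt_card_iff_nontrivial.1 (h ▸ hn)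

theorem pow_dvd_gl {S : Subgroup (AddMonoid.End W)ˣ} {r d : ℕ} [Fact r.Prime]
    (hexp : ∀ x : W, x + x = 0) (hd : Nat.card W = 2 ^ d) {R : Subgroup S} (hR : IsPGroup r R) :
    ∃ a, Nat.card R = r ^ a ∧ r ^ a ∣ ∏ i : Fin d, (2 ^ d - 2 ^ (i : ℕ)) := by
  obtain ⟨a, ha⟩ := IsPGroup.iff_card.1 hR
  refine ⟨a, ha, ha ▸ ?_⟩
  haveI : FaithfulSMul R W := ⟨fun {x y} h => Subtype.ext (FaithfulSMul.eq_of_smul_eq_smul
    fun w : W => h w)⟩
  exact OP71.card_dvd_gl Nat.prime_two (fun w => by rw [two_nsmul]; exact hexp w) hd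

theorem semireg_of_prime {S : Subgroup (AddMonoid.End W)ˣ} {r : ℕ} (hr : r.Prime) {R : Subgroup S}
    (hR : Nat.card R = r) (hfix : ∀ u : W, (∀ t ∈ R, t • u = u) → u = 0)
    {t : S} (ht : t ∈ R) {w : W} (hw : w ≠ 0) (h : t • w = w) : t = 1 := by
  by_contra hne
  refine hw (hfix w fun x hx => ?_)
  haveI := Fact.mk hr
  have h1 : (⟨x, hx⟩ : R) ∈ Subgroup.zpowers (⟨t, ht⟩ : R) :=
    mem_zpowers_of_prime_card hR (fun e => hne (congrArg Subtype.val e))
  obtain ⟨i, hi⟩ := h1
  have h2 : x ∈ MulAction.stabilizer S w := by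
    have := congrArg Subtype.val hi
    simp only [SubgroupClass.coe_zpow] at this
    rw [← this]
    exact Subgroup.zpow_mem _ (show t ∈ MulAction.stabilizer S w from h) i
  exact h2

/-- The centraliser of a subgroup acting irreducibly is semiregular. -/
theorem card_centralizer_dvd {S : Subgroup (AddMonoid.End W)ˣ} {R : Subgroup S}
    (hirr : ∀ U : AddSubgroup W, (∀ t ∈ R, ∀ u ∈ U, t • u ∈ U) → U = ⊥ ∨ U = ⊤) :
    Nat.card (Subgroup.centralizer (R : Set S)) ∣ Nat.card W - 1 := by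
  refine card_dvd_of_semireg _ fun c hc w hw h => ?_
  rcases hirr (fixSub (V := W) c) (fun t ht u (hu : c • u = u) => by
    show c • t • u = t • u
    rw [← mul_smul, ← Subgroup.mem_centralizer_iff.1 hc t ht, mul_smul, hu]) with h1 | h1
  · have h2 : w ∈ fixSub (V := W) c := h
    rw [h1, AddSubgroup.mem_bot] at h2
    exact absurd h2 hw
  · exact eq_one_of_fix_all fun v => (h1 ▸ AddSubgroup.mem_top v : v ∈ fixSub (V := W) c)

/-- Only zero and everything is invariant, by counting modulo `r`. -/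
theorem irr_of_mod {S : Subgroup (AddMonoid.End W)ˣ} {r d : ℕ} [Fact r.Prime] {R : Subgroup S}
    (hR : IsPGroup r R) (hexp : ∀ x : W, x + x = 0) (hd : Nat.card W = 2 ^ d)
    (hfix : ∀ u : W, (∀ t ∈ R, t • u = u) → u = 0)
    (hmod : ∀ j < d, 0 < j → 2 ^ j % r ≠ 1) {U : AddSubgroup W}
    (hU : ∀ t ∈ R, ∀ u ∈ U, t • u ∈ U) : U = ⊥ ∨ U = ⊤ := by
  obtain ⟨j, hj⟩ := card_pow_two (U := U) hexp
  have h1 := card_modEq_one hR hU fun u _ => hfix u
  rw [hj] at h1
  have hjd : j ≤ d := by
    have h := Nat.le_of_dvd Nat.card_pos (AddSubgroup.card_addSubgroup_dvd_card U)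
    rw [hj, hd] at h
    exact (Nat.pow_le_pow_iff_right Nat.one_lt_two).1 h
  rcases Nat.eq_zero_or_pos j with rfl | hpos
  · exact Or.inl (AddSubgroup.eq_bot_of_card_eq _ (by rw [hj, pow_zero]))
  · rcases lt_or_eq_of_le hjd with hlt | rfl
    · exact absurd h1 (hmod j hlt hpos)
    · exact Or.inr (AddSubgroup.eq_top_of_card_eq _ (by rw [hj, hd]))

section Special

variable {Φ : QForm W} {s : (AddMonoid.End W)ˣ}

/-- `x ↦ x + s x`. -/
def onePlus (s : (AddMonoid.End W)ˣ) : W →+ W where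
  toFun w := w + s • w
  map_zero' := by simp
  map_add' a b := by rw [smul_add]; abel

theorem mul_self_of_special (hp : ∀ x, Φ.q (s • x) = Φ.q x) (h : ∀ x, Φ.q (x + s • x) = 0) :
    s * s = 1 := by
  have hB : ∀ x, Φ.B x (s • x) = 0 := fun x => by
    have h1 := h x
    rwa [Φ.q_add, hp, zmod_two_add_self, zero_add] at h1
  have hpol : ∀ x y, Φ.B x (s • y) + Φ.B y (s • x) = 0 := fun x y => by
    have h1 := hB (x + y)
    rw [smul_add, Φ.add_left, Φ.toBForm.add_right, Φ.toBForm.add_right, hB, hB, zero_add,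
      add_zero] at h1
    exact h1
  refine FaithfulSMul.eq_of_smul_eq_smul fun x : W => ?_
  rw [mul_smul, one_smul]
  have h0 : x + s • s • x = 0 := by
    refine Φ.nondeg _ fun y => ?_
    obtain ⟨y', rfl⟩ : ∃ y', s • y' = y := ⟨s⁻¹ • y, smul_inv_smul _ _⟩
    rw [Φ.add_left, B_smul_of_pres hp, Φ.symm (s • x) y']
    exact hpol x y'
  rw [add_eq_zero_iff_eq_neg, Φ.toBForm.neg_eq] at h0
  exact h0.symm

theorem special_facts (hp : ∀ x, Φ.q (s • x) = Φ.q x) (h : ∀ x, Φ.q (x + s • x) = 0) :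
    ∃ k : ℕ, Nat.card (onePlus s).range = 4 ^ k ∧
      4 ^ k * Nat.card (fixSub (V := W) s) = Nat.card W ∧
      (onePlus s).range ≤ fixSub (V := W) s ∧ (k = 0 → s = 1) := by
  have hss := mul_self_of_special hp h
  have hss' : ∀ x : W, s • s • x = x := fun x => by rw [← mul_smul, hss, one_smul]
  have hsB : ∀ a b, Φ.B (s • a) b = Φ.B a (s • b) := fun a b => by
    conv_lhs => rw [← hss' b]
    exact B_smul_of_pres hp a (s • b)
  have hker : (onePlus s).ker = fixSub (V := W) s := by
    ext w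
    show w + s • w = 0 ↔ s • w = w
    rw [add_eq_zero_iff_eq_neg, Φ.toBForm.neg_eq]
    exact eq_comm
  let pre : (onePlus s).range → W := fun u => u.2.choose
  have hpre : ∀ u, onePlus s (pre u) = u.1 := fun u => u.2.choose_spec
  have hwd : ∀ (u : (onePlus s).range) (a : W), onePlus s a = u.1 →
      ∀ v : (onePlus s).range, Φ.B (pre u) v = Φ.B a v := by
    intro u a ha v
    obtain ⟨b, hb⟩ := v.2
    have hk : pre u - a ∈ fixSub (V := W) s := by
      rw [← hker, AddMonoidHom.mem_ker, map_sub, hpre, ha, sub_self]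
    have h0 : Φ.B (pre u - a) v = 0 := by
      rw [← hb]
      show Φ.B (pre u - a) (b + s • b) = 0
      rw [Φ.toBForm.add_right, ← hsB, show s • (pre u - a) = pre u - a from hk, zmod_two_add_self]
    rw [Φ.toBForm.sub_eq, Φ.add_left] at h0
    calc Φ.B (pre u) v = Φ.B (pre u) v + (Φ.B a v + Φ.B a v) := by rw [zmod_two_add_self, add_zero]
      _ = Φ.B a v := by rw [← add_assoc, h0, zero_add]
  let Ψ : BForm (onePlus s).range :=
    { B := fun u v => Φ.B (pre u) v
      add_left := fun x y z => by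
        show Φ.B (pre (x + y)) z = _
        rw [hwd (x + y) (pre x + pre y) (by rw [map_add, hpre, hpre]; rfl) z, Φ.add_left]
      symm := fun x y => by
        show Φ.B (pre x) y = Φ.B (pre y) x
        rw [← hpre x, ← hpre y]
        show Φ.B (pre x) (pre y + s • pre y) = Φ.B (pre y) (pre x + s • pre x)
        rw [Φ.toBForm.add_right, Φ.toBForm.add_right, Φ.symm (pre y) (pre x),
          Φ.symm (pre y) (s • pre x), hsB]
      alt := fun x => by
        show Φ.B (pre x) x = 0
        rw [← hpre x]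
        show Φ.B (pre x) (pre x + s • pre x) = 0
        have h1 := h (pre x)
        rw [Φ.q_add, hp, zmod_two_add_self, zero_add] at h1
        rw [Φ.toBForm.add_right, Φ.alt, h1, add_zero]
      nondeg := fun x hx => by
        refine Subtype.ext ?_
        rw [← hpre x]
        refine Φ.nondeg _ fun b => ?_
        have h1 : Φ.B (pre x) (b + s • b) = 0 := hx ⟨_, b, rfl⟩
        rw [Φ.toBForm.add_right, ← hsB, ← Φ.add_left] at h1
        exact h1 }
  obtain ⟨k, hk⟩ := Ψ.exists_card
  refine ⟨k, hk, ?_, ?_, fun h0 => ?_⟩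
  · rw [← hk, ← AddSubgroup.index_ker, hker, mul_comm, AddSubgroup.card_mul_index]
  · rintro _ ⟨a, rfl⟩
    show s • (a + s • a) = a + s • a
    rw [smul_add, hss', add_comm]
  · refine FaithfulSMul.eq_of_smul_eq_smul fun x : W => ?_
    rw [h0, pow_zero] at hk
    have h1 : onePlus s x ∈ (onePlus s).range := ⟨x, rfl⟩
    rw [AddSubgroup.eq_bot_of_card_eq _ hk, AddSubgroup.mem_bot] at h1
    rw [one_smul]
    rw [show onePlus s x = x + s • x from rfl, add_eq_zero_iff_eq_neg, Φ.toBForm.neg_eq] at h1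
    exact h1.symm

end Special

namespace GoodS

variable {S : Subgroup (AddMonoid.End W)ˣ} {Φ : QForm W} (hS : GoodS S Φ)
include hS

theorem nontrivial [Nontrivial W] : Nontrivial S := by
  by_contra h
  rw [not_nontrivial_iff_subsingleton] at h
  obtain ⟨u, hu⟩ := exists_ne (0 : W)
  refine hu ((AddSubgroup.zmultiples_eq_bot (g := u)).1 (hS.noIso _ (fun s hs v hv => ?_) ?_))
  · rw [show s = 1 from congrArg Subtype.val (Subsingleton.elim (⟨s, hs⟩ : S) 1), one_smul]
    exact hv
  · intro x hx y hy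
    obtain ⟨k, rfl⟩ := AddSubgroup.mem_zmultiples_iff.1 hx
    obtain ⟨l, rfl⟩ := AddSubgroup.mem_zmultiples_iff.1 hy
    have h0 : Φ.fn u u = 0 := Φ.alt u
    rw [← Φ.fn_apply, map_zsmul, Φ.fn_apply, Φ.symm, ← Φ.fn_apply, map_zsmul, h0, smul_zero,
      smul_zero]

/-- Facts on normal prime power subgroups in the irreducible case. -/
theorem pgroup_facts [Nontrivial W] (hirr : ∀ U : AddSubgroup W, Inv S U → U = ⊥ ∨ U = ⊤)
    {r : ℕ} [Fact r.Prime] {R : Subgroup S} [R.Normal] (hR : IsPGroup r R) (hne : R ≠ ⊥) :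
    r ≠ 2 ∧ r ≠ 3 ∧ (∀ u : W, (∀ t ∈ R, t • u = u) → u = 0) ∧ r ∣ Nat.card W - 1 := by
  have hfix : ∀ u : W, (∀ t ∈ R, t • u = u) → u = 0 := by
    intro u hu
    rcases hirr (fixAll R) (fun s hs v hv t ht => by
      have h1 := hv _ (Subgroup.Normal.conj_mem' inferInstance t ht ⟨s, hs⟩)
      rw [mul_smul, mul_smul, inv_smul_eq_iff] at h1
      exact h1) with h | h
    · have h1 : u ∈ fixAll R := hu
      rwa [h, AddSubgroup.mem_bot] at h1
    · exfalso
      refine hne ((Subgroup.eq_bot_iff_forall _).2 fun t ht => ?_)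
      exact eq_one_of_fix_all fun w => (h ▸ AddSubgroup.mem_top w : w ∈ fixAll R) t ht
  have h1 := card_modEq_one hR (U := (⊤ : AddSubgroup W)) (fun t _ u _ => AddSubgroup.mem_top _)
    fun u _ => hfix u
  rw [AddSubgroup.card_top] at h1
  refine ⟨?_, ?_, hfix, ?_⟩
  · rintro rfl
    obtain ⟨k, hk⟩ := Φ.toBForm.exists_card
    rw [hk] at h1
    rcases k with _ | k
    · rw [pow_zero] at hk
      exact absurd hk (Finite.one_lt_card (α := W)).ne'
    · rw [pow_succ] at h1
      omega
  · rintro rfl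
    obtain ⟨a, ha⟩ := IsPGroup.iff_card.1 hR
    rcases a with _ | a
    · exact hne (Subgroup.eq_bot_of_card_eq _ (by rw [ha, pow_zero]))
    · exact hS.three ((dvd_pow_self 3 (Nat.succ_ne_zero a)).trans
        (ha ▸ Subgroup.card_subgroup_dvd_card R))
  · rw [← Nat.modEq_iff_dvd' (Nat.card_pos)]
    exact (h1.trans (Nat.mod_eq_of_lt (Fact.out : r.Prime).one_lt).symm).symm

/-- Only the primes in a given list have nontrivial cores. -/
theorem core_facts [Nontrivial W] (hirr : ∀ U : AddSubgroup W, Inv S U → U = ⊥ ∨ U = ⊤)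
    {p : ℕ} (hp : p.Prime) (hne : Cfsg.pCore p S ≠ ⊥) :
    p ≠ 2 ∧ p ≠ 3 ∧ p ∣ Nat.card W - 1 := by
  haveI := Fact.mk hp
  haveI : (Cfsg.pCore p S).Normal := inferInstance
  obtain ⟨a, b, -, c⟩ := hS.pgroup_facts hirr (Lib.PSolvable.pCore_isPGroup (p := p)) hne
  exact ⟨a, b, c⟩

/-- A normal subgroup of order a square of a prime has an element with a proper nondegenerate
fixed space. -/
theorem sq_case {r m : ℕ} [Fact r.Prime] (hr2 : r ≠ 2) {R : Subgroup S}
    (hR : Nat.card R = r ^ 2) (hW : Nat.card W = 4 ^ m) (hndvd : ¬ r ^ 2 ∣ Nat.card W - 1)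
    (hfix : ∀ u : W, (∀ t ∈ R, t • u = u) → u = 0) :
    ∃ e ∈ R, e ≠ 1 ∧ (∀ x ∈ R, x * e = e * x) ∧
      fixSub (V := W) e ⊓ Φ.perp (fixSub (V := W) e) = ⊥ ∧
      ∃ k, Nat.card (fixSub (V := W) e) = 4 ^ k ∧ 0 < k ∧ k < m ∧ 4 ^ k % r = 1 := by
  obtain ⟨e, he, w, hw, hew, hne⟩ : ∃ e ∈ R, ∃ w : W, w ≠ 0 ∧ e • w = w ∧ e ≠ 1 := by
    by_contra hcon
    push Not at hcon
    refine hndvd (hR ▸ card_dvd_of_semireg R fun c hc w hw h => ?_)
    exact hcon c hc w hw h
  have hcomm : ∀ x ∈ R, x * e = e * x := fun x hx => congrArg Subtype.val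
    ((IsPGroup.isMulCommutative_of_card_eq_prime_sq hR).is_comm.comm (⟨x, hx⟩ : R) ⟨e, he⟩)
  have hpow : e ^ (r ^ 2) = 1 := by
    have := pow_card_eq_one' (x := (⟨e, he⟩ : R))
    rw [hR] at this
    exact congrArg Subtype.val this
  have hnd : fixSub (V := W) e ⊓ Φ.perp (fixSub (V := W) e) = ⊥ := by
    have h := fix_nondeg (Φ := Φ) (hS.pres _ e.2)
      (((Fact.out : r.Prime).odd_of_ne_two hr2).pow (n := 2)) (congrArg Subtype.val hpow)
    have heq : fixSub (V := W) (e : (AddMonoid.End W)ˣ) = fixSub (V := W) e := rfl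
    rwa [heq] at h
  obtain ⟨k, hk⟩ := (Φ.toBForm.restrict _ hnd).exists_card
  refine ⟨e, he, hne, hcomm, hnd, k, hk, ?_, ?_, ?_⟩
  · rcases Nat.eq_zero_or_pos k with rfl | h
    · have h1 : w ∈ fixSub (V := W) e := hew
      rw [AddSubgroup.eq_bot_of_card_eq (fixSub (V := W) e) (by rw [hk, pow_zero]),
        AddSubgroup.mem_bot] at h1
      exact absurd h1 hw
    · exact h
  · by_contra hle
    push Not at hle
    have h := Nat.le_of_dvd Nat.card_pos (AddSubgroup.card_addSubgroup_dvd_card (fixSub (V := W) e))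
    rw [hk, hW, Nat.pow_le_pow_iff_right (by norm_num : 1 < 4)] at h
    obtain rfl : k = m := le_antisymm h hle
    refine hne (eq_one_of_fix_all fun v => ?_)
    exact (AddSubgroup.eq_top_of_card_eq (fixSub (V := W) e) (by rw [hk, hW]) ▸
      AddSubgroup.mem_top v : v ∈ fixSub (V := W) e)
  · rw [← hk]
    exact card_modEq_one (IsPGroup.of_card hR) (fun t ht u (hu : e • u = u) => by
      show e • t • u = t • u
      rw [← mul_smul, ← hcomm t ht, mul_smul, hu]) fun u _ => hfix u

/-- Rank two. -/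
theorem rankTwo (hW : Nat.card W = 16) : ∃ R : Subgroup S, R.Normal ∧ Nat.card R = 5 ∧
    (∀ t ∈ R, ∀ w : W, w ≠ 0 → t • w = w → t = 1) ∧
    Subgroup.centralizer (R : Set S) = R ∧ Nat.card S ≤ 20 ∧ sqCount S ≤ 6 := by
  haveI := nontrivial_of_card hW (by norm_num)
  haveI := hS.solv
  haveI := hS.nontrivial
  have hirr := hS.irr_of_le_three (m := 2) hW (by norm_num)
  obtain ⟨p, hp, hne⟩ := exists_pCore_ne_bot (H := S)
  obtain ⟨-, h3, hdvd⟩ := hS.core_facts hirr hp hne
  have hp5 : p = 5 := by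
    rw [hW, show 16 - 1 = 3 * 5 from rfl] at hdvd
    rcases hp.dvd_mul.1 hdvd with h | h
    · exact absurd ((Nat.prime_dvd_prime_iff_eq hp Nat.prime_three).1 h) h3
    · exact (Nat.prime_dvd_prime_iff_eq hp (by norm_num)).1 h
  subst hp5
  haveI := Fact.mk hp
  haveI : (Cfsg.pCore 5 S).Normal := inferInstance
  have hpg := Lib.PSolvable.pCore_isPGroup (p := 5) (G := S)
  obtain ⟨-, -, hfix, -⟩ := hS.pgroup_facts hirr hpg hne
  obtain ⟨a, ha, hdv⟩ := pow_dvd_gl Φ.toBForm.exp (d := 4) (by rw [hW]; norm_num) hpg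
  have hR : Nat.card (Cfsg.pCore 5 S) = 5 := by
    rcases a with _ | _ | a
    · exact absurd (Subgroup.eq_bot_of_card_eq _ (by rw [ha, pow_zero])) hne
    · rw [ha, zero_add, pow_one]
    · exfalso
      have := (pow_dvd_pow 5 (show 2 ≤ a + 1 + 1 by omega)).trans hdv
      norm_num [Fin.prod_univ_succ] at this
  generalize hRdef : Cfsg.pCore 5 S = R at hR hfix hne hpg
  haveI : R.Normal := hRdef ▸ inferInstance
  have hC : Nat.card (Subgroup.centralizer (R : Set S)) ∣ 5 := by
    have h := card_centralizer_dvd (R := R) fun U hU =>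
      irr_of_mod hpg Φ.toBForm.exp (d := 4) (by rw [hW]; norm_num) hfix (by decide) hU
    rw [hW, show 16 - 1 = 3 * 5 from rfl] at h
    refine Nat.Coprime.dvd_of_dvd_mul_left ?_ h
    exact ((Nat.prime_three.coprime_iff_not_dvd).2 fun h' =>
      hS.three (h'.trans (Subgroup.card_subgroup_dvd_card _))).symm
  have hCR : Subgroup.centralizer (R : Set S) = R := by
    haveI : IsCyclic R := isCyclic_of_prime_card hR
    refine (Subgroup.eq_of_le_of_card_ge (Subgroup.le_centralizer_iff_isMulCommutative.2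
      inferInstance) ?_).symm
    rw [hR]
    exact Nat.le_of_dvd (by norm_num) hC
  obtain ⟨hcyc, hker, hle⟩ := conj_facts hp R hR
  refine ⟨R, inferInstance, hR, fun t ht w hw h => semireg_of_prime hp hR hfix ht hw h, hCR, ?_, ?_⟩
  · rw [hCR, hR] at hle
    exact hle
  · haveI := hcyc
    have h := sqCount_le (MulAut.conjNormal : S →* MulAut R) (by rw [hker, hCR, hR]; decide)
    rw [hker, hCR, hR] at h
    exact h

/-- Rank three. -/
theorem rankThree (hW : Nat.card W = 64) : Nat.card S ≤ 14 ∧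
    ∀ s ∈ S, (∀ x, Φ.q (x + s • x) = 0) → s = 1 := by
  haveI := nontrivial_of_card hW (by norm_num)
  haveI := hS.solv
  haveI := hS.nontrivial
  have hirr := hS.irr_of_le_three (m := 3) hW (by norm_num)
  have honly : ∀ p : ℕ, p.Prime → Cfsg.pCore p S ≠ ⊥ → p = 7 := by
    intro p hp hne
    obtain ⟨-, h3, hdvd⟩ := hS.core_facts hirr hp hne
    rw [hW, show 64 - 1 = 3 * 3 * 7 from rfl] at hdvd
    rcases hp.dvd_mul.1 hdvd with h | h
    · rcases hp.dvd_mul.1 h with h | h <;>
        exact absurd ((Nat.prime_dvd_prime_iff_eq hp Nat.prime_three).1 h) h3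
    · exact (Nat.prime_dvd_prime_iff_eq hp (by norm_num)).1 h
  obtain ⟨p, hp, hne⟩ := exists_pCore_ne_bot (H := S)
  obtain rfl := honly p hp hne
  haveI := Fact.mk hp
  haveI : (Cfsg.pCore 7 S).Normal := inferInstance
  have hpg := Lib.PSolvable.pCore_isPGroup (p := 7) (G := S)
  obtain ⟨-, -, hfix, -⟩ := hS.pgroup_facts hirr hpg hne
  have hCle := centralizer_pCore_le (H := S) (r := 7) fun q hq hq7 => by
    by_contra h
    exact hq7 (honly q hq h)
  obtain ⟨a, ha, hdv⟩ := pow_dvd_gl Φ.toBForm.exp (d := 6) (by rw [hW]; norm_num) hpg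
  have hR : Nat.card (Cfsg.pCore 7 S) = 7 := by
    rcases a with _ | _ | _ | a
    · exact absurd (Subgroup.eq_bot_of_card_eq _ (by rw [ha, pow_zero])) hne
    · rw [ha, zero_add, pow_one]
    · exfalso
      obtain ⟨e, -, -, -, -, k, -, hk0, hk3, hkmod⟩ := hS.sq_case (r := 7) (m := 3) (by norm_num)
        (R := Cfsg.pCore 7 S) (by rw [ha]) (by rw [hW]; norm_num) (by rw [hW]; norm_num) hfix
      interval_cases k <;> simp at hkmod
    · exfalso
      have := (pow_dvd_pow 7 (show 3 ≤ a + 1 + 1 + 1 by omega)).trans hdv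
      norm_num [Fin.prod_univ_succ] at this
  generalize hRdef : Cfsg.pCore 7 S = R at hR hfix hne hpg hCle
  haveI : R.Normal := hRdef ▸ inferInstance
  obtain ⟨hcyc, hker, hle⟩ := conj_facts hp R hR
  have hCR : Subgroup.centralizer (R : Set S) = R := by
    haveI : IsCyclic R := isCyclic_of_prime_card hR
    exact le_antisymm hCle (Subgroup.le_centralizer_iff_isMulCommutative.2 inferInstance)
  rw [hCR, hR] at hle
  refine ⟨?_, fun s hs hsp => ?_⟩
  · -- the quotient embeds in a cyclic group of order six and three does not divide it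
    have h1 := Subgroup.card_mul_index R
    have h2 : R.index ∣ 6 := by
      have h3 : R.index = Nat.card (MulAut.conjNormal : S →* MulAut R).range := by
        rw [← Subgroup.index_ker, hker, hCR]
      rw [h3]
      haveI := isCyclic_of_prime_card hR
      have h4 : Nat.card (MulAut R) = 6 := by
        rw [IsCyclic.card_mulAut, hR, Nat.totient_prime hp]
      exact h4 ▸ Subgroup.card_subgroup_dvd_card _
    have h3 : R.index ∣ 2 := Nat.Coprime.dvd_of_dvd_mul_left
      ((Nat.prime_three.coprime_iff_not_dvd).2 fun h' =>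
        hS.three (h'.trans (Subgroup.index_dvd_card R))).symm (show R.index ∣ 3 * 2 from h2)
    rw [hR] at h1
    have := Nat.le_of_dvd two_pos h3
    omega
  · by_contra hs1
    obtain ⟨k, hk, hmul, hle', hk0⟩ := special_facts (hS.pres s hs) hsp
    have hss := mul_self_of_special (hS.pres s hs) hsp
    have hkpos : 0 < k := Nat.pos_of_ne_zero fun h => hs1 (hk0 h)
    let σ : S := ⟨s, hs⟩
    have hσ : σ * σ = 1 := Subtype.ext hss
    have hσR : σ ∉ R := by
      intro h
      have h1 := orderOf_dvd_natCard (⟨σ, h⟩ : R)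
      have h2 : orderOf (⟨σ, h⟩ : R) ∣ 2 :=
        orderOf_dvd_of_pow_eq_one (Subtype.ext (by rw [SubmonoidClass.coe_pow, pow_two]; exact hσ))
      rw [hR] at h1
      have h3 := Nat.eq_one_of_dvd_coprimes (by norm_num : Nat.Coprime 7 2) h1 h2
      exact hs1 (congrArg (fun x : R => ((x : S) : (AddMonoid.End W)ˣ)) (orderOf_eq_one_iff.1 h3))
    obtain ⟨t, ht, hts⟩ : ∃ t ∈ R, t * σ ≠ σ * t := by
      by_contra hcon
      push Not at hcon
      exact hσR (hCR ▸ Subgroup.mem_centralizer_iff.2 fun y hy => hcon y hy)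
    -- `σ` inverts `R`
    have hinv : σ * t * σ⁻¹ = t⁻¹ := by
      haveI : IsCyclic R := isCyclic_of_prime_card hR
      have hsq : MulAut.conjNormal σ * MulAut.conjNormal σ = (1 : MulAut R) := by
        rw [← map_mul, hσ, map_one]
      obtain ⟨c, hc⟩ := MonoidHom.map_cyclic
        ((MulAut.conjNormal σ : MulAut R) : R →* R)
      have hc' : ∀ y : R, MulAut.conjNormal σ y = y ^ c := fun y => hc y
      have ht1 : (⟨t, ht⟩ : R) ≠ 1 := fun h => hts (by
        rw [show t = 1 from congrArg Subtype.val h, one_mul, mul_one])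
      have hord : orderOf (⟨t, ht⟩ : R) = 7 := by
        rcases (Nat.dvd_prime hp).1 (hR ▸ orderOf_dvd_natCard (⟨t, ht⟩ : R)) with h | h
        · exact absurd (orderOf_eq_one_iff.1 h) ht1
        · exact h
      have hcc : (⟨t, ht⟩ : R) ^ (c * c) = (⟨t, ht⟩ : R) ^ (1 : ℤ) := by
        have := DFunLike.congr_fun hsq (⟨t, ht⟩ : R)
        rw [MulAut.mul_apply, hc', hc', MulAut.one_apply, ← zpow_mul] at this
        rw [zpow_one]; exact this
      rw [zpow_eq_zpow_iff_modEq, hord] at hcc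
      have h7 : (c : ZMod 7) = 1 ∨ (c : ZMod 7) = -1 := by
        haveI := Fact.mk hp
        refine mul_self_eq_one_iff.1 ?_
        have := (ZMod.intCast_eq_intCast_iff _ _ 7).2 hcc
        push_cast at this
        exact this
      have hval : MulAut.conjNormal σ (⟨t, ht⟩ : R) = (⟨t, ht⟩ : R)⁻¹ := by
        rcases h7 with h | h
        · exfalso
          have h1 : MulAut.conjNormal σ (⟨t, ht⟩ : R) = (⟨t, ht⟩ : R) := by
            rw [hc']
            conv_rhs => rw [← zpow_one (⟨t, ht⟩ : R)]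
            rw [zpow_eq_zpow_iff_modEq, hord]
            exact (ZMod.intCast_eq_intCast_iff _ _ 7).1 (by push_cast; exact h)
          have h2 : σ * t * σ⁻¹ = t := congrArg Subtype.val h1
          exact hts (mul_inv_eq_iff_eq_mul.1 h2).symm
        · rw [hc', ← zpow_neg_one, zpow_eq_zpow_iff_modEq, hord]
          exact (ZMod.intCast_eq_intCast_iff _ _ 7).1 (by push_cast; exact h)
      exact congrArg Subtype.val hval
    -- the fixed space meets its translate trivially
    have hsmall : Nat.card (fixSub (V := W) s) * Nat.card (fixSub (V := W) s) ≤ Nat.card W := by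
      rw [← Nat.card_prod]
      refine Nat.card_le_card_of_injective (fun p => p.1.1 + t • p.2.1) ?_
      rintro ⟨⟨a, ha⟩, ⟨b, hb⟩⟩ ⟨⟨a', ha'⟩, ⟨b', hb'⟩⟩ h
      simp only at h
      have hd1 : σ • (a - a') = a - a' := (fixSub (V := W) s).sub_mem ha ha'
      have hd2 : σ • (b - b') = b - b' := (fixSub (V := W) s).sub_mem hb hb'
      have heq : a - a' = t • (b' - b) := by
        rw [smul_sub, sub_eq_sub_iff_add_eq_add, h, add_comm]
      have hz : b' - b = 0 := by
        by_contra hne'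
        have hfx : σ • (b' - b) = b' - b := (fixSub (V := W) s).sub_mem hb' hb
        rw [heq, ← mul_smul, show σ * t = t⁻¹ * σ from mul_inv_eq_iff_eq_mul.1 hinv,
          mul_smul, hfx, inv_smul_eq_iff, ← mul_smul] at hd1
        have ht2 : t * t ∈ R := R.mul_mem ht ht
        have h1 := semireg_of_prime hp hR hfix ht2 hne' hd1.symm
        refine hts ?_
        have h2 : orderOf (⟨t, ht⟩ : R) ∣ 2 :=
          orderOf_dvd_of_pow_eq_one (Subtype.ext (by rw [SubmonoidClass.coe_pow, pow_two]; exact h1))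
        have h3 := Nat.eq_one_of_dvd_coprimes (by norm_num : Nat.Coprime 7 2)
          (hR ▸ orderOf_dvd_natCard (⟨t, ht⟩ : R)) h2
        rw [show t = 1 from congrArg Subtype.val (orderOf_eq_one_iff.1 h3), one_mul, mul_one]
      rw [hz, smul_zero] at heq
      exact Prod.ext (Subtype.ext (sub_eq_zero.1 heq)) (Subtype.ext (sub_eq_zero.1 hz).symm)
    have hge := AddSubgroup.card_le_of_le hle'
    rw [hk] at hge
    have h4k : 4 ≤ 4 ^ k := Nat.le_self_pow hkpos.ne' 4
    have hk2 : k ≤ 1 := by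
      by_contra hk2
      have : 4 ^ 2 ≤ 4 ^ k := Nat.pow_le_pow_right (by norm_num) (by omega)
      nlinarith
    obtain rfl : k = 1 := by omega
    rw [hW] at hmul hsmall
    nlinarith

theorem card_le_cube : Nat.card S ≤ Nat.card W ^ 3 := by
  obtain ⟨v, hv⟩ := Lib.BaseThree.hasTriple_of_completelyReducible S hS.solv fun U hU =>
    ⟨Φ.perp U, hS.inv_perp hU, hS.nondeg hU, Φ.toBForm.sup_perp (hS.nondeg hU)⟩
  have h : Nat.card S ≤ Nat.card (Fin 3 → W) := by
    refine Nat.card_le_card_of_injective (fun s i => s • v i) fun a b hab => ?_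
    refine FaithfulSMul.eq_of_smul_eq_smul fun w : W => ?_
    have h1 := hv (b⁻¹ * a) (fun i => by
      rw [mul_smul, show a • v i = b • v i from congrFun hab i, inv_smul_smul]) w
    rwa [mul_smul, inv_smul_eq_iff] at h1
  rwa [Nat.card_fun, Nat.card_fin] at h

/-- Bounds for a group leaving two complementary subgroups of rank two. -/
theorem split_two (hW : Nat.card W = 256) {U : AddSubgroup W} (hU : Inv S U)
    (hU4 : Nat.card U = 16) : Nat.card S ≤ 400 ∧ sqCount S ≤ 36 := by
  have h := Φ.toBForm.card_mul_perp (hS.nondeg hU)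
  rw [hU4, hW] at h
  obtain ⟨R, -, -, -, -, h1, h2⟩ := (hS.good_sub hU).rankTwo hU4
  obtain ⟨R', -, -, -, -, h1', h2'⟩ := (hS.good_sub (hS.inv_perp hU)).rankTwo (by omega)
  exact split_bound (hS.nondeg hU) hU (hS.inv_perp hU) h1 h1' h2 h2'

end GoodS

end Cfsg.Agent.DP71.Three
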