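import Cfsg.Agent.Lib.DolfiPair71.Defs
import Cfsg.Agent.Lib.DolfiPair71.ThreeQuot
import Cfsg.Agent.Lib.OddPair71.Prim

/-!
# The frame over the field with three elements: the symplectic quotient and fixed space bounds
-/

set_option autoImplicit false
set_option linter.unusedSectionVars false
set_option linter.style.haveILetI false

namespace Cfsg.Agent.DP71.Three

open scoped commutatorElement
open Cfsg.Agent.Lib.BaseThree
open Cfsg.Agent.OP71 (fx fixSub mem_fixSub fx_sq_le fx_mul_le)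

/-- The hypotheses of the three case. -/
structure Ctx {V : Type} [AddCommGroup V] [Finite V] (G Z F : Subgroup (AddMonoid.End V)ˣ)
    (K : Subring (AddMonoid.End V)) : Prop where
  solv : Group.IsSolvable G
  three : ¬ 3 ∣ Nat.card G
  irr : Irred G
  hS : FieldSetup G Z K
  hF : GoodF G Z F
  hC : ∀ g ∈ G, (∀ f ∈ F, g * f = f * g) → g ∈ Z
  hK : Nat.card K = 3

variable {V : Type} [AddCommGroup V] [Finite V] [Nontrivial V]
  {G Z F : Subgroup (AddMonoid.End V)ˣ} {K : Subring (AddMonoid.End V)}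

namespace Ctx

variable (c : Ctx G Z F K)
include c

theorem three_nsmul_zero (v : V) : 3 • v = 0 := by
  have h1 : (3 • (1 : K) : K) = 0 := by
    rw [← c.hK]
    exact card_nsmul_eq_zero'
  have h2 : (3 • (1 : AddMonoid.End V)) = 0 := by
    have := congrArg Subtype.val h1
    rwa [AddSubmonoidClass.coe_nsmul, OneMemClass.coe_one, ZeroMemClass.coe_zero] at this
  exact DFunLike.congr_fun h2 v

theorem eq_zero_of_two {v : V} (h : v + v = 0) : v = 0 := by
  have h3 := c.three_nsmul_zero v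
  rwa [succ_nsmul, two_nsmul, h, zero_add] at h3

theorem neg_one_ne_one : (-1 : (AddMonoid.End V)ˣ) ≠ 1 := by
  intro h
  obtain ⟨v, hv⟩ := exists_ne (0 : V)
  have h1 : -v = v := DFunLike.congr_fun (congrArg Units.val h) v
  exact hv (c.eq_zero_of_two (by rw [← h1]; nth_rewrite 2 [h1]; exact neg_add_cancel v))

theorem mem_Z {z : (AddMonoid.End V)ˣ} (hz : z ∈ Z) : z = 1 ∨ z = -1 := by
  classical
  haveI : Finite K := Finite.of_injective _ Subtype.val_injective
  haveI := Fintype.ofFinite K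
  have h10 : (1 : K) ≠ 0 := fun h => by
    obtain ⟨v, hv⟩ := exists_ne (0 : V)
    exact hv (DFunLike.congr_fun (congrArg Subtype.val h) v)
  have h1m : (1 : K) ≠ -1 := fun h => c.neg_one_ne_one (Units.ext (congrArg Subtype.val h).symm)
  have huniv : ({0, 1, -1} : Finset K) = Finset.univ := by
    apply Finset.eq_univ_of_card
    rw [← Nat.card_eq_fintype_card, c.hK, Finset.card_insert_of_notMem, Finset.card_pair h1m]
    simp only [Finset.mem_insert, Finset.mem_singleton, not_or]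
    exact ⟨h10.symm, fun h => h10 (neg_eq_zero.1 h.symm)⟩
  have hmem : (⟨(z : AddMonoid.End V), c.hS.coe_mem hz⟩ : K) ∈ ({0, 1, -1} : Finset K) :=
    huniv ▸ Finset.mem_univ _
  simp only [Finset.mem_insert, Finset.mem_singleton] at hmem
  rcases hmem with h | h | h
  · exfalso
    obtain ⟨v, hv⟩ := exists_ne (0 : V)
    have h1 : z • v = 0 := DFunLike.congr_fun (congrArg Subtype.val h) v
    exact hv ((smul_eq_zero_iff_eq z).1 h1)
  · exact Or.inl (Units.ext (congrArg Subtype.val h))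
  · exact Or.inr (Units.ext (congrArg Subtype.val h))

theorem neg_one_mem_F : (-1 : (AddMonoid.End V)ˣ) ∈ F := c.hF.Z_le c.hS.neg_one_mem

theorem central_Z {z : (AddMonoid.End V)ˣ} (hz : z ∈ Z) (g : (AddMonoid.End V)ˣ) :
    g * z = z * g := by
  rcases c.mem_Z hz with rfl | rfl
  · rw [mul_one, one_mul]
  · exact Units.ext (by simp)

theorem sq_Z {z : (AddMonoid.End V)ˣ} (hz : z ∈ Z) : z ^ 2 = 1 := by
  rcases c.mem_Z hz with rfl | rfl
  · exact one_pow 2
  · exact neg_one_sq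

theorem sq_mem {x : (AddMonoid.End V)ˣ} (hx : x ∈ F) : x ^ 2 ∈ Z := by
  refine c.hC _ (c.hF.le (F.pow_mem hx 2)) fun f hf => commutatorElement_eq_one_iff_mul_comm.1 ?_
  rw [c.hF.comm_pow_left hx hf]
  exact c.sq_Z (c.hF.comm_mem x hx f hf)

theorem fx_neg_one : fx V (-1 : (AddMonoid.End V)ˣ) = 1 := by
  have : fixSub (V := V) (-1 : (AddMonoid.End V)ˣ) = ⊥ := by
    rw [eq_bot_iff]
    intro v hv
    have h1 : -v = v := hv
    exact AddSubgroup.mem_bot.2
      (c.eq_zero_of_two (by nth_rewrite 2 [← h1]; exact add_neg_cancel v))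
  rw [fx, this, AddSubgroup.card_bot]

theorem fx_of_sq {x : (AddMonoid.End V)ˣ} (h : x ^ 2 = -1) : fx V x = 1 := by
  refine le_antisymm ?_ Nat.card_pos
  rw [← c.fx_neg_one, ← h]
  exact AddSubgroup.card_le_of_le fun v (hv : x • v = v) => by
    show x ^ 2 • v = v
    rw [pow_two, mul_smul, hv, hv]

theorem fx_sq_of_mem {f : (AddMonoid.End V)ˣ} (hf : f ∈ F) (hne : f ∉ Z) :
    fx V f ^ 2 ≤ Nat.card V := by
  obtain ⟨y, hy, hfy⟩ : ∃ y ∈ F, ⁅y, f⁆ ≠ 1 := by
    by_contra hcon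
    push Not at hcon
    exact hne (c.hC f (c.hF.le hf) fun y hy =>
      (commutatorElement_eq_one_iff_mul_comm.1 (hcon y hy)).symm)
  have h := fx_sq_le (V := V) f y
  rw [(c.mem_Z (c.hF.comm_mem y hy f hf)).resolve_left hfy, c.fx_neg_one, mul_one] at h
  exact h

theorem fx_pair (g : (AddMonoid.End V)ˣ) : fx V g * fx V (-g) ≤ Nat.card V :=
  fx_mul_le fun v h1 h2 => by
    have h3 : -(g • v) = v := h2
    rw [h1] at h3
    exact c.eq_zero_of_two (by nth_rewrite 2 [← h3]; exact add_neg_cancel v)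

end Ctx

theorem one_ne_neg_one_three : (1 : ZMod 3) ≠ -1 := by decide

/-- The sign of a scalar. -/
noncomputable def sgn (z : (AddMonoid.End V)ˣ) : ZMod 2 := by
  classical exact if z = 1 then 0 else 1

theorem sgn_eq_zero {z : (AddMonoid.End V)ˣ} : sgn z = 0 ↔ z = 1 := by
  classical
  unfold sgn
  split_ifs with h <;> simp [h]

theorem Ctx.sgn_mul (c : Ctx G Z F K) {a b : (AddMonoid.End V)ˣ} (ha : a ∈ Z) (hb : b ∈ Z) :
    sgn (a * b) = sgn a + sgn b := by
  classical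
  have hne := c.neg_one_ne_one
  unfold sgn
  rcases c.mem_Z ha with rfl | rfl <;> rcases c.mem_Z hb with rfl | rfl <;>
    simp [hne, show (1 : ZMod 2) + 1 = 0 from rfl]

/-- The symplectic quotient with the action. -/
structure Quo (G Z F : Subgroup (AddMonoid.End V)ˣ) (hn : ∀ g ∈ G, ∀ f ∈ F, g * f * g⁻¹ ∈ F)
    (W : Type) [AddCommGroup W] where
  π : F → W
  ρ : G →* (AddMonoid.End W)ˣ
  Φ : QForm W
  surj : Function.Surjective π
  π_mul : ∀ a b, π (a * b) = π a + π b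
  eq_zero : ∀ a, π a = 0 ↔ (a : (AddMonoid.End V)ˣ) ∈ Z
  act : ∀ (g : G) (a : F), ρ g • π a = π ⟨g * a * (g : (AddMonoid.End V)ˣ)⁻¹, hn g g.2 a a.2⟩
  B_eq : ∀ a b, Φ.B (π a) (π b) = 0 ↔ ⁅(a : (AddMonoid.End V)ˣ), (b : (AddMonoid.End V)ˣ)⁆ = 1
  q_eq : ∀ a, Φ.q (π a) = 0 ↔ (a : (AddMonoid.End V)ˣ) ^ 2 = 1

theorem Ctx.exists_quo (c : Ctx G Z F K) : ∃ (W : Type) (_ : AddCommGroup W) (_ : Finite W),
    Nonempty (Quo G Z F c.hF.norm W) := by
  classical
  haveI hN : (Z.subgroupOf F).Normal := ⟨fun z hz f => by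
    rw [Subgroup.mem_subgroupOf] at hz ⊢
    show (f : (AddMonoid.End V)ˣ) * z * (f : (AddMonoid.End V)ˣ)⁻¹ ∈ Z
    rw [c.central_Z hz, mul_inv_cancel_right]
    exact hz⟩
  let Q := F ⧸ Z.subgroupOf F
  let mk : F →* Q := QuotientGroup.mk' _
  have mk_eq : ∀ a : F, mk a = 1 ↔ (a : (AddMonoid.End V)ˣ) ∈ Z := fun a =>
    (QuotientGroup.eq_one_iff a).trans Subgroup.mem_subgroupOf
  have hQc : ∀ x y : Q, x * y = y * x := by
    intro x y
    obtain ⟨a, rfl⟩ := QuotientGroup.mk'_surjective _ x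
    obtain ⟨b, rfl⟩ := QuotientGroup.mk'_surjective _ y
    rw [← commutatorElement_eq_one_iff_mul_comm, ← map_commutatorElement]
    exact (mk_eq _).2 (c.hF.comm_mem _ a.2 _ b.2)
  letI : CommGroup Q := { (inferInstance : Group Q) with mul_comm := hQc }
  let π : F → Additive Q := fun a => Additive.ofMul (mk a)
  have π_surj : Function.Surjective π := fun w => by
    obtain ⟨a, ha⟩ := QuotientGroup.mk'_surjective _ w.toMul
    exact ⟨a, congrArg Additive.ofMul ha⟩
  have π_mul : ∀ a b, π (a * b) = π a + π b := fun a b => congrArg Additive.ofMul (map_mul mk a b)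
  have π_zero : ∀ a, π a = 0 ↔ (a : (AddMonoid.End V)ˣ) ∈ Z := fun a =>
    ⟨fun h => (mk_eq a).1 (Additive.ofMul.injective h),
      fun h => congrArg Additive.ofMul ((mk_eq a).2 h)⟩
  have π_eq : ∀ a b, π a = π b → ∃ z ∈ Z, (a : (AddMonoid.End V)ˣ) = b * z := fun a b h => by
    have h1 : (b⁻¹ * a : F) ∈ Z.subgroupOf F :=
      QuotientGroup.eq.1 (Additive.ofMul.injective h).symm
    exact ⟨_, Subgroup.mem_subgroupOf.1 h1, (mul_inv_cancel_left _ _).symm⟩
  let cj : G → F →* F := fun g =>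
    { toFun := fun a => ⟨g * a * (g : (AddMonoid.End V)ˣ)⁻¹, c.hF.norm g g.2 a a.2⟩
      map_one' := Subtype.ext (by simp)
      map_mul' := fun a b => Subtype.ext (by simp) }
  let act : G → AddMonoid.End (Additive Q) := fun g =>
    MonoidHom.toAdditive (QuotientGroup.lift (Z.subgroupOf F) (mk.comp (cj g)) fun z hz => by
      rw [Subgroup.mem_subgroupOf] at hz
      refine (mk_eq _).2 ?_
      show (g : (AddMonoid.End V)ˣ) * z * (g : (AddMonoid.End V)ˣ)⁻¹ ∈ Z
      rw [c.central_Z hz, mul_inv_cancel_right]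
      exact hz)
  have act_π : ∀ g a, act g (π a) = π (cj g a) := fun g a => rfl
  let hom : G →* AddMonoid.End (Additive Q) :=
    { toFun := act
      map_one' := by
        refine DFunLike.ext _ _ fun w => ?_
        obtain ⟨a, rfl⟩ := π_surj w
        rw [act_π]
        exact congrArg π (Subtype.ext (by simp [cj]))
      map_mul' := fun g h => by
        refine DFunLike.ext _ _ fun w => ?_
        obtain ⟨a, rfl⟩ := π_surj w
        show act (g * h) (π a) = act g (act h (π a))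
        rw [act_π, act_π, act_π]
        exact congrArg π (Subtype.ext (by simp [cj, mul_assoc])) }
  let σ : Additive Q → F := fun w => (π_surj w).choose
  have hσ : ∀ w, π (σ w) = w := fun w => (π_surj w).choose_spec
  let Bf : Additive Q → Additive Q → ZMod 2 := fun x y =>
    sgn ⁅(σ x : (AddMonoid.End V)ˣ), (σ y : (AddMonoid.End V)ˣ)⁆
  have hB : ∀ a b, Bf (π a) (π b) = sgn ⁅(a : (AddMonoid.End V)ˣ), (b : (AddMonoid.End V)ˣ)⁆ := by
    intro a b
    obtain ⟨z, hz, ea⟩ := π_eq _ _ (hσ (π a))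
    obtain ⟨w, hw, eb⟩ := π_eq _ _ (hσ (π b))
    show sgn _ = _
    rw [ea, eb, c.hF.comm_mul_left a.2 (c.hF.Z_le hz) (F.mul_mem b.2 (c.hF.Z_le hw)),
      c.hF.comm_mul_right a.2 b.2 (c.hF.Z_le hw), c.hF.comm_Z_right a.2 hw,
      c.hF.comm_Z_left (F.mul_mem b.2 (c.hF.Z_le hw)) hz, mul_one, mul_one]
  have hq : ∀ a, sgn ((σ (π a) : (AddMonoid.End V)ˣ) ^ 2) = sgn ((a : (AddMonoid.End V)ˣ) ^ 2) := by
    intro a
    obtain ⟨z, hz, ea⟩ := π_eq _ _ (hσ (π a))
    rw [ea, Commute.mul_pow (c.hF.cent _ a.2 z hz), c.sq_Z hz, mul_one]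
  let Φ : QForm (Additive Q) :=
    { B := Bf
      add_left := fun x y z => by
        obtain ⟨a, rfl⟩ := π_surj x
        obtain ⟨b, rfl⟩ := π_surj y
        obtain ⟨d, rfl⟩ := π_surj z
        rw [← π_mul, hB, hB, hB, Subgroup.coe_mul, c.hF.comm_mul_left a.2 b.2 d.2,
          c.sgn_mul (c.hF.comm_mem _ a.2 _ d.2) (c.hF.comm_mem _ b.2 _ d.2)]
      symm := fun x y => by
        obtain ⟨a, rfl⟩ := π_surj x
        obtain ⟨b, rfl⟩ := π_surj y
        rw [hB, hB]
        have h2 := c.sq_Z (c.hF.comm_mem _ b.2 _ a.2)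
        rw [pow_two, mul_eq_one_iff_eq_inv, commutatorElement_inv] at h2
        rw [h2]
      alt := fun x => by
        obtain ⟨a, rfl⟩ := π_surj x
        rw [hB, sgn_eq_zero]
        exact commutatorElement_eq_one_iff_mul_comm.2 rfl
      nondeg := fun x h => by
        obtain ⟨a, rfl⟩ := π_surj x
        refine (π_zero a).2 (c.hC _ (c.hF.le a.2) fun f hf => ?_)
        have h1 := h (π ⟨f, hf⟩)
        rw [hB, sgn_eq_zero] at h1
        exact commutatorElement_eq_one_iff_mul_comm.1 h1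
      q := fun x => sgn ((σ x : (AddMonoid.End V)ˣ) ^ 2)
      q_add := fun x y => by
        obtain ⟨a, rfl⟩ := π_surj x
        obtain ⟨b, rfl⟩ := π_surj y
        rw [← π_mul, hq, hq, hq, hB, Subgroup.coe_mul, c.hF.mul_pow_eq a.2 b.2,
          show Nat.choose 2 2 = 1 from rfl, pow_one,
          c.sgn_mul (Z.mul_mem (c.sq_mem a.2) (c.sq_mem b.2)) (c.hF.comm_mem _ b.2 _ a.2),
          c.sgn_mul (c.sq_mem a.2) (c.sq_mem b.2)]
        congr 1
        have h2 := c.sq_Z (c.hF.comm_mem _ b.2 _ a.2)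
        rw [pow_two, mul_eq_one_iff_eq_inv, commutatorElement_inv] at h2
        rw [h2] }
  refine ⟨Additive Q, inferInstance, inferInstance,
    ⟨{ π := π, ρ := hom.toHomUnits, Φ := Φ, surj := π_surj, π_mul := π_mul, eq_zero := π_zero,
       act := fun g a => act_π g a,
       B_eq := fun a b => by
        show Bf _ _ = 0 ↔ _
        rw [hB, sgn_eq_zero]
       q_eq := fun a => by
        show sgn _ = 0 ↔ _
        rw [hq, sgn_eq_zero] }⟩⟩

/-- The commutator of a member of `F` with an element of `G`. -/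
theorem commutator_mem (hn : ∀ g ∈ G, ∀ f ∈ F, g * f * g⁻¹ ∈ F) (g : G) (a : F) :
    ⁅(a : (AddMonoid.End V)ˣ), (g : (AddMonoid.End V)ˣ)⁆ ∈ F := by
  rw [commutatorElement_def, mul_assoc, mul_assoc, ← mul_assoc (g : (AddMonoid.End V)ˣ)]
  exact F.mul_mem a.2 (hn g g.2 _ (F.inv_mem a.2))

namespace Quo

variable {W : Type} [AddCommGroup W] {hn : ∀ g ∈ G, ∀ f ∈ F, g * f * g⁻¹ ∈ F}
  (Q : Quo G Z F hn W)

theorem π_one : Q.π 1 = 0 := (Q.eq_zero 1).2 Z.one_mem

theorem π_inv (a : F) : Q.π a⁻¹ = Q.π a := by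
  have h := Q.π_mul a⁻¹ a
  rw [inv_mul_cancel, Q.π_one, eq_comm, add_eq_zero_iff_eq_neg, Q.Φ.toBForm.neg_eq] at h
  exact h

theorem π_commutator (g : G) (a : F) :
    Q.π ⟨_, commutator_mem hn g a⟩ = Q.π a + Q.ρ g • Q.π a := by
  have h : (⟨_, commutator_mem hn g a⟩ : F) =
      a * ⟨g * (a⁻¹ : F) * (g : (AddMonoid.End V)ˣ)⁻¹, hn g g.2 _ (a⁻¹).2⟩ := Subtype.ext (by
    simp only [Subgroup.coe_mul, Subgroup.coe_inv, commutatorElement_def, mul_assoc])
  rw [h, Q.π_mul, ← Q.act, Q.π_inv]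

/-- `g` is over a special involution of the quotient. -/
def Spec (g : G) : Prop :=
  (g : (AddMonoid.End V)ˣ) ∉ F ∧ (g : (AddMonoid.End V)ˣ) ^ 2 = 1 ∧
    ∀ x, Q.Φ.q (x + Q.ρ g • x) = 0

section
variable (c : Ctx G Z F K)
include Q c

theorem ρ_eq_one_iff [Finite W] (g : G) : Q.ρ g = 1 ↔ (g : (AddMonoid.End V)ˣ) ∈ F := by
  constructor
  · intro hg
    have hs : ∀ a : F, ⁅(g : (AddMonoid.End V)ˣ), (a : (AddMonoid.End V)ˣ)⁆ ∈ Z := by
      intro a
      have h1 : Q.π ⟨_, commutator_mem hn g a⟩ = 0 := by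
        rw [Q.π_commutator, hg, one_smul, Q.Φ.toBForm.exp]
      rw [← commutatorElement_inv]
      exact Z.inv_mem ((Q.eq_zero _).1 h1)
    choose σ hσ using Q.surj
    let d : F → ZMod 2 := fun a => sgn ⁅(g : (AddMonoid.End V)ˣ), (a : (AddMonoid.End V)ˣ)⁆
    have hd_mul : ∀ a b : F, d (a * b) = d a + d b := by
      intro a b
      have h : ⁅(g : (AddMonoid.End V)ˣ), ((a * b : F) : (AddMonoid.End V)ˣ)⁆ =
          ⁅(g : (AddMonoid.End V)ˣ), (a : (AddMonoid.End V)ˣ)⁆ *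
            ⁅(g : (AddMonoid.End V)ˣ), (b : (AddMonoid.End V)ˣ)⁆ := by
        have h0 : ⁅(g : (AddMonoid.End V)ˣ), (a : (AddMonoid.End V)ˣ) * b⁆ =
            ⁅(g : (AddMonoid.End V)ˣ), (a : (AddMonoid.End V)ˣ)⁆ *
              ((a : (AddMonoid.End V)ˣ) * ⁅(g : (AddMonoid.End V)ˣ), (b : (AddMonoid.End V)ˣ)⁆ *
                (a : (AddMonoid.End V)ˣ)⁻¹) := by
          simp only [commutatorElement_def]
          group
        rw [Subgroup.coe_mul, h0, c.central_Z (hs b), mul_inv_cancel_right]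
      show sgn _ = _
      rw [h, c.sgn_mul (hs a) (hs b)]
    have hd_z : ∀ a : F, (a : (AddMonoid.End V)ˣ) ∈ Z → d a = 0 := fun a ha =>
      sgn_eq_zero.2 (commutatorElement_eq_one_iff_mul_comm.2 (c.central_Z ha _))
    have hwd : ∀ a b : F, Q.π a = Q.π b → d a = d b := by
      intro a b hab
      have h1 : ((b⁻¹ * a : F) : (AddMonoid.End V)ˣ) ∈ Z := (Q.eq_zero _).1 (by
        rw [Q.π_mul, Q.π_inv, hab, Q.Φ.toBForm.exp])
      have h2 := hd_mul b (b⁻¹ * a)
      rw [mul_inv_cancel_left, hd_z _ h1, add_zero] at h2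
      exact h2
    let φ : W →+ ZMod 2 :=
      { toFun := fun w => d (σ w)
        map_zero' := (hwd _ 1 (by rw [hσ, Q.π_one])).trans (hd_z 1 Z.one_mem)
        map_add' := fun x y => by
          rw [← hd_mul]
          exact hwd _ _ (by rw [hσ, Q.π_mul, hσ, hσ]) }
    obtain ⟨u, hu⟩ := Q.Φ.toBForm.exists_rep φ
    have hkey : ∀ a : F, ⁅(g : (AddMonoid.End V)ˣ), (a : (AddMonoid.End V)ˣ)⁆ =
        ⁅(σ u : (AddMonoid.End V)ˣ), (a : (AddMonoid.End V)ˣ)⁆ := by
      intro a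
      have h1 : d a = Q.Φ.B u (Q.π a) := by
        rw [← hu]
        exact (hwd _ _ (hσ _)).symm
      have hiff : ⁅(g : (AddMonoid.End V)ˣ), (a : (AddMonoid.End V)ˣ)⁆ = 1 ↔
          ⁅(σ u : (AddMonoid.End V)ˣ), (a : (AddMonoid.End V)ˣ)⁆ = 1 := by
        rw [← Q.B_eq, hσ, ← h1]
        exact sgn_eq_zero.symm
      rcases c.mem_Z (hs a) with h | h <;> rcases c.mem_Z (c.hF.comm_mem _ (σ u).2 _ a.2) with h' | h'
      · rw [h, h']
      · exact absurd (h'.symm.trans (hiff.1 h)) c.neg_one_ne_one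
      · exact absurd (h.symm.trans (hiff.2 h')) c.neg_one_ne_one
      · rw [h, h']
    have hcent : (σ u : (AddMonoid.End V)ˣ)⁻¹ * g ∈ Z := by
      refine c.hC _ (G.mul_mem (G.inv_mem (c.hF.le (σ u).2)) g.2) fun f hf => ?_
      have h1 := hkey ⟨f, hf⟩
      simp only [commutatorElement_def, mul_left_inj] at h1
      calc (σ u : (AddMonoid.End V)ˣ)⁻¹ * g * f
          = (σ u : (AddMonoid.End V)ˣ)⁻¹ * (g * f * (g : (AddMonoid.End V)ˣ)⁻¹) * g := by group
        _ = (σ u : (AddMonoid.End V)ˣ)⁻¹ * (σ u * f * (σ u : (AddMonoid.End V)ˣ)⁻¹) * g := by rw [h1]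
        _ = f * ((σ u : (AddMonoid.End V)ˣ)⁻¹ * g) := by group
    have := F.mul_mem (σ u).2 (c.hF.Z_le hcent)
    rwa [mul_inv_cancel_left] at this
  · intro hg
    refine Units.ext (DFunLike.ext _ _ fun w => ?_)
    obtain ⟨a, rfl⟩ := Q.surj w
    show Q.ρ g • Q.π a = Q.π a
    have h := Q.π_commutator g a
    rw [(Q.eq_zero _).2 (c.hF.comm_mem _ a.2 _ hg), eq_comm, add_eq_zero_iff_eq_neg,
      Q.Φ.toBForm.neg_eq] at h
    exact h.symm

theorem good [Finite W] : GoodS Q.ρ.range Q.Φ where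
  solv := by
    haveI := c.solv
    exact Group.isSolvable_of_surjective Q.ρ.rangeRestrict_surjective
  three h := c.three (h.trans (Subgroup.card_range_dvd _))
  pres := by
    rintro _ ⟨g, rfl⟩ w
    obtain ⟨a, rfl⟩ := Q.surj w
    rw [Q.act]
    have hiff : Q.Φ.q (Q.π ⟨g * a * (g : (AddMonoid.End V)ˣ)⁻¹, hn g g.2 a a.2⟩) = 0 ↔
        Q.Φ.q (Q.π a) = 0 := by
      rw [Q.q_eq, Q.q_eq]
      show ((g : (AddMonoid.End V)ˣ) * a * (g : (AddMonoid.End V)ˣ)⁻¹) ^ 2 = 1 ↔ _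
      rw [conj_pow, conj_eq_one_iff]
    rcases zmod_two_cases (Q.Φ.q (Q.π ⟨g * a * (g : (AddMonoid.End V)ˣ)⁻¹, hn g g.2 a a.2⟩)) with
      h | h <;> rcases zmod_two_cases (Q.Φ.q (Q.π a)) with h' | h' <;> simp_all
  noIso U hU hiso := by
    let M : Subgroup (AddMonoid.End V)ˣ :=
      { carrier := {x | ∃ h : x ∈ F, Q.π ⟨x, h⟩ ∈ U}
        one_mem' := ⟨F.one_mem, by
          rw [show (⟨1, F.one_mem⟩ : F) = 1 from rfl, Q.π_one]; exact U.zero_mem⟩
        mul_mem' := fun {a b} ha hb => by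
          obtain ⟨ha, ha'⟩ := ha
          obtain ⟨hb, hb'⟩ := hb
          exact ⟨F.mul_mem ha hb, by
            rw [show (⟨a * b, F.mul_mem ha hb⟩ : F) = ⟨a, ha⟩ * ⟨b, hb⟩ from rfl, Q.π_mul]
            exact U.add_mem ha' hb'⟩
        inv_mem' := fun {a} ha => by
          obtain ⟨ha, ha'⟩ := ha
          exact ⟨F.inv_mem ha, by
            rw [show (⟨a⁻¹, F.inv_mem ha⟩ : F) = (⟨a, ha⟩ : F)⁻¹ from rfl, Q.π_inv]
            exact ha'⟩ }
    have hM : M = Z := by
      refine c.hS.max M (fun x hx => c.hF.le hx.1)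
        (fun z hz => ⟨c.hF.Z_le hz, by rw [(Q.eq_zero _).2 hz]; exact U.zero_mem⟩) ?_ ?_
      · rintro g hg x ⟨hx, hxU⟩
        refine ⟨hn g hg x hx, ?_⟩
        rw [← Q.act ⟨g, hg⟩ ⟨x, hx⟩]
        exact hU _ ⟨_, rfl⟩ _ hxU
      · rintro a ⟨ha, haU⟩ b ⟨hb, hbU⟩
        exact commutatorElement_eq_one_iff_mul_comm.1 ((Q.B_eq ⟨a, ha⟩ ⟨b, hb⟩).1 (hiso _ haU _ hbU))
    refine (AddSubgroup.eq_bot_iff_forall _).2 fun w hw => ?_
    obtain ⟨a, rfl⟩ := Q.surj w
    have : (a : (AddMonoid.End V)ˣ) ∈ M := ⟨a.2, hw⟩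
    rw [hM] at this
    exact (Q.eq_zero a).2 this

theorem card_G [Finite W] : Nat.card G = 2 * Nat.card W * Nat.card Q.ρ.range := by
  have hker : Q.ρ.ker = F.subgroupOf G := by
    ext g
    rw [MonoidHom.mem_ker, Subgroup.mem_subgroupOf, Q.ρ_eq_one_iff c]
  have hF : Nat.card F = 2 * Nat.card W := by
    let f : F →* Multiplicative W := MonoidHom.mk' (fun a => Multiplicative.ofAdd (Q.π a))
      fun a b => congrArg Multiplicative.ofAdd (Q.π_mul a b)
    have hfk : f.ker = Z.subgroupOf F := by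
      ext a
      rw [MonoidHom.mem_ker, Subgroup.mem_subgroupOf, ← Q.eq_zero]
      exact Multiplicative.ofAdd.injective.eq_iff' rfl
    have hfr : f.range = ⊤ := MonoidHom.range_eq_top.2 fun w => by
      obtain ⟨a, ha⟩ := Q.surj w.toAdd
      exact ⟨a, congrArg Multiplicative.ofAdd ha⟩
    have hZ : Nat.card Z = 2 := by
      rw [Nat.card_eq_two_iff]
      refine ⟨1, ⟨-1, c.hS.neg_one_mem⟩, fun h => c.neg_one_ne_one (congrArg Subtype.val h).symm,
        Set.eq_univ_of_forall fun z => ?_⟩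
      rcases c.mem_Z z.2 with h | h
      · exact Or.inl (Subtype.ext h)
      · exact Or.inr (Subtype.ext h)
    rw [← Subgroup.card_mul_index f.ker, Subgroup.index_ker, hfr, Subgroup.card_top, hfk,
      Nat.card_congr (Subgroup.subgroupOfEquivOfLe c.hF.Z_le).toEquiv, hZ]
    rfl
  rw [← Subgroup.card_mul_index Q.ρ.ker, Subgroup.index_ker, hker,
    Nat.card_congr (Subgroup.subgroupOfEquivOfLe c.hF.le).toEquiv, hF]

theorem pow_le_card [Finite W] {m : ℕ} (hm : Nat.card W = 4 ^ m) : 3 ^ 2 ^ m ≤ Nat.card V := by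
  classical
  haveI : Fact (Nat.Prime 3) := ⟨Nat.prime_three⟩
  letI : Module (ZMod 3) V := AddCommGroup.zmodModule c.three_nsmul_zero
  haveI : Module.Finite (ZMod 3) V := Module.Finite.of_finite
  haveI := Fintype.ofFinite W
  choose σ hσ using Q.surj
  let T : W → Module.End (ZMod 3) V := fun w =>
    (((σ w : (AddMonoid.End V)ˣ) : AddMonoid.End V) : V →+ V).toZModLinearMap 3
  have hT : ∀ w v, T w v = (σ w : (AddMonoid.End V)ˣ) • v := fun _ _ => rfl
  have hind : LinearIndependent (ZMod 3) T := by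
    refine OP71.indep_of_eigen T (fun i h => ?_) fun i j hij => ?_
    · obtain ⟨v, hv⟩ := exists_ne (0 : V)
      have h1 := LinearMap.congr_fun h v
      rw [hT] at h1
      exact hv ((smul_eq_zero_iff_eq _).1 h1)
    · obtain ⟨w, hw⟩ : ∃ w, Q.Φ.B w i ≠ Q.Φ.B w j := by
        by_contra hcon
        push Not at hcon
        refine hij ?_
        have h1 : i + j = 0 := Q.Φ.nondeg _ fun w => by
          rw [Q.Φ.add_left, Q.Φ.symm i w, Q.Φ.symm j w, hcon, zmod_two_add_self]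
        rwa [add_eq_zero_iff_eq_neg, Q.Φ.toBForm.neg_eq] at h1
      let y : (AddMonoid.End V)ˣ := σ w
      let L : Module.End (ZMod 3) V →+ Module.End (ZMod 3) V :=
        { toFun := fun f => (AddMonoidHom.mk' (fun v => y • f (y⁻¹ • v))
            (fun a b => by rw [smul_add, map_add, smul_add])).toZModLinearMap 3
          map_zero' := LinearMap.ext fun v => smul_zero y
          map_add' := fun f f' => LinearMap.ext fun v => smul_add y (f (y⁻¹ • v)) (f' (y⁻¹ • v)) }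
      let χ : W → ZMod 3 := fun k => if Q.Φ.B w k = 0 then 1 else -1
      refine ⟨L, χ, fun a k => ?_, ?_⟩
      · refine LinearMap.ext fun v => ?_
        show y • (a • T k (y⁻¹ • v)) = (χ k * a) • T k v
        have hlin : ∀ (x : V), y • (a • x) = a • (y • x) := fun x =>
          (((y : AddMonoid.End V) : V →+ V).toZModLinearMap 3).map_smul a x
        rw [hlin, hT, hT, ← mul_smul, ← mul_smul]
        show a • ((y * σ k * y⁻¹) • v) = _
        rw [mul_comm (χ k) a, mul_smul a (χ k)]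
        congr 1
        have hcm : y * (σ k : (AddMonoid.End V)ˣ) * y⁻¹ =
            ⁅y, (σ k : (AddMonoid.End V)ˣ)⁆ * σ k := by
          rw [commutatorElement_def]; group
        rw [hcm, mul_smul]
        have hiff : ⁅y, (σ k : (AddMonoid.End V)ˣ)⁆ = 1 ↔ Q.Φ.B w k = 0 := by
          rw [← Q.B_eq, hσ, hσ]
        show _ = (if Q.Φ.B w k = 0 then (1 : ZMod 3) else -1) • _
        split_ifs with hk
        · rw [hiff.2 hk, one_smul, one_smul]
        · rw [(c.mem_Z (c.hF.comm_mem _ (σ w).2 _ (σ k).2)).resolve_left (fun h => hk (hiff.1 h)),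
            neg_one_smul]
          rfl
      · show (if Q.Φ.B w i = 0 then (1 : ZMod 3) else -1) ≠ if Q.Φ.B w j = 0 then 1 else -1
        rcases zmod_two_cases (Q.Φ.B w i) with h | h <;>
          rcases zmod_two_cases (Q.Φ.B w j) with h' | h' <;> rw [h, h'] at hw ⊢
        · exact absurd rfl hw
        · rw [if_pos rfl, if_neg one_ne_zero]
          exact one_ne_neg_one_three
        · rw [if_pos rfl, if_neg one_ne_zero]
          exact one_ne_neg_one_three.symm
        · exact absurd rfl hw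
  have h := hind.fintype_card_le_finrank
  rw [Module.finrank_linearMap, ← Nat.card_eq_fintype_card, hm,
    show (4 : ℕ) ^ m = 2 ^ m * 2 ^ m by rw [← mul_pow]; norm_num] at h
  rw [Module.natCard_eq_pow_finrank (K := ZMod 3) (V := V), Nat.card_zmod]
  exact Nat.pow_le_pow_right (by norm_num) (Nat.mul_self_le_mul_self_iff.1 h)

theorem fx_pow_four [Finite W] {g : G} (h1 : (g : (AddMonoid.End V)ˣ) ≠ 1)
    (h2 : (g : (AddMonoid.End V)ˣ) ≠ -1) : fx V (g : (AddMonoid.End V)ˣ) ^ 4 ≤ Nat.card V ^ 3 := by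
  have hV : 1 ≤ Nat.card V := Nat.card_pos
  have key : ∀ {f : (AddMonoid.End V)ˣ}, f ∈ F → f ∉ Z → fx V f ^ 2 ≤ Nat.card V :=
    fun hf hz => c.fx_sq_of_mem hf hz
  by_cases hg : (g : (AddMonoid.End V)ˣ) ∈ F
  · have hz : (g : (AddMonoid.End V)ˣ) ∉ Z := fun h => (c.mem_Z h).elim h1 h2
    calc fx V (g : (AddMonoid.End V)ˣ) ^ 4 = (fx V (g : (AddMonoid.End V)ˣ) ^ 2) ^ 2 := by ring
      _ ≤ Nat.card V ^ 2 := Nat.pow_le_pow_left (key hg hz) 2
      _ ≤ Nat.card V ^ 3 := Nat.pow_le_pow_right hV (by norm_num)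
  · obtain ⟨w, hw⟩ : ∃ w, Q.ρ g • w ≠ w := by
      by_contra hcon
      push Not at hcon
      exact hg ((Q.ρ_eq_one_iff c g).1 (FaithfulSMul.eq_of_smul_eq_smul fun w : W => by
        rw [hcon, one_smul]))
    obtain ⟨a, rfl⟩ := Q.surj w
    have hne : ⁅(a : (AddMonoid.End V)ˣ), (g : (AddMonoid.End V)ˣ)⁆ ∉ Z := fun h => hw (by
      have h' := Q.π_commutator g a
      rw [(Q.eq_zero _).2 h, eq_comm, add_eq_zero_iff_eq_neg, Q.Φ.toBForm.neg_eq] at h'
      exact h'.symm)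
    calc fx V (g : (AddMonoid.End V)ˣ) ^ 4 = (fx V (g : (AddMonoid.End V)ˣ) ^ 2) ^ 2 := by ring
      _ ≤ (Nat.card V * fx V ⁅(a : (AddMonoid.End V)ˣ), (g : (AddMonoid.End V)ˣ)⁆) ^ 2 :=
          Nat.pow_le_pow_left (fx_sq_le _ _) 2
      _ = Nat.card V ^ 2 * fx V ⁅(a : (AddMonoid.End V)ˣ), (g : (AddMonoid.End V)ˣ)⁆ ^ 2 := by ring
      _ ≤ Nat.card V ^ 2 * Nat.card V :=
          Nat.mul_le_mul_left _ (key (commutator_mem hn g a) hne)
      _ = Nat.card V ^ 3 := by ring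

theorem fx_sq [Finite W] {g : G} (h1 : (g : (AddMonoid.End V)ˣ) ≠ 1) (hns : ¬ Q.Spec g) :
    fx V (g : (AddMonoid.End V)ˣ) ^ 2 ≤ Nat.card V := by
  have hV : 1 ≤ Nat.card V := Nat.card_pos
  have key : ∀ {f : (AddMonoid.End V)ˣ}, f ∈ F → f ≠ 1 → fx V f ^ 2 ≤ Nat.card V := by
    intro f hf hf1
    by_cases hz : f ∈ Z
    · rw [(c.mem_Z hz).resolve_left hf1, c.fx_neg_one, one_pow]
      exact hV
    · exact c.fx_sq_of_mem hf hz
  by_cases hg : (g : (AddMonoid.End V)ˣ) ∈ F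
  · exact key hg h1
  by_cases hsp : ∀ x, Q.Φ.q (x + Q.ρ g • x) = 0
  · have hg2 : (g : (AddMonoid.End V)ˣ) ^ 2 ≠ 1 := fun h => hns ⟨hg, h, hsp⟩
    have hρ : Q.ρ (g ^ 2) = 1 := by
      rw [map_pow, pow_two]
      exact mul_self_of_special ((Q.good c).pres _ ⟨g, rfl⟩) hsp
    have hF2 : (g : (AddMonoid.End V)ˣ) ^ 2 ∈ F := (Q.ρ_eq_one_iff c (g ^ 2)).1 hρ
    refine le_trans ?_ (key hF2 hg2)
    refine Nat.pow_le_pow_left (AddSubgroup.card_le_of_le fun v hv => ?_) 2
    show (g : (AddMonoid.End V)ˣ) ^ 2 • v = v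
    rw [pow_two, mul_smul, show (g : (AddMonoid.End V)ˣ) • v = v from hv, hv]
  · push Not at hsp
    obtain ⟨w, hw⟩ := hsp
    obtain ⟨a, rfl⟩ := Q.surj w
    have hsq : ⁅(a : (AddMonoid.End V)ˣ), (g : (AddMonoid.End V)ˣ)⁆ ^ 2 = -1 := by
      rw [← Q.π_commutator g a] at hw
      refine (c.mem_Z (c.sq_mem (commutator_mem hn g a))).resolve_left fun h => hw ?_
      exact (Q.q_eq _).2 h
    have h := fx_sq_le (V := V) (g : (AddMonoid.End V)ˣ) (a : (AddMonoid.End V)ˣ)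
    rw [c.fx_of_sq hsq, mul_one] at h
    exact h

end

end Quo

end Cfsg.Agent.DP71.Three
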