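import Cfsg.Agent.Lib.DolfiPair71.ThreeCount
import Cfsg.Agent.Lib.Chars.RegularOrbit

/-!
# The frame over the field with three elements: rank two
-/

set_option autoImplicit false
set_option linter.unusedSectionVars false
set_option linter.style.haveILetI false

namespace Cfsg.Agent.DP71.Three

open scoped commutatorElement
open Cfsg.Agent.Lib.BaseThree
open Cfsg.Agent.OP71 (fx fixSub mem_fixSub)

variable {V : Type} [AddCommGroup V] [Finite V] [Nontrivial V]
  {G Z F : Subgroup (AddMonoid.End V)ˣ} {K : Subring (AddMonoid.End V)}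

/-- Conjugation of multiplicatively written vectors. -/
def toMulAutHom {H : Type*} [Group H] [DistribMulAction H V] :
    H →* MulAut (Multiplicative V) where
  toFun h :=
    { toFun := fun v => Multiplicative.ofAdd (h • v.toAdd)
      invFun := fun v => Multiplicative.ofAdd (h⁻¹ • v.toAdd)
      left_inv := fun v => by simp
      right_inv := fun v => by simp
      map_mul' := fun v w => by
        show Multiplicative.ofAdd (h • (v.toAdd + w.toAdd)) = _
        rw [smul_add]
        rfl }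
  map_one' := MulEquiv.ext fun v => by
    show Multiplicative.ofAdd ((1 : H) • v.toAdd) = v
    rw [one_smul]
    rfl
  map_mul' a b := MulEquiv.ext fun v => by
    show Multiplicative.ofAdd ((a * b) • v.toAdd) = Multiplicative.ofAdd (a • b • v.toAdd)
    rw [mul_smul]

theorem coprime_card (c : Ctx G Z F K) (H : Subgroup G) :
    (Nat.card H).Coprime (Nat.card V) := by
  haveI : Fact (Nat.Prime 3) := ⟨Nat.prime_three⟩
  obtain ⟨d, hd⟩ := OP71.card_natPrime_pow_eq Nat.prime_three c.three_nsmul_zero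
  rw [hd]
  exact ((Nat.prime_three.coprime_iff_not_dvd).2 fun h =>
    c.three (h.trans (Subgroup.card_subgroup_dvd_card H))).symm.pow_right d

/-- The case of rank two. -/
theorem pair_two {W : Type} [AddCommGroup W] [Finite W]
    (c : Ctx G Z F K) (Q : Quo G Z F c.hF.norm W) (hW : Nat.card W = 16) : HasPair G := by
  classical
  have hgood := Q.good c
  obtain ⟨R, hRn, hR, hsemi, hCR, -, -⟩ := hgood.rankTwo hW
  haveI : R.Normal := hRn
  haveI := c.solv
  obtain ⟨w₁, hw₁, hq₁⟩ := Q.Φ.exists_singular (by omega)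
  obtain ⟨a, rfl⟩ := Q.surj w₁
  have haZ : (a : (AddMonoid.End V)ˣ) ∉ Z := fun h => hw₁ ((Q.eq_zero a).2 h)
  have ha2 : (a : (AddMonoid.End V)ˣ) * a = 1 := by rw [← pow_two]; exact (Q.q_eq a).1 hq₁
  -- a vector fixed by `a`
  obtain ⟨v, hv⟩ : ∃ v : V, v + (a : (AddMonoid.End V)ˣ) • v ≠ 0 := by
    by_contra hcon
    push Not at hcon
    refine haZ ?_
    have : (a : (AddMonoid.End V)ˣ) = -1 := Units.ext (DFunLike.ext _ _ fun v =>
      eq_neg_of_add_eq_zero_right (hcon v))
    rw [this]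
    exact c.hS.neg_one_mem
  set x := v + (a : (AddMonoid.End V)ˣ) • v with hxdef
  have hax : (a : (AddMonoid.End V)ˣ) • x = x := by
    rw [hxdef, smul_add, ← mul_smul, ha2, one_smul, add_comm]
  have hnegx : ∀ f : (AddMonoid.End V)ˣ, f • x = x → f ≠ -1 := by
    intro f hf he
    subst he
    have h1 : -x = x := hf
    exact hv (c.eq_zero_of_two (by nth_rewrite 2 [← h1]; exact add_neg_cancel x))
  -- the centraliser in `F` of the vector
  let E : AddSubgroup W :=
    { carrier := {w | ∃ f : F, Q.π f = w ∧ (f : (AddMonoid.End V)ˣ) • x = x}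
      zero_mem' := ⟨1, Q.π_one, one_smul _ x⟩
      add_mem' := by
        rintro _ _ ⟨f, rfl, hf⟩ ⟨g, rfl, hg⟩
        exact ⟨f * g, Q.π_mul f g, by rw [Subgroup.coe_mul, mul_smul, hg, hf]⟩
      neg_mem' := by
        rintro _ ⟨f, rfl, hf⟩
        exact ⟨f⁻¹, by rw [Q.π_inv, Q.Φ.toBForm.neg_eq],
          by rw [Subgroup.coe_inv, inv_smul_eq_iff, hf]⟩ }
  have hEq : ∀ w ∈ E, Q.Φ.q w = 0 := by
    rintro _ ⟨f, rfl, hf⟩
    refine (Q.q_eq f).2 ((c.mem_Z (c.sq_mem f.2)).resolve_right (hnegx _ ?_))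
    rw [pow_two, mul_smul, hf, hf]
  have haE : Q.π a ∈ E := ⟨a, rfl, hax⟩
  obtain ⟨j, hj⟩ := card_pow_two (U := E) Q.Φ.toBForm.exp
  have hle16 : Nat.card E * Nat.card E ≤ 16 := by
    refine le_trans (Nat.mul_le_mul_left _ (AddSubgroup.card_le_of_le ?_))
      (hW ▸ Q.Φ.toBForm.card_mul_perp_le E)
    exact fun u hu v hv => Q.Φ.iso_of_singular hEq u hu v hv
  have hE2 : Nat.card E = 2 := by
    have h2 : 2 ≤ Nat.card E := by
      haveI : Nontrivial E := ⟨⟨⟨_, haE⟩, 0, fun h => hw₁ (congrArg Subtype.val h)⟩⟩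
      exact Finite.one_lt_card
    rcases j with _ | _ | _ | j
    · rw [hj] at h2; norm_num at h2
    · rw [hj]; norm_num
    · exfalso
      have h10 := Q.Φ.card_singular hEq (by rw [hj]; norm_num) hW
      letI : MulAction R {w : W // Q.Φ.q w = 0} :=
        { smul := fun t w => ⟨(t : Q.ρ.range) • w.1, by
            rw [show Q.Φ.q ((t : Q.ρ.range) • w.1) = Q.Φ.q w.1 from hgood.pres _ (t : Q.ρ.range).2 _]
            exact w.2⟩
          one_smul := fun w => Subtype.ext (one_smul Q.ρ.range w.1)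
          mul_smul := fun s t w => Subtype.ext (mul_smul (s : Q.ρ.range) (t : Q.ρ.range) w.1) }
      haveI : Fact (Nat.Prime 5) := ⟨by norm_num⟩
      have h := (IsPGroup.of_card (n := 1) (by rw [hR, pow_one]) :
        IsPGroup 5 R).card_modEq_card_fixedPoints {w : W // Q.Φ.q w = 0}
      have h1 : Nat.card (MulAction.fixedPoints R {w : W // Q.Φ.q w = 0}) = 1 := by
        rw [Nat.card_eq_one_iff_unique]
        refine ⟨⟨fun s t => ?_⟩, ⟨⟨⟨0, Q.Φ.q_zero⟩, fun t => Subtype.ext (smul_zero (t : Q.ρ.range))⟩⟩⟩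
        haveI : Nontrivial R := Finite.one_lt_card_iff_nontrivial.1 (by omega)
        obtain ⟨t₀, ht₀⟩ := exists_ne (1 : R)
        have key : ∀ u : MulAction.fixedPoints R {w : W // Q.Φ.q w = 0}, u.1.1 = 0 := by
          intro u
          by_contra hu
          exact ht₀ (Subtype.ext (hsemi _ t₀.2 _ hu (congrArg Subtype.val (u.2 t₀))))
        exact Subtype.ext (Subtype.ext ((key s).trans (key t).symm))
      rw [h10, h1] at h
      exact absurd h (by decide)
    · have : 8 ≤ Nat.card E := by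
        rw [hj]; exact le_trans (by norm_num) (Nat.pow_le_pow_right (by norm_num)
          (show 3 ≤ j + 1 + 1 + 1 by omega))
      nlinarith
  have hfix : ∀ f : F, (f : (AddMonoid.End V)ˣ) • x = x → f = 1 ∨ f = a := by
    intro f hf
    have hmem : Q.π f = 0 ∨ Q.π f = Q.π a := by
      by_contra hcon
      push Not at hcon
      have hu := (Nat.card_eq_two_iff' (0 : E)).1 hE2
      have h1 := hu.unique (y₁ := (⟨_, f, rfl, hf⟩ : E)) (y₂ := (⟨_, haE⟩ : E))
        (fun e => hcon.1 (congrArg Subtype.val e)) (fun e => hw₁ (congrArg Subtype.val e))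
      exact hcon.2 (congrArg Subtype.val h1)
    have key : ∀ g : F, (g : (AddMonoid.End V)ˣ) • x = x → Q.π g = 0 → g = 1 := fun g hg h0 =>
      Subtype.ext ((c.mem_Z ((Q.eq_zero g).1 h0)).resolve_right (hnegx _ hg))
    rcases hmem with h | h
    · exact Or.inl (key f hf h)
    · refine Or.inr ?_
      have h1 := key (a⁻¹ * f) (by
        rw [Subgroup.coe_mul, Subgroup.coe_inv, mul_smul, hf, inv_smul_eq_iff, hax])
        (by rw [Q.π_mul, Q.π_inv, h, Q.Φ.toBForm.exp])
      exact (inv_mul_eq_one.1 h1).symm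
  -- the stabiliser of the vector is abelian
  let H : Subgroup G := MulAction.stabilizer G x
  have hcent : ∀ h : H, (h.1 : (AddMonoid.End V)ˣ) * a * (h.1 : (AddMonoid.End V)ˣ)⁻¹ = a := by
    intro h
    have hh : (h.1 : (AddMonoid.End V)ˣ) • x = x := h.2
    rcases hfix ⟨_, c.hF.norm _ h.1.2 _ a.2⟩ (by
      show ((h.1 : (AddMonoid.End V)ˣ) * a * (h.1 : (AddMonoid.End V)ˣ)⁻¹) • x = x
      rw [mul_smul, mul_smul, inv_smul_eq_iff.2 hh.symm, hax, hh]) with e | e
    · exfalso
      have h1 : (h.1 : (AddMonoid.End V)ˣ) * a * (h.1 : (AddMonoid.End V)ˣ)⁻¹ = 1 :=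
        congrArg Subtype.val e
      rw [conj_eq_one_iff] at h1
      exact haZ (h1 ▸ Z.one_mem)
    · exact congrArg Subtype.val e
  obtain ⟨hcyc, hker, -⟩ := conj_facts (by norm_num : Nat.Prime 5) R hR
  haveI := hcyc
  let f : H →* MulAut R :=
    (MulAut.conjNormal : Q.ρ.range →* MulAut R).comp (Q.ρ.rangeRestrict.comp H.subtype)
  have hfker : f.ker ≤ Subgroup.center H := by
    intro h hh
    have h1 : Q.ρ.rangeRestrict h.1 ∈ R := by
      rw [← hCR, ← hker, MonoidHom.mem_ker]
      exact hh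
    have h2 : Q.ρ.rangeRestrict h.1 = 1 := hsemi _ h1 _ hw₁ (by
      show Q.ρ h.1 • Q.π a = Q.π a
      rw [Q.act]
      exact congrArg Q.π (Subtype.ext (hcent h)))
    have h3 : (h.1 : (AddMonoid.End V)ˣ) ∈ F :=
      (Q.ρ_eq_one_iff c h.1).1 (congrArg Subtype.val h2)
    rw [Subgroup.mem_center_iff]
    intro g
    rcases hfix ⟨_, h3⟩ (h.2 : (h.1 : (AddMonoid.End V)ˣ) • x = x) with e | e
    · have e1 : (h.1 : (AddMonoid.End V)ˣ) = 1 :=
        (congrArg (fun z : F => (z : (AddMonoid.End V)ˣ)) e :)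
      rw [show h = 1 from Subtype.ext (Subtype.ext e1), mul_one, one_mul]
    · refine Subtype.ext (Subtype.ext ?_)
      show (g.1 : (AddMonoid.End V)ˣ) * h.1 = h.1 * g.1
      rw [show (h.1 : (AddMonoid.End V)ˣ) = a from congrArg Subtype.val e]
      exact mul_inv_eq_iff_eq_mul.1 (hcent g)
  have hHcomm : ∀ p q : H, p * q = q * p :=
    (f.isMulCommutative_of_isCyclic_of_ker_le_center hfker).is_comm.comm
  -- a regular orbit of the stabiliser
  obtain ⟨d, hd⟩ := Lib.Chars.exists_regular_point (toMulAutHom (V := V) (H := H))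
    (fun p q => by rw [← map_mul, hHcomm, map_mul]) (by
      rw [Nat.card_congr Multiplicative.toAdd]
      exact coprime_card c H)
  refine ⟨x, d.toAdd, fun g hg hgx hgd => ?_⟩
  have h1 := hd ⟨⟨g, hg⟩, hgx⟩ (congrArg Multiplicative.ofAdd hgd)
  exact FaithfulSMul.eq_of_smul_eq_smul fun w : V => by
    rw [one_smul]
    exact congrArg Multiplicative.toAdd (DFunLike.congr_fun h1 (Multiplicative.ofAdd w))

end Cfsg.Agent.DP71.Three
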